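import Cfsg.Agent.OddOrder.BG15.Exponent

/-!
# Theorem B: the complement `U` in `M = K U M_σ`
-/

set_option autoImplicit false
set_option linter.style.haveILetI false
set_option linter.unusedVariables false

universe u

namespace Cfsg.Agent.OddOrder.BG15

open Subgroup H40

variable {G : Type u} [Group G] [Finite G]

theorem isSylowOf_of_hall {π : Set ℕ} {H M S : Subgroup G} (hH : IsPiHallOf π H M) {p : ℕ}
    (hp : p.Prime) (hπ : p ∈ π) (hS : IsSylowOf p S H) : IsSylowOf p S M := by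
  refine ⟨hS.1.trans hH.1, hS.2.1, ?_⟩
  have e : Nat.card H * H.relIndex M = Nat.card M := by
    have e := relIndex_mul_relIndex (⊥ : Subgroup G) H M bot_le hH.1
    rwa [relIndex_bot_left, relIndex_bot_left] at e
  have h0 : H.relIndex M ≠ 0 := fun h0 => by
    rw [h0, mul_zero] at e
    exact Nat.card_pos.ne e
  rw [hS.2.2, ← e, Nat.factorization_mul Nat.card_pos.ne' h0, Finsupp.add_apply,
    Nat.factorization_eq_zero_of_not_dvd (hH.2.2 p hp hπ), add_zero]

theorem hat_iff {M : Subgroup G} {a : G} :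
    a ∈ sigmaHat M ↔ a ∈ M ∧ ∃ y ∈ sigmaCore M, y ≠ 1 ∧ a * y = y * a := Iff.rfl

/-- The hypothesis of 12.11 holds when `κ(M)` is empty. -/
theorem compl_hyp (h : Facts G) {M E : Subgroup G} (hM : IsCoatom M)
    (hE : IsComplIn E (sigmaCore M) M) (hκ : kappa M = ∅) :
    ∀ e ∈ E, e ≠ 1 → (∀ p : ℕ, p.Prime → p ∣ orderOf e → p ∈ tau1 M ∪ tau3 M) →
      sigmaCore M ⊓ centralizer ({e} : Set G) = ⊥ := by
  intro e he he1 hτ
  obtain ⟨p, hp, hd⟩ := prime_dvd_of_orderOf he1
  obtain ⟨y, hy, hyo⟩ := exists_pow_prime hp hd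
  have hr : p ∉ sigma M ∧ PRankLE p 1 M := by
    rcases hτ p hp hd with h1 | h1
    · exact ⟨h1.2.1, h1.2.2.2.2⟩
    · exact ⟨h1.2.1, h1.2.2.2⟩
  refine eq_bot_iff.mpr fun s hs => mem_bot.mpr ?_
  exact kappa_fpf h.minSimple hM hp hr.1 (by rw [hκ]; exact Set.notMem_empty p) hr.2
    (hE.1 ((zpowers_le.mpr he) hy)) hyo hs.1
    (commute_of_mem_zpowers hy (mem_centralizer_singleton.mp hs.2).symm)

section

variable {M K U : Subgroup G}

/-- `U` is abelian when `K ≠ 1`. -/
theorem U_comm (h : Facts G) (hM : IsCoatom M) (D : IsSigmaDecomposition M K U) (hK1 : K ≠ ⊥) :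
    IsMulCommutative U := by
  obtain ⟨U', hU'c, hU', -, -⟩ := (h.primeAction M hM K D.hall hK1).2.1
  obtain ⟨m, hm, e⟩ := Coprime.exists_conj_hallOf (solvable h.minSimple hM) hU'
    (U_hall h.minSimple hM D)
  haveI := hU'c
  rw [← e]
  exact Subgroup.map_isMulCommutative _ _

/-- S1358. -/
theorem sylow_U (h : Facts G) (hM : IsCoatom M) (D : IsSigmaDecomposition M K U) :
    ∀ p : ℕ, p.Prime → ∀ P : Sylow p U,
      IsMulCommutative (P : Subgroup U) ∧ PRankLE p 2 (P : Subgroup U) := by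
  intro p hp P
  haveI := Fact.mk hp
  set Q : Subgroup G := (P : Subgroup U).map U.subtype
  have e : ↥(P : Subgroup U) ≃* ↥Q :=
    (P : Subgroup U).equivMapOfInjective U.subtype U.subtype_injective
  have hQU : Q ≤ U := map_subtype_le _
  have hQp : IsPGroup p Q := P.isPGroup'.map _
  obtain ⟨E, hE⟩ := exists_compl h.minSimple hM
  have hc : IsMulCommutative Q := (h.complAbelian M hM E hE).1 Q (hQU.trans (decomp_le D).2)
    hQp.isNilpotent fun q hq hd =>
      (not_dvd_U_of_sigma h.minSimple hM D hq (hd.trans (card_dvd_of_le hQU))).1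
  refine ⟨⟨⟨fun a b => e.injective (by rw [map_mul, map_mul]; exact hc.is_comm.comm _ _)⟩⟩, ?_⟩
  by_cases hd : p ∣ Nat.card U
  · refine pRankLE_congr e.symm (pRankLE_mono_le (hQU.trans (decomp_le D).2) ?_)
    exact BG10.pRankLE_two_of_not_alpha hp fun ha =>
      (not_dvd_U_of_sigma h.minSimple hM D hp hd).1 (BG10.alpha_subset_sigma h.minSimple hM ha)
  · intro E' _ _
    obtain ⟨n, hn⟩ := IsPGroup.iff_card.mp P.isPGroup'
    have h0 : n = 0 := by
      by_contra h0
      exact hd ((hn ▸ dvd_pow_self p h0).trans (card_subgroup_dvd_card _))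
    have h1 := Nat.le_of_dvd Nat.card_pos (card_subgroup_dvd_card E')
    rw [hn, h0, pow_zero] at h1
    exact h1.trans (Nat.one_le_pow _ _ hp.pos)

/-- S1359. -/
theorem hat_comm (h : Facts G) (hM : IsCoatom M) (D : IsSigmaDecomposition M K U) :
    IsMulCommutative (Subgroup.closure ((U : Set G) ∩ sigmaHat M)) := by
  refine isMulCommutative_closure ?_
  rintro a ⟨haU, ha⟩ b ⟨hbU, hb⟩
  by_cases hK : K = ⊥
  · have hE := isComplIn_U D hK
    obtain ⟨⟨A₀, -, -, hA₀c, hA₀⟩, -⟩ :=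
      h.complExponent M hM U hE (compl_hyp h hM hE (kappa_eq_empty D hK))
    have hin : ∀ c ∈ U, c ∈ sigmaHat M → c ∈ A₀ := by
      intro c hcU hc
      obtain ⟨-, y, hy, hy1, hcy⟩ := hat_iff.mp hc
      exact hA₀ y hy hy1 ⟨hcU, mem_centralizer_singleton.mpr hcy⟩
    exact PGroups.comm_of_isMulCommutative hA₀c (hin a haU ha) (hin b hbU hb)
  · exact PGroups.comm_of_isMulCommutative (U_comm h hM D hK) haU hbU

/-- The elements of `U` commuting with a given one and of order prime to `q`. -/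
def coprimePart (U : Subgroup G) (hU : IsMulCommutative U) (q : ℕ) : Subgroup G where
  carrier := {x | x ∈ U ∧ (orderOf x).Coprime q}
  one_mem' := ⟨one_mem _, by rw [orderOf_one]; exact Nat.coprime_one_left q⟩
  mul_mem' := by
    rintro a b ⟨ha, ha'⟩ ⟨hb, hb'⟩
    exact ⟨mul_mem ha hb, Nat.Coprime.coprime_dvd_left
      (Commute.orderOf_mul_dvd_mul_orderOf (PGroups.comm_of_isMulCommutative hU ha hb))
      (Nat.Coprime.mul_left ha' hb')⟩
  inv_mem' := by
    rintro a ⟨ha, ha'⟩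
    exact ⟨inv_mem ha, by rwa [orderOf_inv]⟩

/-- S1360 in the abelian case. -/
theorem exists_exponent_fpf_of_comm (h : Facts G) (hM : IsCoatom M)
    (D : IsSigmaDecomposition M K U) (hUc : IsMulCommutative U) :
    ∃ U₀ : Subgroup G, U₀ ≤ U ∧ Monoid.exponent U₀ = Monoid.exponent U ∧
      ∀ u ∈ U₀, u ∈ sigmaHat M → u = 1 := by
  have hG := h.minSimple
  have hchoice : ∀ q ∈ (Nat.card U).primeFactors, ∃ t ∈ U, (∃ T : Subgroup G,
      IsSylowOf q T U ∧ t ∈ T ∧ orderOf t = Monoid.exponent T) ∧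
      ∀ y ∈ zpowers t, y ≠ 1 → ∀ s ∈ sigmaCore M, y * s = s * y → s = 1 := by
    intro q hq
    obtain ⟨hqp, hqd, -⟩ := Nat.mem_primeFactors.mp hq
    haveI := Fact.mk hqp
    obtain ⟨hs, hk⟩ := not_dvd_U_of_sigma hG hM D hqp hqd
    obtain ⟨T, hT⟩ := BG11.exists_sylowOf q U
    have hTM := isSylowOf_of_hall (U_hall hG hM D) hqp ⟨hqp, hk, hs⟩ hT
    obtain ⟨t, ht, hto, htf⟩ := exists_fpf_max h hM hs hk hTM
      (hqd.trans (card_dvd_of_le (decomp_le D).2))
    exact ⟨t, hT.1 ht, ⟨T, hT, ht, hto⟩, htf⟩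
  choose! t htU hT htf using hchoice
  set U₀ : Subgroup G := Subgroup.closure (t '' ↑(Nat.card U).primeFactors) with hU₀
  have hU₀U : U₀ ≤ U := (closure_le U).mpr (by rintro _ ⟨q, hq, rfl⟩; exact htU q hq)
  haveI hU₀c : IsMulCommutative U₀ := PGroups.isMulCommutative_of_comm fun a ha b hb =>
    PGroups.comm_of_isMulCommutative hUc (hU₀U ha) (hU₀U hb)
  refine ⟨U₀, hU₀U, Nat.dvd_antisymm (Monoid.exponent_dvd_of_monoidHom (inclusion hU₀U)
    (inclusion_injective hU₀U)) (Monoid.exponent_dvd.mpr fun u => ?_), ?_⟩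
  · -- every prime-power divisor of the order of `u` divides the exponent of `U₀`
    refine (Nat.factorization_le_iff_dvd
      (orderOf_pos u).ne' (Monoid.exponent_ne_zero_of_finite)).mp ?_
    intro q
    by_cases hq : q ∈ (orderOf u).primeFactors
    swap
    · rw [← Nat.support_factorization, Finsupp.notMem_support_iff] at hq
      simp [hq]
    obtain ⟨hqp, hqd, -⟩ := Nat.mem_primeFactors.mp hq
    haveI := Fact.mk hqp
    have hqU : q ∈ (Nat.card U).primeFactors :=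
      Nat.mem_primeFactors.mpr ⟨hqp, hqd.trans (orderOf_dvd_natCard u), Nat.card_pos.ne'⟩
    obtain ⟨T, hTU, htT, hto⟩ := hT q hqU
    set k := (orderOf u).factorization q
    set v : G := (u : G) ^ (orderOf u / q ^ k)
    have hvo : orderOf v = q ^ k := by
      have hd : q ^ k ∣ orderOf (u : G) := by rw [orderOf_coe]; exact Nat.ordProj_dvd _ _
      have := orderOf_pow_orderOf_div (orderOf_pos (u : G)).ne' hd
      rwa [orderOf_coe] at this
    have hvU : v ∈ U := pow_mem u.2 _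
    obtain ⟨m, hm, hle⟩ := BG11.exists_conj_le hTU
      (IsPGroup.of_card (n := k) (by rw [Nat.card_zpowers, hvo]) : IsPGroup q (zpowers v))
      (zpowers_le.mpr hvU)
    have hvT : v ∈ T := by
      have h1 := hle (conj_mem_cj m (mem_zpowers v))
      rwa [PGroups.comm_of_isMulCommutative hUc hm hvU, mul_inv_cancel_right] at h1
    have h1 : q ^ k ∣ Monoid.exponent U₀ := by
      have h2 : orderOf (t q) ∣ Monoid.exponent U₀ := by
        have := Monoid.order_dvd_exponent (G := U₀) ⟨t q, subset_closure ⟨q, hqU, rfl⟩⟩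
        rwa [Subgroup.orderOf_mk] at this
      refine dvd_trans ?_ h2
      rw [hto, ← hvo]
      exact orderOf_dvd_of_pow_eq_one (pow_exponent_eq_one hvT)
    exact (hqp.pow_dvd_iff_le_factorization Monoid.exponent_ne_zero_of_finite).mp h1
  · intro u hu hus
    by_contra hu1
    obtain ⟨-, s, hs, hs1, hus'⟩ := hat_iff.mp hus
    obtain ⟨q, hqp, hqd⟩ := prime_dvd_of_orderOf hu1
    obtain ⟨y, hy, hyo⟩ := exists_pow_prime hqp hqd
    have hyU₀ : y ∈ U₀ := (zpowers_le.mpr hu) hy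
    have hqU : q ∈ (Nat.card U).primeFactors :=
      Nat.mem_primeFactors.mpr ⟨hqp, hyo ▸ orderOf_dvd_card (hU₀U hyU₀), Nat.card_pos.ne'⟩
    obtain ⟨T, hTU, htT, -⟩ := hT q hqU
    have hn : zpowers (t q) ≤ normalizer (coprimePart U hUc q : Set G) := by
      refine zpowers_le.mpr (mem_normalizer_iff.mpr fun x => ⟨fun hx => ?_, fun hx => ?_⟩)
      · rwa [PGroups.comm_of_isMulCommutative hUc (htU q hqU) hx.1, mul_inv_cancel_right]
      · have hxU : x ∈ U := by
          have := mul_mem (mul_mem (inv_mem (htU q hqU)) hx.1) (htU q hqU)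
          simpa [mul_assoc] using this
        rwa [PGroups.comm_of_isMulCommutative hUc (htU q hqU) hxU, mul_inv_cancel_right] at hx
    have hle : U₀ ≤ zpowers (t q) ⊔ coprimePart U hUc q := by
      refine (closure_le _).mpr ?_
      rintro _ ⟨r, hr, rfl⟩
      by_cases hrq : r = q
      · subst hrq; exact mem_sup_left (mem_zpowers _)
      · obtain ⟨T', hT', ht', -⟩ := hT r hr
        haveI := Fact.mk (Nat.prime_of_mem_primeFactors hr)
        refine mem_sup_right ⟨htU r hr, ?_⟩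
        obtain ⟨e, he⟩ := IsPGroup.iff_orderOf.mp hT'.2.1 ⟨t r, ht'⟩
        rw [Subgroup.orderOf_mk] at he
        rw [he]
        exact ((Nat.coprime_primes (Nat.prime_of_mem_primeFactors hr) hqp).mpr hrq).pow_left e
    obtain ⟨a, ha, b, ⟨hbU, hb⟩, hab⟩ := exists_of_mem_sup hn (hle hyU₀)
    haveI := Fact.mk hqp
    obtain ⟨e, he⟩ := IsPGroup.iff_orderOf.mp hTU.2.1 ⟨t q, htT⟩
    rw [Subgroup.orderOf_mk] at he
    have hao : orderOf a ∣ q ^ e := he ▸ (orderOf_dvd_card ha).trans (Nat.card_zpowers _).dvd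
    have hcm : Commute a b :=
      PGroups.comm_of_isMulCommutative hUc ((zpowers_le.mpr (htU q hqU)) ha) hbU
    have hb1 : b = 1 := by
      have h2 : orderOf a * orderOf b = q := by
        rw [← hcm.orderOf_mul_eq_mul_orderOf_of_coprime
          ((hb.symm.pow_left e).coprime_dvd_left hao), ← hab, hyo]
      exact orderOf_eq_one_iff.mp (Nat.eq_one_of_dvd_coprimes hb dvd_rfl (Dvd.intro_left _ h2))
    rw [hb1, mul_one] at hab
    subst hab
    exact hs1 (htf q hqU _ ha (ne_one_of_prime_orderOf hqp hyo) s hs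
      (commute_of_mem_zpowers hy hus'))

/-- S1360. -/
theorem exists_exponent_fpf (h : Facts G) (hM : IsCoatom M) (D : IsSigmaDecomposition M K U) :
    ∃ U₀ : Subgroup G, U₀ ≤ U ∧ Monoid.exponent U₀ = Monoid.exponent U ∧
      ∀ u ∈ U₀, u ∈ sigmaHat M → u = 1 := by
  by_cases hK : K = ⊥
  · have hE := isComplIn_U D hK
    obtain ⟨-, E₀, hE₀, hexp, hf⟩ :=
      h.complExponent M hM U hE (compl_hyp h hM hE (kappa_eq_empty D hK))
    refine ⟨E₀, hE₀, hexp, fun u hu hus => ?_⟩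
    obtain ⟨-, s, hs, hs1, hc⟩ := hat_iff.mp hus
    by_contra hu1
    exact hs1 (mem_bot.mp (hf u hu hu1 ▸
      mem_inf.mpr ⟨hs, mem_centralizer_singleton.mpr hc.symm⟩))
  · exact exists_exponent_fpf_of_comm h hM D (U_comm h hM D hK)

/-- S1361. -/
theorem hat_unique (h : Facts G) (hM : IsCoatom M) (D : IsSigmaDecomposition M K U)
    {X : Subgroup G} (hXU : X ≤ U) (hX : X ≠ ⊥)
    (hXc : sigmaCore M ⊓ centralizer (X : Set G) ≠ ⊥) :
    centralizer (X : Set G) ≤ M ∧
      ∀ L : Subgroup G, IsCoatom L → centralizer (X : Set G) ≤ L → L = M := by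
  have hG := h.minSimple
  have hXM := hXU.trans (decomp_le D).2
  obtain ⟨s, hs, hs1, hsX⟩ := inf_centralizer_ne_bot_iff.mp hXc
  have hu : ∀ x ∈ X, x ≠ 1 → (∀ p : ℕ, p.Prime → p ∣ orderOf x → p ∈ tau2 M) :=
    fun x hx hx1 => (tau2_of_hat h hM (hXM hx) hx1
      (fun p hp hd => not_dvd_U_of_sigma hG hM D hp (hd.trans (orderOf_dvd_card (hXU hx))))
      hs hs1 (hsX x hx)).1
  have hXcm : IsMulCommutative X := by
    have hc := hat_comm h hM D
    refine PGroups.isMulCommutative_of_comm fun a ha b hb => ?_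
    exact PGroups.comm_of_isMulCommutative hc
      (subset_closure ⟨hXU ha, hat_iff.mpr ⟨hXM ha, s, hs, hs1, hsX a ha⟩⟩)
      (subset_closure ⟨hXU hb, hat_iff.mpr ⟨hXM hb, s, hs, hs1, hsX b hb⟩⟩)
  haveI := isCyclic_tau2 h hM hXM hXcm (fun p hp hd => by
    haveI := Fact.mk hp
    obtain ⟨x, hx⟩ := exists_prime_orderOf_dvd_card' p hd
    rw [← orderOf_coe] at hx
    exact hu x x.2 (ne_one_of_prime_orderOf hp hx) p hp (hx ▸ dvd_rfl)) hXc
  obtain ⟨g, hg⟩ := IsCyclic.exists_generator (α := X)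
  have hXg : X = zpowers (g : G) := le_antisymm
    (fun x hx => by
      obtain ⟨i, hi⟩ := mem_zpowers_iff.mp (hg ⟨x, hx⟩)
      exact mem_zpowers_iff.mpr ⟨i, by simpa using congrArg Subtype.val hi⟩)
    (zpowers_le.mpr g.2)
  have hg1 : (g : G) ≠ 1 := fun e => hX (by rw [hXg, e, zpowers_one_eq_bot])
  rw [hXg, centralizer_zpowers]
  exact tau2_unique h hM (hXM g.2) hg1 (hu g g.2 hg1) hs hs1 (hsX g g.2)

/-- The `σ'`-part of an element of `A(M)` has centralizer in `M` only. -/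
theorem sigmaA_part (h : Facts G) (hM : IsCoatom M) (D : IsSigmaDecomposition M K U) {a z : G}
    (ha : a ∈ sigmaA M U) (hz : z ∈ zpowers a) (hz1 : z ≠ 1)
    (hσ : ∀ p : ℕ, p.Prime → p ∣ orderOf z → p ∉ sigma M) :
    (∀ p : ℕ, p.Prime → p ∣ orderOf z → p ∈ tau2 M) ∧
      centralizer ({z} : Set G) ≤ M ∧ ∀ L : Subgroup G, IsCoatom L →
        centralizer ({z} : Set G) ≤ L → L = M := by
  obtain ⟨⟨haM, s, hs, hs1, has⟩, haU⟩ := ha
  refine tau2_of_hat h hM ((zpowers_le.mpr haM) hz) hz1 (fun p hp hd => ⟨hσ p hp hd, fun hk => ?_⟩)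
    hs hs1 (commute_of_mem_zpowers hz has)
  have h1 : p ∣ Nat.card ↥(U ⊔ sigmaCore M) := hd.trans (orderOf_dvd_card ((zpowers_le.mpr haU) hz))
  rw [card_sup_of_normalizes (le_normalizer_sigmaCore_of_le (decomp_le D).2)
    ((coprime_UK_sigmaCore h.minSimple hM D).coprime_dvd_left (Dvd.intro _ rfl))] at h1
  rcases hp.dvd_mul.mp h1 with h1 | h1
  · exact (not_dvd_U_of_sigma h.minSimple hM D hp h1).2 hk
  · exact hσ p hp hd (sigmaCore_isPiNumber M p hp h1)

/-- S1362. -/
theorem sigmaA_ti (h : Facts G) (hM : IsCoatom M) (D : IsSigmaDecomposition M K U) :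
    IsTISubset (sigmaA M U \ (sigmaCore M : Set G)) := by
  have hG := h.minSimple
  intro g hg a ha hga
  exfalso
  refine hg ?_
  have hgM : g ∈ M := by
    obtain ⟨y, z, hyz, hy, hz, hyo, hzo⟩ := exists_pi_parts (sigma M) a
    have hz1 : z ≠ 1 := by
      rintro rfl
      rw [mul_one] at hyz
      subst hyz
      exact ha.2 (mem_sigmaCore hG hM ha.1.1.1 hyo)
    obtain ⟨-, hzM, -⟩ := sigmaA_part h hM D ha.1 hz hz1 hzo
    set z' := g * z * g⁻¹
    have hz' : z' ∈ zpowers (g * a * g⁻¹) := by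
      obtain ⟨i, rfl⟩ := mem_zpowers_iff.mp hz
      exact mem_zpowers_iff.mpr ⟨i, by rw [conj_zpow]⟩
    have hz'o : orderOf z' = orderOf z := (MulAut.conj g).orderOf_eq z
    obtain ⟨-, -, hu⟩ := sigmaA_part h hM D hga.1 hz'
      (fun e => hz1 (conj_eq_one_iff.mp e)) (fun p hp hd => hzo p hp (hz'o ▸ hd))
    refine BG11.mem_of_cj_eq hG hM (hu (cj g M) (BG11.coatom_cj hM g) ?_)
    calc centralizer ({z'} : Set G) = centralizer (cj g (zpowers z) : Set G) := by
          rw [show cj g (zpowers z) = zpowers z' from MonoidHom.map_zpowers _ z,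
            centralizer_zpowers]
      _ = cj g (centralizer ((zpowers z : Subgroup G) : Set G)) := (BG11.cj_centralizer g _).symm
      _ ≤ cj g M := map_mono (by rw [centralizer_zpowers]; exact hzM)
  have hnorm : ∀ m ∈ M, ∀ b, b ∈ sigmaA M U \ (sigmaCore M : Set G) →
      m * b * m⁻¹ ∈ sigmaA M U \ (sigmaCore M : Set G) := by
    rintro m hm b ⟨⟨⟨hbM, s, hs, hs1, hbs⟩, hbU⟩, hb2⟩
    refine ⟨⟨⟨mul_mem (mul_mem hm hbM) (inv_mem hm), m * s * m⁻¹,
      Coprime.conj_mem (le_normalizer_sigmaCore M hm) hs, fun e => hs1 (conj_eq_one_iff.mp e), ?_⟩,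
      Coprime.conj_mem ((h.decompExists M hM K D.cyclic D.hall).2 U D hm) hbU⟩, fun h2 => hb2 ?_⟩
    · calc m * b * m⁻¹ * (m * s * m⁻¹) = m * (b * s) * m⁻¹ := by group
        _ = m * (s * b) * m⁻¹ := by rw [hbs]
        _ = m * s * m⁻¹ * (m * b * m⁻¹) := by group
    · have := Coprime.conj_mem' (le_normalizer_sigmaCore M hm) (h2 : m * b * m⁻¹ ∈ sigmaCore M)
      simpa [mul_assoc] using this
  refine mem_normalizer_iff_conj_image_eq.mpr (Set.ext fun b => ⟨?_, fun hb => ?_⟩)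
  · rintro ⟨c, hc, rfl⟩
    exact hnorm g hgM c hc
  · exact ⟨g⁻¹ * b * g⁻¹⁻¹, hnorm g⁻¹ (inv_mem hgM) b hb, by simp [mul_assoc]⟩

/-- S1363. -/
theorem U_structure (h : Facts G) (hM : IsCoatom M) (D : IsSigmaDecomposition M K U)
    (hK1 : K ≠ ⊥) : IsMulCommutative U ∧ ¬ normalizer (U : Set G) ≤ M := by
  refine ⟨U_comm h hM D hK1, fun hle => ?_⟩
  by_cases hU : U = ⊥
  · refine hM.1 (top_le_iff.mp ((le_of_eq ?_).trans hle))
    haveI : U.Normal := by rw [hU]; infer_instance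
    exact (normalizer_eq_top U).symm
  obtain ⟨Mstar, ⟨hMs, hKs, hKsH⟩, -⟩ := h.starExists M hM K U D hK1
  obtain ⟨r, hr, hrd⟩ := Nat.exists_prime_and_dvd (show Nat.card U ≠ 1 from
    fun e => hU (card_eq_one.mp e))
  haveI := Fact.mk hr
  obtain ⟨R⟩ : Nonempty (Sylow r U) := inferInstance
  set R' : Subgroup G := (R : Subgroup U).map U.subtype
  have hR' : R' ≠ ⊥ := BG11.sylowOf_ne_bot (isSylowOf_map R) hrd
  obtain ⟨H, hH, hNH⟩ := BG11.exists_coatom_ge (BG11.normalizer_ne_top' h.minSimple hR'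
    (BG11.ne_top_of_le_coatom hM ((map_subtype_le _).trans (decomp_le D).2)))
  exact (h.pTwoPartner M hM K U D hK1 hU Mstar hMs hKs hKsH r hrd R H hH hNH).2.2.2.1
    (inf_le_right.trans hle)

end

end Cfsg.Agent.OddOrder.BG15
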