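import Cfsg.Agent.OddOrder.BG15.ThmDTau
import Cfsg.Agent.OddOrder.BG15.ThmB
import Cfsg.Agent.OddOrder.BG13.Main
import Cfsg.Agent.OddOrder.BG13.Instance

/-!
# BG 15.9 / Theorem D: a supporting subgroup of type P makes `M` a Frobenius group
-/

set_option autoImplicit false
set_option linter.style.haveILetI false
set_option linter.unusedVariables false

universe u

namespace Cfsg.Agent.OddOrder.BG15

open Subgroup H40
open scoped commutatorElement

variable {G : Type u} [Group G] [Finite G] {M K U : Subgroup G}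

theorem decomp_cj (D : IsSigmaDecomposition M K U) {n : G} (hn : n ∈ M) :
    IsSigmaDecomposition M (cj n K) (cj n U) := by
  have hM : cj n M = M := BG11.cj_eq_of_mem hn
  have hcard : Nat.card (cj n K) = Nat.card K := card_cj n K
  refine ⟨((MulAut.conj n).subgroupMap K).isCyclic.mp D.cyclic,
    ⟨(BG11.cj_mono n D.hall.1).trans hM.le, fun p hp hd => D.hall.2.1 p hp (hcard ▸ hd),
      fun p hp hk hd => D.hall.2.2 p hp hk ?_⟩, ?_, ?_⟩
  · have e : (cj n K).relIndex (cj n M) = K.relIndex M :=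
      relIndex_map_map_of_injective K M (MulAut.conj n).injective
    rw [hM] at e
    exact e ▸ hd
  · have h := isComplIn_cj D.compl n
    have e : cj n (K ⊔ sigmaCore M) = cj n K ⊔ sigmaCore M := by
      have e1 : cj n (K ⊔ sigmaCore M) = cj n K ⊔ cj n (sigmaCore M) := Subgroup.map_sup _ _ _
      have e2 : cj n (sigmaCore M) = sigmaCore M :=
        cj_eq_iff.mpr (le_normalizer_sigmaCore M hn)
      rw [e1, e2]
    rw [hM, e] at h
    exact h
  · rw [← BG11.cj_normalizer]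
    exact BG11.cj_mono n D.normal

theorem isCyclic_of_abelian_tau13 (h : Facts G) (hM : IsCoatom M) {E : Subgroup G} (hEM : E ≤ M)
    (hEc : IsMulCommutative E)
    (hτ : ∀ p : ℕ, p.Prime → p ∣ Nat.card E → p ∈ tau1 M ∪ tau3 M) : IsCyclic E := by
  haveI := hEc
  haveI : IsZGroup E := ⟨fun p hp S => by
    haveI := Fact.mk hp
    by_cases hd : p ∣ Nat.card E
    · refine ((S : Subgroup E).equivMapOfInjective E.subtype E.subtype_injective).isCyclic.mpr ?_
      exact isCyclic_of_pRankLE_one (OddOrder.ne_two_of_dvd h.minSimple hd) (S.isPGroup'.map _)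
        ((map_subtype_le _).trans hEM) ((hτ p hp hd).elim (fun h' => h'.2.2.2.2) fun h' => h'.2.2.2)
    · obtain ⟨n, hn⟩ := IsPGroup.iff_card.mp S.isPGroup'
      have h0 : n = 0 := by
        by_contra h0
        exact hd ((hn ▸ dvd_pow_self p h0).trans (card_subgroup_dvd_card _))
      rw [h0, pow_zero] at hn
      haveI := (Nat.card_eq_one_iff_unique.mp hn).1
      exact isCyclic_of_subsingleton⟩
  letI : CommGroup E := { (inferInstance : Group E) with mul_comm := hEc.is_comm.comm }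
  haveI : Group.IsNilpotent E := CommGroup.isNilpotent
  infer_instance

/-- Elements of `E` fixed-point-free on the kernel make `E` a Frobenius complement. -/
theorem isFrobeniusComplement_of_fpf {E S : Subgroup G} (hc : IsComplIn E S M)
    (hn : M ≤ normalizer (S : Set G)) (hE : E ≠ ⊥) (hS : S ≠ ⊥)
    (hfpf : ∀ e ∈ E, e ≠ 1 → S ⊓ centralizer ({e} : Set G) = ⊥) :
    IsFrobeniusComplement (E.subgroupOf M) := by
  refine ⟨fun e => hE ?_, fun e => hS (le_bot_iff.mp (hc.2.2.1 ▸ le_inf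
    (hc.2.1.trans (subgroupOf_eq_top.mp e)) le_rfl)), fun g hg => ?_⟩
  · rw [← map_subgroupOf_eq_of_le hc.1, e, Subgroup.map_bot]
  refine le_bot_iff.mp ?_
  rintro z ⟨hz, hz'⟩
  have hw := mem_subgroupOf.mp (mem_pointwise_smul_iff_inv_smul_mem.mp hz')
  obtain ⟨a, ha, b, hb, hab⟩ := hc.2.2.2 g g.2
  have hzE : (z : G) ∈ E := mem_subgroupOf.mp hz
  set w : G := (g : G)⁻¹ * z * g with hwdef
  have hwE : w ∈ E := by simpa [hwdef, mul_assoc] using hw
  have hw' : a⁻¹ * z * a * w⁻¹ ∈ E :=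
    E.mul_mem (E.mul_mem (E.mul_mem (E.inv_mem ha) hzE) ha) (E.inv_mem hwE)
  have hcomm : a⁻¹ * z * a * w⁻¹ = b * (w * b⁻¹ * w⁻¹) := by
    rw [hwdef, hab]; group
  have h1 : a⁻¹ * z * a * w⁻¹ = 1 := mem_bot.mp (hc.2.2.1 ▸ (⟨hw', hcomm ▸ S.mul_mem hb
    (Coprime.conj_mem (hn (hc.1 hwE)) (S.inv_mem hb))⟩ : a⁻¹ * z * a * w⁻¹ ∈ E ⊓ S))
  rw [hcomm] at h1
  have hwb : w * b = b * w := by
    have h2 := congrArg (fun t => t * w * b) h1
    simpa [mul_assoc] using h2.symm
  have hw1 : w = 1 := by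
    by_contra hw1
    have h3 : b ∈ S ⊓ centralizer ({w} : Set G) := ⟨hb, mem_centralizer_singleton.mpr hwb.symm⟩
    rw [hfpf w hwE hw1, mem_bot] at h3
    refine hg ?_
    rw [mem_subgroupOf, hab, h3, mul_one]
    exact ha
  refine mem_bot.mpr (Subtype.ext ?_)
  rw [hwdef] at hw1
  have h4 := congrArg (fun t => (g : G) * t * (g : G)⁻¹) hw1
  simpa [mul_assoc] using h4

/-- S1376. -/
theorem frobenius_of_support (h : Facts G) (hM : IsCoatom M) {x : G} (hx : x ∈ sigmaCore M)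
    (hx1 : x ≠ 1) (hxM : ¬ centralizer ({x} : Set G) ≤ M) {N : Subgroup G} (hN : IsCoatom N)
    (hxN : centralizer ({x} : Set G) ≤ N) (hkN : (kappa N).Nonempty) :
    kappa M = ∅ ∧ (∃ E : Subgroup ↥M, IsFrobeniusComplement E ∧ IsCyclic E) ∧
      ¬ IsTISubset (fittingHallOf M : Set G) := by
  have hG := h.minSimple
  obtain ⟨N₀, ⟨hN₀, -⟩, huniq, -, -, -, hMN, hdec⟩ := h.supportMax M hM x hx hx1 hxM
  obtain rfl := huniq N hN hxN
  obtain ⟨K₀, U₀, D₀⟩ := exists_decomp h hN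
  -- conjugate the decomposition into `M`
  obtain ⟨n, hn, hnMN⟩ := Coprime.exists_conj_hallOf (solvable hG hN)
    (sigma'_of_compl hG hN (compl_UK hG hN D₀)) (sigma'_of_compl hG hN hMN)
  have D := decomp_cj D₀ hn
  set K := cj n K₀
  set U := cj n U₀
  have hUK : U ⊔ K = M ⊓ N := by rw [← hnMN, Subgroup.map_sup]
  obtain ⟨hU1, hxA, -⟩ := hdec K U D
  have hK1 : K ≠ ⊥ := (kappa_nonempty D).mp hkN
  have hxN' : x ∈ N := hxN (mem_centralizer_singleton.mpr rfl)
  have hUσ : U ≤ normalizer (sigmaCore N : Set G) :=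
    le_normalizer_sigmaCore_of_le (decomp_le D).2
  have hcK : (Nat.card ↥(U ⊔ sigmaCore N)).Coprime (Nat.card K) := by
    rw [card_sup_of_normalizes hUσ (Nat.Coprime.coprime_mul_right
      (coprime_UK_sigmaCore hG hN D))]
    exact (coprime_U_K hG hN D).mul_left (coprime_K_sigmaCore D).symm
  have hxU : x ∈ U := by
    have h1 : x ∈ K ⊔ U := by rw [sup_comm, hUK]; exact ⟨sigmaCore_le M hx, hxN'⟩
    obtain ⟨k, hk, u, hu, rfl⟩ := exists_of_mem_sup D.normal h1
    have h2 : k ∈ U ⊔ sigmaCore N := by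
      have := mul_mem hxA.2 (mem_sup_left (inv_mem hu) : u⁻¹ ∈ U ⊔ sigmaCore N)
      rwa [mul_inv_cancel_right] at this
    rw [mem_bot.mp ((Coprime.inf_eq_bot hcK).le ⟨h2, hk⟩), one_mul]
    exact hu
  -- the partner
  obtain ⟨r, hr, hrd⟩ := prime_dvd_of_orderOf hx1
  haveI := Fact.mk hr
  obtain ⟨R⟩ : Nonempty (Sylow r U) := inferInstance
  have hrU : r ∣ Nat.card U := hrd.trans (orderOf_dvd_card hxU)
  set R' := (R : Subgroup U).map U.subtype with hR'
  have hR1 : R' ≠ ⊥ := BG11.sylowOf_ne_bot (isSylowOf_map R) hrU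
  have hUMN : U ≤ M ⊓ N := hUK ▸ le_sup_left
  have hKMN : K ≤ M ⊓ N := hUK ▸ le_sup_right
  obtain ⟨H, hH, hNR⟩ := BG11.exists_coatom_ge (BG11.normalizer_ne_top' hG hR1
    (BG11.ne_top_of_le_coatom hN ((map_subtype_le _).trans (decomp_le D).2)))
  obtain ⟨Ns, ⟨hNs, hKNs, hLH⟩, -⟩ := h.starExists N hN K U D hK1
  obtain ⟨hκH, hUH, -, -, hKF, hEH⟩ :=
    h.pTwoPartner N hN K U D hK1 hU1 Ns hNs hKNs hLH r hrU R H hH hNR
  have hrH : r ∈ sigma H := sigmaCore_isPiNumber H r hr (hrU.trans (card_dvd_of_le hUH))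
  obtain ⟨g, hg⟩ := (BG13.hyp hG).results.sigma_disjoint H M hH hM
    ⟨r, hrH, sigmaCore_isPiNumber M r hr (hrd.trans (orderOf_dvd_card hx))⟩
  have hRH : R' ≤ H := le_normalizer.trans hNR
  obtain rfl : H = M := by
    have h1 : cj g⁻¹ R' ≤ H :=
      BG11.le_cj_iff.mp (((map_subtype_le _).trans (hUMN.trans inf_le_left)).trans hg.le)
    obtain ⟨m, hm, c, hc, e⟩ :=
      (BG10.sigma_trans' hG hH hrH (R.isPGroup'.map _) hR1 hRH).1 g⁻¹ h1
    have hgH : g ∈ H := inv_mem_iff.mp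
      (e ▸ mul_mem hm (hNR (H41.centralizer_le_normalizer _ hc)))
    exact (hg.trans (BG11.cj_eq_of_mem hgH)).symm
  -- no `σ(M)'`-element of `M` centralizes `x`
  have hCx : ∀ e ∈ H, e * x = x * e → (∀ p : ℕ, p.Prime → p ∣ orderOf e → p ∉ sigma H) →
      e = 1 := by
    intro e he hex hσ
    have h1 : e ∈ K ⊔ U := by
      rw [sup_comm, hUK]; exact ⟨he, hxN (mem_centralizer_singleton.mpr hex)⟩
    obtain ⟨k, hk, u, hu, rfl⟩ := exists_of_mem_sup D.normal h1
    have hux : u * x = x * u :=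
      congrArg (Subtype.val : ↥U → G) ((U_comm h hN D hK1).is_comm.comm ⟨u, hu⟩ ⟨x, hxU⟩)
    have hkx : k * x = x * k := by
      refine mul_right_cancel (b := u) ?_
      calc k * x * u = k * (x * u) := by group
        _ = k * u * x := by rw [← hux]; group
        _ = x * k * u := by rw [hex]; group
    have hk1 : k = 1 := by
      by_contra hk1
      exact hx1 (mem_bot.mp ((h.kActsFpf N hN K U D k hk hk1).le
        ⟨hxU, mem_centralizer_singleton.mpr hkx.symm⟩))
    subst hk1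
    by_contra hu1
    obtain ⟨p, hp, hd⟩ := prime_dvd_of_orderOf hu1
    exact hσ p hp hd (sigmaCore_isPiNumber H p hp (hd.trans (orderOf_dvd_card
      (hUH (by rwa [one_mul])))))
  -- `M_σ` is nilpotent
  obtain ⟨hKp, -⟩ := P2_structure h hN D hK1 hU1
  have hKE : K ≤ H ⊓ Ns := le_inf (hKMN.trans inf_le_left)
    (hKNs.le.trans (inf_le_left.trans (sigmaCore_le Ns)))
  have hKL : sigmaCore Ns ⊓ centralizer ((kStar N K : Subgroup G) : Set G) = K := hKNs.symm
  have hL1 : kStar N K ≠ ⊥ := (h.kCentralizer N hN K D.cyclic D.hall).1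
  have hCK : sigmaCore H ⊓ centralizer (K : Set G) = ⊥ := by
    refine le_bot_iff.mp fun s hs => ?_
    have hsN : s ∈ Ns := by
      by_contra hsN
      refine hK1 (le_bot_iff.mp (((h.starSylow Ns hNs _ hLH hL1).1 s hsN) ▸
        le_inf hKL.ge fun k hk => mem_cj.mpr ?_))
      rw [mul_assoc, mem_centralizer_iff.mp hs.2 k hk, inv_mul_cancel_left]
      exact (hKE hk).2
    exact hEH.2.2.1.le ⟨⟨sigmaCore_le H hs.1, hsN⟩, hs.1⟩
  haveI := Fact.mk hKp
  obtain ⟨t₀, ht₀⟩ := exists_prime_orderOf_dvd_card' (G := K) (Nat.card K) dvd_rfl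
  have hto : orderOf (t₀ : G) = Nat.card K := by rw [Subgroup.orderOf_coe, ht₀]
  have hKz : zpowers (t₀ : G) = K :=
    eq_of_le_of_card_ge (zpowers_le.mpr t₀.2) (by rw [Nat.card_zpowers, hto])
  have hnil : Group.IsNilpotent (sigmaCore H) :=
    isNilpotent_of_fpf_elem hKp (hto ▸ pow_orderOf_eq_one (t₀ : G))
      (le_normalizer_sigmaCore H ((hKE t₀.2).1)) fun s hs hts => mem_bot.mp (hCK ▸ by
        refine (⟨hs, ?_⟩ : s ∈ sigmaCore H ⊓ centralizer (K : Set G))
        rw [← hKz, centralizer_zpowers]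
        exact mem_centralizer_singleton.mpr hts.symm)
  have hMF : fittingHallOf H = sigmaCore H := fittingHallOf_eq_sigmaCore hG hH hnil
  -- `F(M) = M_σ` and `M ⊓ N*` is abelian
  have hFle : fittingOf H ≤ sigmaCore H := by
    rw [(sigma'_fitting h hH).2.2]
    refine sup_le (fittingOf_le _) fun e he => ?_
    have heF : e ∈ fittingOf H := OddOrder.piCoreOf_le _ _ he
    have hπ := piCoreOf_isPiNumber (sigma' H) (fittingOf H)
    have hxF : x ∈ fittingOf H :=
      le_fittingOf (sigmaCore_le H) (le_normalizer_sigmaCore H) hnil hx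
    have hex : e * x = x * e :=
      H41.commute_of_coprime_of_isNilpotent (isNilpotent_fittingOf H) heF hxF
        (Nat.coprime_of_dvd fun p hp h1 h2 => (hπ p hp (h1.trans (orderOf_dvd_card he))).2
          (sigmaCore_isPiNumber H p hp (h2.trans (orderOf_dvd_card hx))))
    rw [hCx e (fittingOf_le H heF) hex fun p hp hd => (hπ p hp (hd.trans (orderOf_dvd_card he))).2]
    exact one_mem _
  have hD' : ⁅H, H⁆ ≤ sigmaCore H :=
    (derived_le_fittingOf (isNilpotent_derived_of_centralizer h hH hnil hx hx1 hxM)).trans hFle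
  have hEc : IsMulCommutative ↥(H ⊓ Ns) := ⟨⟨fun a b => Subtype.ext
    (commutatorElement_eq_one_iff_mul_comm.mp (mem_bot.mp (hEH.2.2.1.le
      ⟨(H ⊓ Ns).mul_mem ((H ⊓ Ns).mul_mem ((H ⊓ Ns).mul_mem a.2 b.2) ((H ⊓ Ns).inv_mem a.2))
          ((H ⊓ Ns).inv_mem b.2),
        hD' (commutator_mem_commutator a.2.1 b.2.1)⟩)))⟩⟩
  have hτ2 : tau2 H = ∅ :=
    tau2_eq_empty_of_partner h hH hNs hκH hKNs hLH hKp hL1 hEH hEc hKE hFle
  have hτ : ∀ p : ℕ, p.Prime → p ∣ Nat.card ↥(H ⊓ Ns) → p ∈ tau1 H ∪ tau3 H := by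
    intro p hp hd
    have hs := ((sigma'_of_compl hG hH hEH).2.1 p hp hd).2
    rcases OddOrder.tau_cases (BG10.alpha_subset_sigma hG hH) hp
      (hd.trans (card_dvd_of_le hEH.1)) hs with h1 | h1 | h1
    · exact Or.inl h1
    · exact (Set.notMem_empty p (hτ2 ▸ h1)).elim
    · exact Or.inr h1
  haveI := isCyclic_of_abelian_tau13 h hH hEH.1 hEc hτ
  refine ⟨hκH, ⟨(H ⊓ Ns).subgroupOf H, isFrobeniusComplement_of_fpf hEH
    (le_normalizer_sigmaCore H) (ne_bot_of_le_ne_bot hK1 hKE) (BG10.sigmaCore_ne_bot hG hH)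
    fun e he he1 => compl_hyp h hH hEH hκH e he he1 fun p hp hd =>
      hτ p hp (hd.trans (orderOf_dvd_card he)), ?_⟩, fun hTI => ?_⟩
  · exact (subgroupOfEquivOfLe hEH.1).isCyclic.mpr inferInstance
  · obtain ⟨c, hc, hcH⟩ := SetLike.not_le_iff_exists.mp hxM
    rw [hMF] at hTI
    have h1 := OddOrder.normalizer_eq_max hG hH (sigmaCore_le H) (BG10.sigmaCore_ne_bot hG hH)
      (le_normalizer_sigmaCore H)
    refine hx1 (hTI c (fun hcn => hcH (h1 ▸ hcn)) x hx ?_)
    rw [mem_centralizer_singleton.mp hc, mul_inv_cancel_right]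
    exact hx

end Cfsg.Agent.OddOrder.BG15
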