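import Cfsg.Agent.OddOrder.Sigma.Basic
import Cfsg.Agent.H41.Nilpotent
import Cfsg.Agent.H41.FittingMax

/-!
# `F(M)`, `M_F` and the π-parts of elements of a nilpotent subgroup
-/

set_option autoImplicit false
set_option linter.style.haveILetI false
set_option linter.unusedVariables false

namespace Cfsg.Agent.OddOrder.BG15

open Subgroup

variable {G : Type*} [Group G]

/-- A positive number is the product of a `π`-number and a `π'`-number. -/
theorem exists_pi_factor (π : Set ℕ) {n : ℕ} (hn : n ≠ 0) :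
    ∃ a b : ℕ, a * b = n ∧ Cores.IsPiNumber π a ∧ Cores.IsPiNumber {q | q ∉ π} b ∧
      a.Coprime b := by
  classical
  have key : ∀ s : Finset ℕ, (∀ p ∈ s, p.Prime) → ∀ σ : Set ℕ, (∀ p ∈ s, p ∈ σ) →
      Cores.IsPiNumber σ (∏ p ∈ s, p ^ n.factorization p) := by
    intro s hs σ hσ q hq hd
    obtain ⟨p, hp, hqp⟩ := (Nat.prime_iff.mp hq).exists_mem_finset_dvd hd
    exact (Nat.prime_dvd_prime_iff_eq hq (hs p hp)).mp (hq.dvd_of_dvd_pow hqp) ▸ hσ p hp
  refine ⟨_, _, ?_,
    key (n.primeFactors.filter (· ∈ π))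
      (fun p hp => Nat.prime_of_mem_primeFactors (Finset.mem_filter.mp hp).1) π
      (fun p hp => (Finset.mem_filter.mp hp).2),
    key (n.primeFactors.filter (· ∉ π))
      (fun p hp => Nat.prime_of_mem_primeFactors (Finset.mem_filter.mp hp).1) {q | q ∉ π}
      (fun p hp => (Finset.mem_filter.mp hp).2), ?_⟩
  · rw [Finset.prod_filter_mul_prod_filter_not]
    exact (Nat.prod_primeFactors_prod_factorization (fun p => p ^ n.factorization p)).trans
      (Nat.prod_factorization_pow_eq_self hn)
  · refine Nat.coprime_of_dvd fun q hq h1 h2 => ?_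
    have e1 := key (n.primeFactors.filter (· ∈ π))
      (fun p hp => Nat.prime_of_mem_primeFactors (Finset.mem_filter.mp hp).1) π
      (fun p hp => (Finset.mem_filter.mp hp).2) q hq h1
    have e2 := key (n.primeFactors.filter (· ∉ π))
      (fun p hp => Nat.prime_of_mem_primeFactors (Finset.mem_filter.mp hp).1) {q | q ∉ π}
      (fun p hp => (Finset.mem_filter.mp hp).2) q hq h2
    exact e2 e1

/-- An element is the product of its `π`-part and its `π'`-part. -/
theorem exists_pi_parts [Finite G] (π : Set ℕ) (x : G) :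
    ∃ y z : G, y * z = x ∧ y ∈ zpowers x ∧ z ∈ zpowers x ∧
      Cores.IsPiNumber π (orderOf y) ∧ Cores.IsPiNumber {q | q ∉ π} (orderOf z) := by
  obtain ⟨a, b, hab, ha, hb, hc⟩ := exists_pi_factor π (orderOf_pos x).ne'
  have hg := Nat.gcd_eq_gcd_ab a b
  rw [hc.gcd_eq_one] at hg
  have hd : ∀ (c d : ℕ) (u : ℤ), c * d = orderOf x → orderOf (x ^ ((c : ℤ) * u)) ∣ d := by
    intro c d u hcd
    refine orderOf_dvd_of_pow_eq_one ?_
    rw [← zpow_natCast, ← zpow_mul, show (c : ℤ) * u * d = (orderOf x : ℤ) * u by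
      rw [← hcd]; push_cast; ring, zpow_mul, zpow_natCast, pow_orderOf_eq_one, one_zpow]
  refine ⟨x ^ ((b : ℤ) * Nat.gcdB a b), x ^ ((a : ℤ) * Nat.gcdA a b), ?_, zpow_mem_zpowers _ _,
    zpow_mem_zpowers _ _, ha.of_dvd (hd b a _ (by rw [mul_comm, hab])), hb.of_dvd (hd a b _ hab)⟩
  rw [← zpow_add, show (b : ℤ) * Nat.gcdB a b + (a : ℤ) * Nat.gcdA a b = 1 by
    push_cast at hg; linarith, zpow_one]

/-! ### nilpotent subgroups -/

theorem isNilpotent_of_le {H K : Subgroup G} (h : H ≤ K) (hK : Group.IsNilpotent K) :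
    Group.IsNilpotent H :=
  Group.nilpotent_of_mulEquiv (subgroupOfEquivOfLe h)

theorem mem_piCoreOf_of_nilpotent [Finite G] {F : Subgroup G} (hF : Group.IsNilpotent F)
    {π : Set ℕ} {x : G} (hx : x ∈ F) (hπ : Cores.IsPiNumber π (orderOf x)) :
    x ∈ piCoreOf π F := by
  haveI := hF
  refine ⟨⟨x, hx⟩, Cores.le_piCore_of_isSubnormal
    (A := zpowers (⟨x, hx⟩ : F)) (H41.isSubnormal_of_isNilpotent _) ?_ (mem_zpowers _), rfl⟩
  rwa [Nat.card_zpowers, Subgroup.orderOf_mk]

theorem orderOf_dvd_card {H : Subgroup G} {x : G} (hx : x ∈ H) : orderOf x ∣ Nat.card H := by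
  rw [← Subgroup.orderOf_mk x hx]
  exact orderOf_dvd_natCard _

theorem piNumber_orderOf {π : Set ℕ} {H : Subgroup G} (h : Cores.IsPiNumber π (Nat.card H))
    {x : G} (hx : x ∈ H) : Cores.IsPiNumber π (orderOf x) :=
  h.of_dvd (orderOf_dvd_card hx)

/-- A nilpotent subgroup is the join of its `π`-core and its `π'`-core. -/
theorem le_sup_piCoreOf [Finite G] {F : Subgroup G} (hF : Group.IsNilpotent F) (π : Set ℕ) :
    F ≤ piCoreOf π F ⊔ piCoreOf {q | q ∉ π} F := by
  intro x hx
  obtain ⟨y, z, rfl, hy, hz, hy', hz'⟩ := exists_pi_parts π x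
  exact mul_mem_sup (mem_piCoreOf_of_nilpotent hF ((zpowers_le.mpr hx) hy) hy')
    (mem_piCoreOf_of_nilpotent hF ((zpowers_le.mpr hx) hz) hz')

/-- Elements of coprime order of a nilpotent subgroup commute. -/
theorem le_centralizer_of_nilpotent [Finite G] {F A B : Subgroup G} (hF : Group.IsNilpotent F)
    (hA : A ≤ F) (hB : B ≤ F) (h : (Nat.card A).Coprime (Nat.card B)) :
    A ≤ centralizer (B : Set G) := fun a ha => mem_centralizer_iff.mpr fun b hb =>
  (H41.commute_of_coprime_of_isNilpotent hF (hA ha) (hB hb)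
    ((h.coprime_dvd_left (orderOf_dvd_card ha)).coprime_dvd_right (orderOf_dvd_card hb))).symm

/-! ### `F(M)` -/

theorem fittingOf_le (M : Subgroup G) : fittingOf M ≤ M := map_subtype_le _

theorem le_normalizer_fittingOf [Finite G] (M : Subgroup G) : M ≤ normalizer (fittingOf M : Set G) :=
  Components.le_normalizer_map_subtype _

theorem isNilpotent_fittingOf [Finite G] (M : Subgroup G) : Group.IsNilpotent (fittingOf M) := by
  haveI := Cores.fittingSubgroup_isNilpotent (G := M)
  exact Group.nilpotent_of_surjective (M.subtype.subgroupMap _) (M.subtype.subgroupMap_surjective _)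

theorem le_fittingOf [Finite G] {M N : Subgroup G} (hN : N ≤ M) (hn : M ≤ normalizer (N : Set G))
    (hnil : Group.IsNilpotent N) : N ≤ fittingOf M := by
  haveI : (N.subgroupOf M).Normal := normal_subgroupOf_of_le_normalizer hn
  have hle : N.subgroupOf M ≤ fittingSubgroup M := by
    haveI := hnil
    exact Cores.le_fittingSubgroup (Group.nilpotent_of_mulEquiv (subgroupOfEquivOfLe hN).symm)
  intro x hx
  exact ⟨⟨x, hN hx⟩, hle hx, rfl⟩

/-! ### `M_F` -/

theorem fittingHallOf_le (M : Subgroup G) : fittingHallOf M ≤ M := map_subtype_le _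

theorem le_normalizer_fittingHallOf [Finite G] (M : Subgroup G) :
    M ≤ normalizer (fittingHallOf M : Set G) := Components.le_normalizer_map_subtype _

theorem isNilpotent_fittingHallOf [Finite G] (M : Subgroup G) :
    Group.IsNilpotent (fittingHallOf M) := by
  haveI := (H41.fittingHall_spec M).2.1
  exact Group.nilpotent_of_surjective (M.subtype.subgroupMap _) (M.subtype.subgroupMap_surjective _)

theorem card_fittingHallOf (M : Subgroup G) :
    Nat.card (fittingHallOf M) = Nat.card (fittingHall M) :=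
  card_map_of_injective M.subtype_injective

theorem relIndex_map_subtype {M : Subgroup G} (N : Subgroup M) :
    (N.map M.subtype).relIndex M = N.index := by
  rw [relIndex, subgroupOf, comap_map_eq_self_of_injective M.subtype_injective]

theorem coprime_fittingHallOf [Finite G] (M : Subgroup G) :
    (Nat.card (fittingHallOf M)).Coprime ((fittingHallOf M).relIndex M) := by
  rw [card_fittingHallOf, fittingHallOf, relIndex_map_subtype]
  exact (H41.fittingHall_spec M).2.2

/-- `M_F` contains every normal nilpotent Hall subgroup of `M`. -/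
theorem le_fittingHallOf [Finite G] {M N : Subgroup G} (hN : N ≤ M) (hn : M ≤ normalizer (N : Set G))
    (hnil : Group.IsNilpotent N) (hc : (Nat.card N).Coprime (N.relIndex M)) :
    N ≤ fittingHallOf M := by
  intro x hx
  have hle : N.subgroupOf M ≤ fittingHall M := le_sSup ?_
  · exact ⟨⟨x, hN hx⟩, hle hx, rfl⟩
  haveI := hnil
  refine ⟨normal_subgroupOf_of_le_normalizer hn,
    Group.nilpotent_of_mulEquiv (subgroupOfEquivOfLe hN).symm, ?_⟩
  rwa [Nat.card_congr (subgroupOfEquivOfLe hN).toEquiv]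

theorem fittingHallOf_le_fittingOf [Finite G] (M : Subgroup G) :
    fittingHallOf M ≤ fittingOf M :=
  map_mono (H41.fittingHall_le_fittingSubgroup M)

/-- The elements of `M` whose order divides a power of `|M_F|` lie in `M_F`. -/
theorem mem_of_normal_hall [Finite G] {M N : Subgroup G} (hn : M ≤ normalizer (N : Set G))
    {x : G} (hx : x ∈ M) (hco : (orderOf x).Coprime (N.relIndex M)) : x ∈ N := by
  haveI : (N.subgroupOf M).Normal := normal_subgroupOf_of_le_normalizer hn
  have h1 : orderOf (QuotientGroup.mk' (N.subgroupOf M) ⟨x, hx⟩) ∣ N.relIndex M := by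
    exact orderOf_dvd_natCard _
  have h2 : orderOf (QuotientGroup.mk' (N.subgroupOf M) ⟨x, hx⟩) ∣ orderOf x := by
    refine (orderOf_map_dvd _ _).trans ?_
    rw [Subgroup.orderOf_mk]
  have h3 := Nat.eq_one_of_dvd_coprimes hco h2 h1
  rw [orderOf_eq_one_iff] at h3
  exact mem_subgroupOf.mp ((QuotientGroup.eq_one_iff _).mp h3)

/-- `F(M) = C_{F(M)}(M_F) M_F`. -/
theorem fittingOf_le_sup [Finite G] (M : Subgroup G) :
    fittingOf M ≤ (M ⊓ centralizer (fittingHallOf M : Set G)) ⊔ fittingHallOf M := by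
  intro x hx
  obtain ⟨y, z, rfl, hy, hz, hy', hz'⟩ :=
    exists_pi_parts {q | q ∣ Nat.card (fittingHallOf M)} x
  have hyF := (zpowers_le.mpr hx) hy
  have hzF := (zpowers_le.mpr hx) hz
  have hyH : y ∈ fittingHallOf M := by
    refine mem_of_normal_hall (le_normalizer_fittingHallOf M) (fittingOf_le M hyF) ?_
    exact Nat.coprime_of_dvd fun q hq h1 h2 =>
      Nat.not_coprime_of_dvd_of_dvd hq.one_lt (hy' q hq h1) h2 (coprime_fittingHallOf M)
  have hzC : z ∈ M ⊓ centralizer (fittingHallOf M : Set G) := by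
    refine ⟨fittingOf_le M hzF, mem_centralizer_iff.mpr fun w hw => ?_⟩
    refine (H41.commute_of_coprime_of_isNilpotent (isNilpotent_fittingOf M) hzF
      (fittingHallOf_le_fittingOf M hw) ?_).symm
    exact Nat.coprime_of_dvd fun q hq h1 h2 =>
      hz' q hq h1 (h2.trans (orderOf_dvd_card hw))
  exact mul_mem (mem_sup_right hyH) (mem_sup_left hzC)

end Cfsg.Agent.OddOrder.BG15
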