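import Cfsg.Agent.OddOrder.BG14.PrimeAction
import Cfsg.Agent.Coprime.Abelian
import Cfsg.Agent.Coprime.Action
import Cfsg.Agent.Coprime.Centralize
import Cfsg.Agent.Coprime.Commutator
import Cfsg.Agent.Frobenius.Nilpotent

/-!
# Two tools on coprime action
-/

set_option autoImplicit false
set_option linter.style.haveILetI false
set_option linter.unusedVariables false

universe u

namespace Cfsg.Agent.OddOrder.BG15

open Subgroup
open scoped commutatorElement IsMulCommutative

variable {G : Type u} [Group G] [Finite G]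

omit [Finite G] in
theorem isMulCommutative_of_le' {A B : Subgroup G} (h : A ≤ B) (hB : IsMulCommutative B) :
    IsMulCommutative A := by
  refine ⟨⟨fun a b => Subtype.ext ?_⟩⟩
  exact congrArg (Subtype.val : ↥B → G) (mul_comm' (⟨a, h a.2⟩ : B) ⟨b, h b.2⟩)

/-- A subgroup on which an element of prime order acts without fixed points is nilpotent. -/
theorem isNilpotent_of_fpf_elem {W : Subgroup G} {p : ℕ} (hp : p.Prime) {t : G} (ht : t ^ p = 1)
    (htn : t ∈ normalizer (W : Set G)) (hfix : ∀ k ∈ W, t * k = k * t → k = 1) :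
    Group.IsNilpotent W := by
  haveI : (W.subgroupOf (normalizer (W : Set G))).Normal :=
    normal_subgroupOf_of_le_normalizer le_rfl
  have h := Frobenius.isNilpotent_of_centralizer (K := W.subgroupOf (normalizer (W : Set G))) hp
    (h := ⟨t, htn⟩) (Subtype.ext ht) fun k hk hc =>
      Subtype.ext (hfix k hk (congrArg Subtype.val hc))
  exact Group.nilpotent_of_mulEquiv (_h := h) (subgroupOfEquivOfLe le_normalizer)

/-- A Frobenius complement has fixed points on a module on which the kernel has none; the kernel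
need not be abelian. -/
theorem centralizer_ne_bot_of_frobenius' {q : ℕ} [hq : Fact q.Prime] (V A L : Subgroup G)
    (hV : IsElementaryAbelian q V) (hV1 : V ≠ ⊥) (hqA : ¬ q ∣ Nat.card A)
    (hAV : A ≤ normalizer (V : Set G)) (hLV : L ≤ normalizer (V : Set G))
    (hLA : L ≤ normalizer (A : Set G)) (hfree : ∀ k ∈ L, k ≠ 1 → A ⊓ centralizer ({k} : Set G) = ⊥)
    (hVA : V ⊓ centralizer (A : Set G) = ⊥) : V ⊓ centralizer (L : Set G) ≠ ⊥ := by
  classical
  haveI := hV.1
  haveI := Fintype.ofFinite ↥L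
  haveI := Fintype.ofFinite ↥A
  intro hL
  let ιA : ↥A →* AddMonoid.End (Additive ↥V) := (BG14.conjEnd V).comp (inclusion hAV)
  let ιL : ↥L →* AddMonoid.End (Additive ↥V) := (BG14.conjEnd V).comp (inclusion hLV)
  have hsumA : ∑ a : ↥A, ιA a = 0 := BG14.sum_eq_zero V A hAV hVA
  have hsumL : ∑ x : ↥L, ιL x = 0 := BG14.sum_eq_zero V L hLV hL
  let c : ↥L → (↥A →* ↥A) := fun y =>
    { toFun := fun a => ⟨(y : G) * (a : G) * (y : G)⁻¹,
        (mem_normalizer_iff.mp (hLA y.2) _).mp a.2⟩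
      map_one' := Subtype.ext (by simp)
      map_mul' := fun a b => Subtype.ext (by simp [mul_assoc]) }
  have hconj : ∀ (y : ↥L) (a : ↥A), ιA (c y a) * ιL y = ιL y * ιA a := by
    intro y a
    show BG14.conjEnd V _ * BG14.conjEnd V _ = BG14.conjEnd V _ * BG14.conjEnd V _
    rw [← map_mul, ← map_mul]
    exact congrArg _ (Subtype.ext (show (y : G) * a * (y : G)⁻¹ * y = y * a by group))
  have hnorm : ∑ a : ↥A, ιA a * (∑ x : ↥L, ιL x) * ιA a⁻¹ =
      (Fintype.card ↥A : AddMonoid.End (Additive ↥V)) := by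
    simp only [Finset.mul_sum, Finset.sum_mul]
    rw [Finset.sum_comm, Finset.sum_eq_single (1 : ↥L)]
    · simp [← map_mul]
    · intro x _ hx
      let f : ↥A → ↥A := fun a => a * c x a⁻¹
      have hf : Function.Injective f := by
        intro a b hab
        have hc : c x (b⁻¹ * a) = b⁻¹ * a := by
          have h := congrArg (fun t => b⁻¹ * t * c x a) hab
          simp only [f, map_inv] at h
          rw [map_mul, map_inv]
          simpa [mul_assoc] using h.symm
        have hmem : ((b⁻¹ * a : ↥A) : G) ∈ A ⊓ centralizer ({(x : G)} : Set G) :=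
          ⟨(b⁻¹ * a).2, mem_centralizer_singleton_iff.mpr
            (mul_inv_eq_iff_eq_mul.mp (congrArg Subtype.val hc :)).symm⟩
        rw [hfree _ x.2 fun h => hx (Subtype.ext h), mem_bot] at hmem
        exact (inv_mul_eq_one.mp (Subtype.ext hmem : b⁻¹ * a = 1)).symm
      have hstep : ∀ a : ↥A, ιA a * ιL x * ιA a⁻¹ = ιA (f a) * ιL x := by
        intro a
        rw [mul_assoc, ← hconj x a⁻¹, ← mul_assoc, ← map_mul]
      calc ∑ a : ↥A, ιA a * ιL x * ιA a⁻¹ = ∑ a : ↥A, ιA (f a) * ιL x :=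
            Finset.sum_congr rfl fun a _ => hstep a
        _ = (∑ a : ↥A, ιA (f a)) * ιL x := (Finset.sum_mul ..).symm
        _ = (∑ a : ↥A, ιA a) * ιL x := by
            rw [(Finite.injective_iff_bijective.mp hf).sum_comp (fun a => ιA a)]
        _ = 0 := by rw [hsumA, zero_mul]
    · simp
  rw [hsumL] at hnorm
  simp only [mul_zero, zero_mul, Finset.sum_const_zero] at hnorm
  obtain ⟨v, hv⟩ := V.ne_bot_iff_exists_ne_one.mp hV1
  have h0 : Fintype.card ↥A • Additive.ofMul v = (0 : Additive ↥V) := by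
    have := DFunLike.congr_fun hnorm (Additive.ofMul v)
    rw [AddMonoid.End.natCast_apply] at this
    exact this.symm
  have h1 : (v : G) ^ Fintype.card ↥A = 1 := congrArg Subtype.val h0
  have hcop : Nat.gcd (Fintype.card ↥A) q = 1 :=
    Nat.Coprime.symm ((Nat.Prime.coprime_iff_not_dvd hq.out).mpr
      (by rwa [← Nat.card_eq_fintype_card]))
  exact hv (Subtype.ext (by
    simpa [hcop] using pow_gcd_eq_one.mpr ⟨h1, hV.2 _ v.2⟩))

/-- The abelian case: if the complement `L` of a Frobenius group `P L` has fixed points only among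
those of `P` on an abelian `V`, then `P` centralises `V`. -/
theorem abelian_le_centralizer_of_frobenius {V P L : Subgroup G} [IsMulCommutative V]
    (hPV : P ≤ normalizer (V : Set G)) (hLV : L ≤ normalizer (V : Set G))
    (hLP : L ≤ normalizer (P : Set G)) (hfree : ∀ k ∈ L, k ≠ 1 → P ⊓ centralizer ({k} : Set G) = ⊥)
    (hcop : (Nat.card P).Coprime (Nat.card V))
    (hfix : V ⊓ centralizer (L : Set G) ≤ centralizer (P : Set G)) :
    P ≤ centralizer (V : Set G) := by
  obtain ⟨hd, hs⟩ := Coprime.abelian_decomposition hPV hcop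
  by_contra hne
  set W := ⁅V, P⁆ with hW
  have hW1 : W ≠ ⊥ := fun e => hne (le_centralizer_iff.mp
    (inf_eq_left.mp (show V ⊓ centralizer (P : Set G) = V by rwa [e, sup_bot_eq] at hs)))
  have hWV : W ≤ V := Coprime.commutator_le_left_of_normalizer hPV
  obtain ⟨x, hx, hq⟩ := Coprime.exists_prime_orderOf_mem hW1
  haveI := Fact.mk hq
  set q := orderOf x
  haveI hWc : IsMulCommutative W :=
    isMulCommutative_of_le' hWV inferInstance
  let W₀ : Subgroup G :=
    { carrier := {y | y ∈ W ∧ y ^ q = 1}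
      one_mem' := ⟨one_mem _, one_pow _⟩
      mul_mem' := fun {a b} ha hb => ⟨mul_mem ha.1 hb.1, by
        rw [Commute.mul_pow (show Commute a b from congrArg Subtype.val
          (mul_comm' (⟨a, ha.1⟩ : W) ⟨b, hb.1⟩)), ha.2, hb.2, one_mul]⟩
      inv_mem' := fun {a} ha => ⟨inv_mem ha.1, by rw [inv_pow, ha.2, inv_one]⟩ }
  have hW₀W : W₀ ≤ W := fun y hy => hy.1
  have hn : ∀ A : Subgroup G, A ≤ normalizer (V : Set G) → A ≤ normalizer (P : Set G) →
      A ≤ normalizer (W₀ : Set G) := by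
    intro A hAV hAP
    refine le_normalizer_iff.mpr fun a ha y hy => ⟨Coprime.conj_mem ?_ hy.1, ?_⟩
    · exact Coprime.mem_normalizer_commutator (hAV ha) (hAP ha)
    · rw [← MulAut.conj_apply, ← map_pow, hy.2, map_one]
  have hW₀e : IsElementaryAbelian q W₀ :=
    ⟨isMulCommutative_of_le' hW₀W hWc, fun y hy => hy.2⟩
  refine centralizer_ne_bot_of_frobenius' W₀ P L hW₀e ?_ ?_ (hn P hPV le_normalizer)
    (hn L hLV hLP) hLP hfree ?_ ?_
  · exact fun e => hq.ne_one (orderOf_eq_one_iff.mpr (mem_bot.mp (e ▸ (⟨hx, pow_orderOf_eq_one x⟩ : x ∈ W₀))))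
  · intro h
    refine Nat.not_coprime_of_dvd_of_dvd hq.one_lt h ?_ hcop
    exact (Subgroup.orderOf_mk x (hWV hx)).symm.dvd.trans (orderOf_dvd_natCard _)
  · exact le_bot_iff.mp (hd ▸ le_inf (le_inf (inf_le_left.trans (hW₀W.trans hWV)) inf_le_right)
      (inf_le_left.trans hW₀W))
  · exact le_bot_iff.mp (hd ▸ le_inf (le_inf (inf_le_left.trans (hW₀W.trans hWV))
      ((inf_le_inf_right _ (hW₀W.trans hWV)).trans hfix)) (inf_le_left.trans hW₀W))

/-- A Frobenius group `P L` acting coprimely on a solvable `B`: if the fixed points of `L` are fixed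
by `P`, then `P` centralises `B`. -/
theorem le_centralizer_of_frobenius : ∀ (n : ℕ) {B P L : Subgroup G}, Nat.card B = n →
    Group.IsSolvable B → P ≤ normalizer (B : Set G) →
    L ≤ normalizer (B : Set G) → L ≤ normalizer (P : Set G) →
    (∀ k ∈ L, k ≠ 1 → P ⊓ centralizer ({k} : Set G) = ⊥) →
    (Nat.card P).Coprime (Nat.card B) → (Nat.card L).Coprime (Nat.card B) →
    B ⊓ centralizer (L : Set G) ≤ centralizer (P : Set G) → P ≤ centralizer (B : Set G) := by
  intro n
  induction n using Nat.strong_induction_on with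
  | _ n ih =>
  intro B P L hn hs hPB hLB hLP hfree hcP hcL hfix
  subst hn
  have step : ∀ B' : Subgroup G, B' < B → P ≤ normalizer (B' : Set G) →
      L ≤ normalizer (B' : Set G) → P ≤ centralizer (B' : Set G) := fun B' hlt h1 h2 =>
    ih _ (Set.ncard_lt_ncard (SetLike.coe_ssubset_coe.mpr hlt) (Set.toFinite _)) rfl
      (Coprime.isSolvable_of_le hlt.le hs) h1 h2 hLP hfree (Coprime.coprime_of_le hlt.le hcP)
      (Coprime.coprime_of_le hlt.le hcL) ((inf_le_inf_right _ hlt.le).trans hfix)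
  set W := ⁅B, P⁆ with hW
  have hWB : W ≤ B := Coprime.commutator_le_left_of_normalizer hPB
  rcases hWB.lt_or_eq with hlt | hWeq
  · exact Coprime.le_centralizer_of_commutator_le hPB hcP le_rfl
      (step W hlt (fun a ha => Coprime.mem_normalizer_commutator (hPB ha) (le_normalizer ha))
        (fun a ha => Coprime.mem_normalizer_commutator (hLB ha) (hLP ha)))
  -- now `B = [B, P]`; pass to the largest abelian quotient
  by_cases hB1 : B = ⊥
  · rw [hB1]
    exact fun a _ => mem_centralizer_iff.mpr fun b hb => by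
      rw [SetLike.mem_coe, mem_bot] at hb
      rw [hb, one_mul, mul_one]
  exfalso
  set D := ⁅B, B⁆ with hD
  haveI := hs
  haveI : Nontrivial B := (nontrivial_iff_ne_bot B).mpr hB1
  have hDlt : D < B := by
    rw [hD, ← map_subtype_commutator]
    refine lt_of_le_of_ne (map_subtype_le _) fun e => ?_
    exact (Group.IsSolvable.commutator_lt_top_of_nontrivial B).ne
      ((map_injective B.subtype_injective) (e.trans (range_subtype B).symm |>.trans
        (MonoidHom.range_eq_map _)))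
  have hND : ∀ {a : G}, a ∈ normalizer (B : Set G) → a ∈ normalizer (D : Set G) := fun h =>
    Coprime.mem_normalizer_commutator h h
  set X := normalizer (D : Set G)
  have hBX : B ≤ X := fun b hb => hND (le_normalizer hb)
  have hPX : P ≤ X := fun a ha => hND (hPB ha)
  have hLX : L ≤ X := fun a ha => hND (hLB ha)
  haveI : (D.subgroupOf X).Normal := normal_subgroupOf_of_le_normalizer le_rfl
  set f := QuotientGroup.mk' (D.subgroupOf X) with hf
  set Bb := (B.subgroupOf X).map f
  set Pb := (P.subgroupOf X).map f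
  set Lb := (L.subgroupOf X).map f
  have hnorm : ∀ {A C : Subgroup G}, C ≤ X → A ≤ normalizer (C : Set G) →
      (A.subgroupOf X).map f ≤ normalizer ((C.subgroupOf X).map f : Set (X ⧸ D.subgroupOf X)) := by
    intro A C hC hA
    refine le_normalizer_iff.mpr ?_
    rintro _ ⟨a, ha, rfl⟩ _ ⟨c, hc, rfl⟩
    exact ⟨a * c * a⁻¹, (show (a : G) * c * (a : G)⁻¹ ∈ C from Coprime.conj_mem (hA ha) hc), by rw [map_mul, map_mul, map_inv]⟩
  haveI : IsMulCommutative Bb := by
    refine ⟨⟨?_⟩⟩
    rintro ⟨_, a, ha, rfl⟩ ⟨_, b, hb, rfl⟩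
    refine Subtype.ext (show f a * f b = f b * f a from commutatorElement_eq_one_iff_mul_comm.mp ?_)
    rw [← map_commutatorElement]
    exact (QuotientGroup.eq_one_iff _).mpr (commutator_mem_commutator ha hb)
  have hker : ∀ {A : Subgroup G}, (Nat.card A).Coprime (Nat.card B) → ∀ {a : X}, (a : G) ∈ A →
      f a = 1 → a = 1 := by
    intro A hA a ha h
    refine Subtype.ext (mem_bot.mp ?_)
    rw [← Coprime.inf_eq_bot hA]
    exact ⟨ha, hDlt.le (mem_subgroupOf.mp ((QuotientGroup.eq_one_iff a).mp h))⟩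
  have hfree' : ∀ k ∈ Lb, k ≠ 1 → Pb ⊓ centralizer ({k} : Set (X ⧸ D.subgroupOf X)) = ⊥ := by
    rintro _ ⟨k, hk, rfl⟩ hk1
    refine le_bot_iff.mp ?_
    rintro _ ⟨⟨a, ha, rfl⟩, hac⟩
    have hc : f a * f k = f k * f a :=
      (mem_centralizer_iff.mp hac (f k) rfl).symm
    have h1 : a * k * a⁻¹ * k⁻¹ = 1 := by
      refine hker hcP ?_ (by rw [map_mul, map_mul, map_mul, map_inv, map_inv, hc]; group)
      have : (a : G) * k * (a : G)⁻¹ * (k : G)⁻¹ = a * (k * (a : G)⁻¹ * (k : G)⁻¹) := by group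
      show (a : G) * k * (a : G)⁻¹ * (k : G)⁻¹ ∈ P
      rw [this]
      exact mul_mem ha (Coprime.conj_mem (hLP hk) (inv_mem ha))
    have h2 : (a : G) * k = k * a :=
      congrArg Subtype.val (mul_inv_eq_iff_eq_mul.mp (mul_inv_eq_one.mp h1))
    have h3 : (a : G) ∈ P ⊓ centralizer ({(k : G)} : Set G) :=
      ⟨ha, mem_centralizer_iff.mpr fun z hz => by rw [Set.mem_singleton_iff.mp hz]; exact h2.symm⟩
    rw [hfree k hk fun e => hk1 (by rw [show k = 1 from Subtype.ext e, map_one]), mem_bot] at h3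
    rw [show a = 1 from Subtype.ext h3, map_one]
    exact one_mem _
  have hcop' : (Nat.card Pb).Coprime (Nat.card Bb) := by
    refine Nat.Coprime.coprime_dvd_left ?_ (Nat.Coprime.coprime_dvd_right ?_ hcP)
    · exact (card_map_dvd _ _).trans (Nat.card_congr (subgroupOfEquivOfLe hPX).toEquiv).dvd
    · exact (card_map_dvd _ _).trans (Nat.card_congr (subgroupOfEquivOfLe hBX).toEquiv).dvd
  have hfix' : Bb ⊓ centralizer (Lb : Set (X ⧸ D.subgroupOf X)) ≤
      centralizer (Pb : Set (X ⧸ D.subgroupOf X)) := by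
    rintro _ ⟨⟨b, hb, rfl⟩, hbc⟩
    have hfixb : ∀ a ∈ L, a * (b : G) * a⁻¹ * (b : G)⁻¹ ∈ D := by
      intro a ha
      have h := mem_centralizer_iff.mp hbc (f ⟨a, hLX ha⟩) ⟨⟨a, hLX ha⟩, ha, rfl⟩
      have h2 : f (⟨a, hLX ha⟩ * b * ⟨a, hLX ha⟩⁻¹ * b⁻¹) = 1 := by
        rw [map_mul, map_mul, map_mul, map_inv, map_inv, h]; group
      exact mem_subgroupOf.mp ((QuotientGroup.eq_one_iff _).mp h2)
    obtain ⟨c, ⟨hcB, hcC⟩, hcD⟩ := Coprime.exists_centralizer_mem_of_comm_mem hLB hcL
      (Or.inr hs) hDlt.le (fun x hx => hND (le_normalizer hx)) hLX hb hfixb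
    have hcP' := hfix ⟨hcB, hcC⟩
    have e : f b = f ⟨c, hBX hcB⟩ := QuotientGroup.eq.mpr (mem_subgroupOf.mpr hcD)
    rw [e]
    refine mem_centralizer_iff.mpr ?_
    rintro _ ⟨a, ha, rfl⟩
    rw [← map_mul, ← map_mul]
    exact congrArg f (Subtype.ext (mem_centralizer_iff.mp hcP' _ ha))
  have h := abelian_le_centralizer_of_frobenius (V := Bb) (hnorm hBX hPB) (hnorm hBX hLB)
    (hnorm hPX hLP) hfree' hcop' hfix'
  -- so `[B, P] ≤ [B, B]`
  refine hDlt.not_ge (hWeq ▸ commutator_le.mpr fun b hb a ha => ?_)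
  have h2 : f ⁅(⟨b, hBX hb⟩ : X), ⟨a, hPX ha⟩⁆ = 1 := by
    rw [map_commutatorElement]
    exact commutatorElement_eq_one_iff_mul_comm.mpr
      (mem_centralizer_iff.mp (h ⟨⟨a, hPX ha⟩, ha, rfl⟩) _ ⟨⟨b, hBX hb⟩, hb, rfl⟩)
  exact mem_subgroupOf.mp ((QuotientGroup.eq_one_iff _).mp h2)

end Cfsg.Agent.OddOrder.BG15
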