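import Cfsg.Agent.OddOrder.BG15.Fitting
import Cfsg.Agent.OddOrder.BG10.SigmaTrans
import Cfsg.Agent.OddOrder.BG11.SylowOf
import Cfsg.Agent.Coprime.Commutator

/-!
# An element of `M_σ` whose centralizer leaves `M`, for nilpotent `M_σ`

Then `β(M)` is empty, so `[M, M]` is nilpotent (first part of BG 15.7).
-/

set_option autoImplicit false
set_option linter.style.haveILetI false
set_option linter.unusedVariables false

universe u

namespace Cfsg.Agent.OddOrder.BG15

open Subgroup H40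

variable {G : Type u} [Group G] [Finite G] {M : Subgroup G}

/-- An element of prime order in `⟨y⟩`, whose centralizer is at least that of `y`. -/
theorem exists_prime_part {y : G} (hy : y ≠ 1) :
    ∃ z ∈ zpowers y, (orderOf z).Prime ∧
      centralizer ({y} : Set G) ≤ centralizer ({z} : Set G) := by
  obtain ⟨p, hp, hd⟩ := prime_dvd_of_orderOf hy
  obtain ⟨z, hz, hzo⟩ := exists_pow_prime hp hd
  refine ⟨z, hz, hzo ▸ hp, ?_⟩
  intro c hc
  rw [mem_centralizer_singleton]
  exact (commute_of_mem_zpowers hz (mem_centralizer_singleton.mp hc).symm).symm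

theorem beta_eq_empty_of_centralizer (h : Facts G) (hM : IsCoatom M)
    (hnil : Group.IsNilpotent (sigmaCore M)) {y : G} (hy : y ∈ sigmaCore M) (hy1 : y ≠ 1)
    (hyM : ¬ centralizer ({y} : Set G) ≤ M) : beta M = ∅ := by
  have hG := h.minSimple
  obtain ⟨z, hz, hzp, hzC⟩ := exists_prime_part hy1
  have hzσ : z ∈ sigmaCore M := (zpowers_le.mpr hy) hz
  have hzM : ¬ centralizer ({z} : Set G) ≤ M := fun h' => hyM (hzC.trans h')
  obtain ⟨c, hc, hcM⟩ := SetLike.not_le_iff_exists.mp hzM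
  obtain ⟨E, hE⟩ := exists_compl hG hM
  have hzc : z ∈ sigmaCore M ⊓ cj c M := by
    refine ⟨hzσ, mem_cj.mpr ?_⟩
    rw [mul_assoc, ← mem_centralizer_singleton.mp hc, inv_mul_cancel_left]
    exact sigmaCore_le M hzσ
  have hpβ : orderOf z ∉ beta M :=
    ((h.sigmaCoreAction M hM E hE).2.2 c hcM).2.1 _ hzp (orderOf_dvd_card hzc)
  refine Set.eq_empty_iff_forall_notMem.mpr fun r hr => ?_
  haveI := Fact.mk (show r.Prime from hr.1.1)
  have hrσ : r ∈ sigma M := BG10.alpha_subset_sigma hG hM hr.1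
  have hrM : r ∣ Nat.card (sigmaCore M) := by
    by_contra hn
    have := relIndex_mul_relIndex (⊥ : Subgroup G) (sigmaCore M) M bot_le (sigmaCore_le M)
    rw [relIndex_bot_left, relIndex_bot_left] at this
    rcases (Nat.Prime.dvd_mul hr.1.1).mp (this.symm ▸ dvd_of_mem_sigma hrσ) with h1 | h1
    · exact hn h1
    · exact not_dvd_relIndex_sigmaCore hG hM hr.1.1 hrσ h1
  obtain ⟨x, hx⟩ := exists_prime_orderOf_dvd_card' (G := sigmaCore M) r hrM
  obtain ⟨P⟩ : Nonempty (Sylow r ↥(sigmaCore M)) := inferInstance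
  obtain ⟨-, hU, hPM⟩ := h.betaUnique M hM r hrσ (zpowers (x : G))
    (zpowers_le.mpr (sigmaCore_le M x.2))
    (by rw [Nat.card_zpowers, Subgroup.orderOf_coe, hx]) P (Or.inl hr)
  set R := (P : Subgroup ↥(sigmaCore M)).map (sigmaCore M).subtype
  have hne : r ≠ orderOf z := fun e => hpβ (e ▸ hr)
  have hRz : R ≤ centralizer ({z} : Set G) := by
    rw [← centralizer_zpowers]
    refine le_centralizer_of_nilpotent hnil (map_subtype_le _) (zpowers_le.mpr hzσ) ?_
    obtain ⟨n, hn⟩ := IsPGroup.iff_card.mp (P.isPGroup'.map (sigmaCore M).subtype)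
    rw [Nat.card_zpowers, hn]
    exact Nat.Coprime.pow_left n ((Nat.coprime_primes hr.1.1 hzp).mpr hne)
  have hCt : centralizer ({z} : Set G) ≠ ⊤ := by
    rw [← centralizer_zpowers]
    exact BG11.centralizer_ne_top hG (fun e => hzp.ne_one (by rw [← Nat.card_zpowers, e, card_bot]))
      (BG11.ne_top_of_le_coatom hM (zpowers_le.mpr (sigmaCore_le M hzσ)))
  exact hzM (BG11.le_of_inUniqueMaximal hU hM hPM hCt hRz)

theorem isNilpotent_derived_of_centralizer (h : Facts G) (hM : IsCoatom M)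
    (hnil : Group.IsNilpotent (sigmaCore M)) {y : G} (hy : y ∈ sigmaCore M) (hy1 : y ≠ 1)
    (hyM : ¬ centralizer ({y} : Set G) ≤ M) : Group.IsNilpotent ↥⁅M, M⁆ := by
  obtain ⟨H, hH, hHn⟩ := (h.betaCore M hM).2.2.1
  have hb := beta_eq_empty_of_centralizer h hM hnil hy hy1 hyM
  have h1 : H.relIndex ⁅M, M⁆ = 1 := by
    refine Nat.eq_one_iff_not_exists_prime_dvd.mpr fun p hp => hH.2.2 p hp ⟨hp, ?_⟩
    rw [hb]; exact Set.notMem_empty p
  rw [le_antisymm (relIndex_eq_one.mp h1) hH.1]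
  exact hHn

theorem derived_le_fittingOf (hn : Group.IsNilpotent ↥⁅M, M⁆) : ⁅M, M⁆ ≤ fittingOf M :=
  le_fittingOf (commutator_le.mpr fun _ hx _ hy => M.mul_mem (M.mul_mem (M.mul_mem hx hy)
    (M.inv_mem hx)) (M.inv_mem hy))
    (fun a ha => Coprime.mem_normalizer_commutator (le_normalizer ha) (le_normalizer ha)) hn

/-- A conjugation which sends an element of `M_σ` back into `M` is a product of an element of `M`
and an element centralizing it. -/
theorem not_centralizer_le_of_conj (hG : IsMinSimpleOddOrder G) (hM : IsCoatom M) {y g : G}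
    (hy : y ∈ sigmaCore M) (hp : (orderOf y).Prime) (hg : g ∉ M) (h : g * y * g⁻¹ ∈ M) :
    ¬ centralizer ({y} : Set G) ≤ M := by
  haveI := Fact.mk hp
  intro hle
  have hσ : orderOf y ∈ sigma M := sigmaCore_isPiNumber M _ hp (orderOf_dvd_card hy)
  obtain ⟨m, hm, c, hc, rfl⟩ := (BG10.sigma_trans' hG hM hσ (isPGroup_zpowers rfl)
    (fun e => hp.ne_one (by rw [← Nat.card_zpowers, e, card_bot]))
    (zpowers_le.mpr (sigmaCore_le M hy))).1 g (by
      rw [cj, MonoidHom.map_zpowers]
      exact zpowers_le.mpr h)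
  rw [centralizer_zpowers] at hc
  exact hg (M.mul_mem hm (hle hc))

end Cfsg.Agent.OddOrder.BG15
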