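import Cfsg.Agent.H72.AbelianIndexP
import Cfsg.Agent.H91.Replace
import Cfsg.Agent.Frobenius.Basic
import Cfsg.Agent.Coprime.Action
import Cfsg.Agent.PGroups.Basic

/-!
# Cyclic operators of odd order on a group of order `p ^ 3`
-/

set_option autoImplicit false
set_option linter.style.haveILetI false
set_option linter.unusedVariables false

universe u

namespace Cfsg.Agent.OddOrder.BG15

open Subgroup
open scoped commutatorElement

variable {G : Type u} [Group G] [Finite G]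

/-- A group acting freely on a subgroup of prime order `r` has order dividing `r - 1`. -/
theorem dvd_pred_of_fpf_prime {C A : Subgroup G} {r : ℕ} (hr : r.Prime) (hC : Nat.card C = r)
    (hA : A ≤ normalizer (C : Set G))
    (hfree : ∀ a ∈ A, ∀ c ∈ C, a * c = c * a → a = 1 ∨ c = 1) : Nat.card A ∣ r - 1 := by
  classical
  letI : MulAction A {c : C // c ≠ 1} :=
    { smul := fun a c => ⟨⟨(a : G) * c.1 * (a : G)⁻¹, Coprime.conj_mem (hA a.2) c.1.2⟩, fun e =>
        c.2 (Subtype.ext (conj_eq_one_iff.mp (congrArg Subtype.val e)))⟩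
      one_smul := fun c => Subtype.ext (Subtype.ext (show (1 : G) * c.1 * 1⁻¹ = c.1 by simp))
      mul_smul := fun a b c => Subtype.ext (Subtype.ext
        (show (a * b : G) * c.1 * (a * b : G)⁻¹ = a * (b * c.1 * (b : G)⁻¹) * (a : G)⁻¹ by group)) }
  have h := Frobenius.dvd_card_of_free A (X := {c : C // c ≠ 1}) fun a c e => by
    have e1 : (a : G) * c.1 * (a : G)⁻¹ = c.1 := congrArg (fun x => (x.1 : G)) e
    rcases hfree a a.2 c.1 c.1.2 (mul_inv_eq_iff_eq_mul.mp e1) with h1 | h1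
    · exact Subtype.ext h1
    · exact absurd (Subtype.ext h1) c.2
  haveI : Fintype C := Fintype.ofFinite _
  have hc : Nat.card {c : C // c ≠ 1} = r - 1 := by
    rw [Nat.card_eq_fintype_card, Fintype.card_subtype_compl, ← Nat.card_eq_fintype_card, hC]
    simp
  rwa [hc] at h

/-- The lines of an elementary plane. -/
theorem card_lines {V : Subgroup G} {p : ℕ} [Fact p.Prime] (hV : Nat.card V = p ^ 2)
    (hVe : ∀ v ∈ V, v ^ p = 1) :
    Nat.card {L : Subgroup G // L ≤ V ∧ Nat.card L = p} = p + 1 := by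
  rw [← H72.AbIdx.card_subgroups_prime hV fun x => Subtype.ext (hVe x x.2)]
  refine Nat.card_congr
    { toFun := fun L => ⟨L.1.subgroupOf V,
        (Nat.card_congr (subgroupOfEquivOfLe L.2.1).toEquiv).trans L.2.2⟩
      invFun := fun L => ⟨L.1.map V.subtype, map_subtype_le _,
        (card_map_of_injective V.subtype_injective).trans L.2⟩
      left_inv := fun L => Subtype.ext (map_subgroupOf_eq_of_le L.2.1)
      right_inv := fun L => Subtype.ext (comap_map_eq_self_of_injective V.subtype_injective _) }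

/-- A commutative group of odd order acting freely on an elementary plane, with scalars of square one,
has order dividing `p - 1` or `p + 1`. -/
theorem dvd_pred_or_succ {V A : Subgroup G} {p : ℕ} [hp : Fact p.Prime]
    (hV : Nat.card V = p ^ 2) (hVc : ∀ a ∈ V, ∀ b ∈ V, a * b = b * a) (hVe : ∀ v ∈ V, v ^ p = 1)
    (hA : A ≤ normalizer (V : Set G)) (hAc : ∀ a ∈ A, ∀ b ∈ A, a * b = b * a)
    (hodd : Odd (Nat.card A))
    (hfree : ∀ a ∈ A, ∀ v ∈ V, a * v = v * a → a = 1 ∨ v = 1)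
    (hdet : ∀ a ∈ A, ∀ i : ℤ, (∀ v ∈ V, a * v * a⁻¹ = v ^ i) → (p : ℤ) ∣ i * i - 1) :
    Nat.card A ∣ p - 1 ∨ Nat.card A ∣ p + 1 := by
  classical
  set T := {L : Subgroup G // L ≤ V ∧ Nat.card L = p}
  letI : MulAction A T :=
    { smul := fun a L => ⟨L.1.map (MulAut.conj (a : G)).toMonoidHom,
        (map_mono L.2.1).trans (Coprime.map_conj_eq (hA a.2)).le,
        (Coprime.card_map_conj (a : G) L.1).trans L.2.2⟩
      one_smul := fun L => Subtype.ext (Coprime.map_conj_one L.1)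
      mul_smul := fun a b L => Subtype.ext (Coprime.map_conj_map_conj (a : G) (b : G) L.1).symm }
  have hsmul : ∀ (a : A) (L : T), a • L = L → (a : G) ∈ normalizer (L.1 : Set G) := fun a L e =>
    Coprime.mem_normalizer_of_map_conj (congrArg Subtype.val e)
  -- a point fixed by everybody
  have hline : (∃ L : T, ∀ a : A, a • L = L) → Nat.card A ∣ p - 1 := fun ⟨L, hL⟩ =>
    dvd_pred_of_fpf_prime hp.out L.2.2 (fun a ha => hsmul ⟨a, ha⟩ L (hL _))
      fun a ha c hc e => hfree a ha c (L.2.1 hc) e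
  by_cases hsemi : ∀ (a : A) (L : T), a • L = L → a = 1
  · right
    have h := Frobenius.dvd_card_of_free A hsemi
    rwa [card_lines hV hVe] at h
  left
  push Not at hsemi
  obtain ⟨a, L₁, ha1, hane⟩ := hsemi
  by_cases h3 : ∃ L₂ L₃ : T, a • L₂ = L₂ ∧ a • L₃ = L₃ ∧ L₁ ≠ L₂ ∧ L₁ ≠ L₃ ∧ L₂ ≠ L₃
  · exfalso
    obtain ⟨L₂, L₃, ha2, ha3, h12, h13, h23⟩ := h3
    have hgen : ∀ L : T, ∀ x ∈ L.1, x ≠ 1 → L.1 = zpowers x := fun L x hx hx1 => by
      refine (eq_of_le_of_card_ge (zpowers_le.mpr hx) ?_).symm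
      rw [L.2.2, Nat.card_zpowers, orderOf_eq_prime (hVe x (L.2.1 hx)) hx1]
    have hpick : ∀ L : T, ∃ x ∈ L.1, x ≠ 1 := fun L => by
      by_contra h
      push Not at h
      have : L.1 = ⊥ := (Subgroup.eq_bot_iff_forall _).mpr h
      have hc := L.2.2
      rw [this, card_bot] at hc
      exact hp.out.ne_one hc.symm
    have hdisj : ∀ L L' : T, L ≠ L' → L.1 ⊓ L'.1 = ⊥ := fun L L' hne => by
      refine (Subgroup.eq_bot_iff_forall _).mpr fun x hx => ?_
      by_contra hx1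
      exact hne (Subtype.ext ((hgen L x hx.1 hx1).trans (hgen L' x hx.2 hx1).symm))
    obtain ⟨u, hu, hu1⟩ := hpick L₁
    obtain ⟨v, hv, hv1⟩ := hpick L₂
    obtain ⟨w, hw, hw1⟩ := hpick L₃
    have hsc : ∀ (L : T) (x : G), a • L = L → x ∈ L.1 → x ≠ 1 → ∃ i : ℤ,
        (a : G) * x * (a : G)⁻¹ = x ^ i := fun L x he hx hx1 => by
      have h1 := Coprime.conj_mem (hsmul a L he) hx
      conv at h1 => arg 1; rw [hgen L x hx hx1]
      obtain ⟨i, hi⟩ := mem_zpowers_iff.mp h1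
      exact ⟨i, hi.symm⟩
    obtain ⟨α, hα⟩ := hsc L₁ u ha1 hu hu1
    obtain ⟨β, hβ⟩ := hsc L₂ v ha2 hv hv1
    obtain ⟨γ, hγ⟩ := hsc L₃ w ha3 hw hw1
    have hu' : u ∈ V := L₁.2.1 hu
    have hv' : v ∈ V := L₂.2.1 hv
    have h12' : L₁.1 ⊓ L₂.1 = ⊥ := hdisj _ _ h12
    have hnorm : L₂.1 ≤ normalizer (L₁.1 : Set G) :=
      le_normalizer_iff.mpr fun g hg x hx => by
        rw [hVc g (L₂.2.1 hg) x (L₁.2.1 hx), mul_inv_cancel_right]
        exact hx
    have hsup : L₁.1 ⊔ L₂.1 = V := by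
      refine eq_of_le_of_card_ge (sup_le L₁.2.1 L₂.2.1) ?_
      have e := H91.card_sup_mul_card_inf' hnorm
      rw [h12', card_bot, mul_one, L₁.2.2, L₂.2.2] at e
      rw [hV, e, pow_two]
    have hrep : ∀ x ∈ V, ∃ i j : ℤ, x = u ^ i * v ^ j := fun x hx => by
      rw [← hsup, Coprime.mem_sup_iff hnorm] at hx
      obtain ⟨y, hy, z, hz, rfl⟩ := hx
      rw [hgen L₁ u hu hu1] at hy
      rw [hgen L₂ v hv hv1] at hz
      obtain ⟨i, rfl⟩ := mem_zpowers_iff.mp hy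
      obtain ⟨j, rfl⟩ := mem_zpowers_iff.mp hz
      exact ⟨i, j, rfl⟩
    have huv : Commute u v := hVc u hu' v hv'
    have hcj : ∀ i j : ℤ, (a : G) * (u ^ i * v ^ j) * (a : G)⁻¹ = u ^ (α * i) * v ^ (β * j) :=
      fun i j => by
        rw [conj_mul.symm, ← conj_zpow, ← conj_zpow, hα, hβ, ← zpow_mul, ← zpow_mul]
    obtain ⟨i, j, hij⟩ := hrep w (L₃.2.1 hw)
    have hi : ¬ (orderOf u : ℤ) ∣ i := fun hd => by
      rw [orderOf_dvd_iff_zpow_eq_one.mp hd, one_mul] at hij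
      exact hw1 (mem_bot.mp (hdisj _ _ h23 ▸ (⟨hij ▸ zpow_mem hv j, hw⟩ : w ∈ L₂.1 ⊓ L₃.1)))
    have hj : ¬ (orderOf v : ℤ) ∣ j := fun hd => by
      rw [orderOf_dvd_iff_zpow_eq_one.mp hd, mul_one] at hij
      exact hw1 (mem_bot.mp (hdisj _ _ h13 ▸ (⟨hij ▸ zpow_mem hu i, hw⟩ : w ∈ L₁.1 ⊓ L₃.1)))
    rw [hij, hcj, Commute.mul_zpow ((huv.zpow_left i).zpow_right j), ← zpow_mul, ← zpow_mul] at hγ
    have hmem : u ^ ((α - γ) * i) = v ^ ((γ - β) * j) := by
      rw [sub_mul, sub_mul, zpow_sub, zpow_sub]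
      have e : u ^ (α * i) = u ^ (i * γ) * v ^ (j * γ) * (v ^ (β * j))⁻¹ := eq_mul_inv_of_mul_eq hγ
      rw [e, mul_comm i γ, mul_comm j γ, mul_assoc (u ^ (γ * i))]
      have hc : Commute (u ^ (γ * i)) (v ^ (γ * j) * (v ^ (β * j))⁻¹) :=
        ((huv.zpow_left _).zpow_right _).mul_right ((huv.zpow_left _).zpow_right _).inv_right
      rw [hc.eq, mul_inv_cancel_right]
    have hzero : u ^ ((α - γ) * i) = 1 := mem_bot.mp (h12' ▸
      (⟨zpow_mem hu _, hmem ▸ zpow_mem hv _⟩ : u ^ ((α - γ) * i) ∈ L₁.1 ⊓ L₂.1))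
    have hpi : Prime (p : ℤ) := Nat.prime_iff_prime_int.mp hp.out
    have hou : orderOf u = p := orderOf_eq_prime (hVe u hu') hu1
    have hov : orderOf v = p := orderOf_eq_prime (hVe v hv') hv1
    have hαγ : (p : ℤ) ∣ α - γ :=
      (hpi.dvd_or_dvd (hou ▸ orderOf_dvd_iff_zpow_eq_one.mpr hzero)).resolve_right (hou ▸ hi)
    have hγβ : (p : ℤ) ∣ γ - β :=
      (hpi.dvd_or_dvd (hov ▸ orderOf_dvd_iff_zpow_eq_one.mpr (hmem ▸ hzero))).resolve_right
        (hov ▸ hj)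
    have hall : ∀ x ∈ V, (a : G) * x * (a : G)⁻¹ = x ^ α := by
      intro x hx
      obtain ⟨k, l, rfl⟩ := hrep x hx
      have hv2 : v ^ (β * l) = v ^ (α * l) := by
        rw [← mul_inv_eq_one, ← zpow_sub, ← orderOf_dvd_iff_zpow_eq_one, hov, ← sub_mul]
        refine Dvd.dvd.mul_right ?_ l
        have := dvd_neg.mpr (dvd_add hαγ hγβ)
        rwa [sub_add_sub_cancel, neg_sub] at this
      rw [hcj, hv2, Commute.mul_zpow ((huv.zpow_left k).zpow_right l), ← zpow_mul, ← zpow_mul,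
        mul_comm k, mul_comm l]
    refine hane ?_
    rcases hpi.dvd_or_dvd (show (p : ℤ) ∣ (α - 1) * (α + 1) by
      have h := hdet a a.2 α hall
      convert h using 1
      ring) with h1 | h1
    · refine Subtype.ext ((hfree a a.2 u hu' ?_).resolve_right hu1)
      have : u ^ (α - 1) = 1 := orderOf_dvd_iff_zpow_eq_one.mp (hou ▸ h1)
      rw [zpow_sub, zpow_one, mul_inv_eq_one] at this
      rw [this] at hα
      exact mul_inv_eq_iff_eq_mul.mp hα
    · have h2 : u ^ (α + 1) = 1 := orderOf_dvd_iff_zpow_eq_one.mp (hou ▸ h1)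
      rw [zpow_add, zpow_one, mul_eq_one_iff_eq_inv] at h2
      rw [h2] at hα
      have h4 : ((a * a : A) : G) * u = u * ((a * a : A) : G) := by
        refine mul_inv_eq_iff_eq_mul.mp ?_
        show (a : G) * a * u * ((a : G) * a)⁻¹ = u
        calc (a : G) * a * u * ((a : G) * a)⁻¹ = a * (a * u * (a : G)⁻¹) * (a : G)⁻¹ := by group
          _ = a * u⁻¹ * (a : G)⁻¹ := by rw [hα]
          _ = ((a : G) * u * (a : G)⁻¹)⁻¹ := by group
          _ = u := by rw [hα, inv_inv]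
      have h5 : a * a = 1 := Subtype.ext ((hfree _ (a * a).2 u hu' h4).resolve_right hu1)
      have h6 : orderOf a ∣ 2 := orderOf_dvd_of_pow_eq_one (by rw [pow_two, h5])
      rcases (Nat.dvd_prime Nat.prime_two).mp h6 with h7 | h7
      · exact orderOf_eq_one_iff.mp h7
      · exact absurd (h7 ▸ (orderOf_dvd_natCard a)) hodd.not_two_dvd_nat
  refine hline ⟨L₁, fun b => ?_⟩
  by_contra hne
  have hcomm : ∀ c : A, a • (c • L₁) = c • L₁ := fun c => by
    rw [smul_smul, show a * c = c * a from Subtype.ext (hAc a a.2 c c.2), ← smul_smul, ha1]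
  have hbb : (b * b) • L₁ = L₁ := by
    by_contra hne2
    refine h3 ⟨b • L₁, (b * b) • L₁, hcomm b, hcomm _, Ne.symm hne, Ne.symm hne2, fun e => hne ?_⟩
    rw [← smul_smul] at e
    exact (MulAction.injective b e).symm
  refine hne ?_
  obtain ⟨k, hk⟩ := hodd.of_dvd_nat (orderOf_dvd_natCard b)
  have hz : ∀ n : ℕ, (b * b) ^ n • L₁ = L₁ := by
    intro n
    induction n with
    | zero => simp
    | succ n ih => rw [pow_succ, ← smul_smul, hbb, ih]
  have hb : (b * b) ^ (k + 1) = b := by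
    rw [← pow_two, ← pow_mul, show 2 * (k + 1) = orderOf b + 1 by omega, pow_succ, pow_orderOf_eq_one,
      one_mul]
  exact hb ▸ hz (k + 1)

/-- The case of a non-abelian group of order `p ^ 3`. -/
theorem cube_dichotomy {P A Z : Subgroup G} {p : ℕ} [hp : Fact p.Prime]
    (hP : Nat.card P = p ^ 3) (hnc : ¬ IsMulCommutative P) (hZP : Z ≤ P) (hZ : Nat.card Z = p)
    (hPZ : P ≤ centralizer (Z : Set G)) (hexp : ∀ x ∈ P, x ^ p ∈ Z)
    (hA : A ≤ normalizer (P : Set G)) (hAc : ∀ a ∈ A, ∀ b ∈ A, a * b = b * a)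
    (hodd : Odd (Nat.card A)) (hcop : (Nat.card A).Coprime p)
    (hAZ : A ≤ centralizer (Z : Set G))
    (hfix : ∀ a ∈ A, a ≠ 1 → P ⊓ centralizer ({a} : Set G) ≤ Z) :
    Nat.card A ∣ p - 1 ∨ Nat.card A ∣ p + 1 := by
  set N := normalizer (Z : Set G)
  have hPN : P ≤ N := hPZ.trans (centralizer_le_normalizer _)
  have hAN : A ≤ N := hAZ.trans (centralizer_le_normalizer _)
  haveI : (Z.subgroupOf N).Normal := normal_subgroupOf_of_le_normalizer le_rfl
  set f := QuotientGroup.mk' (Z.subgroupOf N)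
  have hf : ∀ x : N, f x = 1 ↔ (x : G) ∈ Z := fun x => QuotientGroup.eq_one_iff x
  set V := (P.subgroupOf N).map f
  set A' := (A.subgroupOf N).map f
  have hVcard : Nat.card V = p ^ 2 := by
    have e : Nat.card V * p = p ^ 3 := by
      rw [show Nat.card V = Z.relIndex P by
        rw [← relIndex_ker (K := P.subgroupOf N) f, QuotientGroup.ker_mk', relIndex_subgroupOf hPN],
        ← hP, ← hZ, ← relIndex_bot_left (H := Z), mul_comm,
        relIndex_mul_relIndex _ _ _ bot_le hZP, relIndex_bot_left]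
    exact Nat.eq_of_mul_eq_mul_right hp.out.pos (e.trans (by ring))
  have hVc : ∀ a ∈ V, ∀ b ∈ V, a * b = b * a := fun a ha b hb =>
    congrArg Subtype.val (IsPGroup.commutative_of_card_eq_prime_sq hVcard ⟨a, ha⟩ ⟨b, hb⟩)
  have hmemZ : ∀ x y : N, (x : G) ∈ P → (y : G) ∈ P → (x : G) * y * (x : G)⁻¹ * (y : G)⁻¹ ∈ Z :=
    fun x y hx hy => by
      have := (hf (x * y * x⁻¹ * y⁻¹)).mp (by
        rw [map_mul, map_mul, map_mul, map_inv, map_inv,
          hVc _ ⟨x, hx, rfl⟩ _ ⟨y, hy, rfl⟩]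
        group)
      simpa using this
  have hAinj : ∀ b : N, (b : G) ∈ A → f b = 1 → b = 1 := fun b hb e => by
    refine Subtype.ext (mem_bot.mp ?_)
    rw [← Coprime.inf_eq_bot (H := A) (K := Z) (by rwa [hZ])]
    exact ⟨hb, (hf b).mp e⟩
  have hA'card : Nat.card A' = Nat.card A := by
    refine (Nat.card_eq_of_bijective
      (fun x : A => (⟨f ⟨x, hAN x.2⟩, _, x.2, rfl⟩ : A')) ⟨fun a b e => ?_, ?_⟩).symm
    · have e' : f (⟨a, hAN a.2⟩⁻¹ * ⟨b, hAN b.2⟩) = 1 := by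
        rw [map_mul, map_inv, show f ⟨a, hAN a.2⟩ = f ⟨b, hAN b.2⟩ from congrArg Subtype.val e,
          inv_mul_cancel]
      have e2 : (⟨(a : G), hAN a.2⟩ : N) = ⟨(b : G), hAN b.2⟩ :=
        inv_mul_eq_one.mp (hAinj _ (mul_mem (inv_mem a.2) b.2) e')
      exact Subtype.ext (congrArg (fun z : N => (z : G)) e2)
    · rintro ⟨_, x, hx, rfl⟩
      exact ⟨⟨x, hx⟩, rfl⟩
  rw [← hA'card]
  refine dvd_pred_or_succ hVcard hVc ?_ ?_ ?_ (hA'card ▸ hodd) ?_ ?_
  · rintro _ ⟨x, hx, rfl⟩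
    rw [← map_pow, hf]
    simpa using hexp x hx
  · rintro _ ⟨b, hb, rfl⟩
    refine Coprime.mem_normalizer_of_map_conj ?_
    have hb' := hA (show (b : G) ∈ A from hb)
    ext z
    rw [Coprime.mem_map_conj]
    constructor
    · rintro ⟨x, hx, e⟩
      refine ⟨b * x * b⁻¹, mem_subgroupOf.mpr (Coprime.conj_mem hb' (show (x : G) ∈ P from hx)), ?_⟩
      rw [map_mul, map_mul, map_inv, e]
      group
    · rintro ⟨x, hx, rfl⟩
      exact ⟨b⁻¹ * x * b, mem_subgroupOf.mpr (Coprime.conj_mem' hb' (show (x : G) ∈ P from hx)), by simp⟩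
  · rintro _ ⟨b, hb, rfl⟩ _ ⟨c, hc, rfl⟩
    rw [← map_mul, ← map_mul]
    exact congrArg f (Subtype.ext (hAc _ hb _ hc))
  · rintro _ ⟨b, hb, rfl⟩ _ ⟨x, hx, rfl⟩ e
    by_cases hb1 : b = 1
    · exact Or.inl (by rw [hb1, map_one])
    right
    have hA1 : zpowers (b : G) ≤ A := zpowers_le.mpr hb
    obtain ⟨c, hc, hcn⟩ := Coprime.exists_centralizer_mem_of_comm_mem
      (A := zpowers (b : G)) (K := P) (hA1.trans hA)
      ((hcop.coprime_dvd_left (card_dvd_of_le hA1)).pow_right 3 |>.coprime_dvd_right hP.dvd)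
      (Or.inl (Coprime.isSolvable_zpowers _)) hZP hPN (hA1.trans hAN) (show (x : G) ∈ P from hx)
      fun d hd => by
        obtain ⟨i, hi⟩ := mem_zpowers_iff.mp hd
        have h1 : f ⟨d, hAN (hA1 hd)⟩ = f b ^ i := by
          rw [← map_zpow]
          exact congrArg f (Subtype.ext (by rw [SubgroupClass.coe_zpow]; exact hi.symm))
        have h2 : Commute (f ⟨d, hAN (hA1 hd)⟩) (f x) := h1 ▸ Commute.zpow_left e i
        have h3 : f (⟨d, hAN (hA1 hd)⟩ * x * (⟨d, hAN (hA1 hd)⟩ : N)⁻¹ * x⁻¹) = 1 := by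
          rw [map_mul, map_mul, map_mul, map_inv, map_inv, h2.eq]
          group
        simpa using (hf _).mp h3
    have hcZ : c ∈ Z := hfix b hb (fun e1 => hb1 (Subtype.ext e1))
      ⟨hc.1, mem_centralizer_iff.mpr fun w hw => by
        rw [Set.mem_singleton_iff.mp hw]
        exact mem_centralizer_iff.mp hc.2 _ (mem_zpowers _)⟩
    refine (hf x).mpr ?_
    have := Z.mul_mem hcZ (Z.inv_mem hcn)
    simpa using this
  · rintro _ ⟨b, hb, rfl⟩ i hi
    obtain ⟨x, y, hxy⟩ : ∃ x y : P, x * y ≠ y * x := by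
      by_contra h
      push Not at h
      exact hnc ⟨⟨h⟩⟩
    set c := (x : G) * y * (x : G)⁻¹ * (y : G)⁻¹ with hcdef
    have hcZ : c ∈ Z := hmemZ ⟨x, hPN x.2⟩ ⟨y, hPN y.2⟩ x.2 y.2
    have hc1 : c ≠ 1 := fun e => hxy (Subtype.ext (by
      rw [hcdef, mul_inv_eq_one, mul_inv_eq_iff_eq_mul] at e
      simpa using e))
    have hoc : orderOf c = p := orderOf_eq_prime (by
      have h := orderOf_dvd_natCard (⟨c, hcZ⟩ : Z)
      rw [hZ, Subgroup.orderOf_mk] at h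
      exact orderOf_dvd_iff_pow_eq_one.mp h) hc1
    rw [← hoc, orderOf_dvd_iff_zpow_eq_one, zpow_sub, zpow_one, mul_inv_eq_one]
    have hcc : ∀ g ∈ P, Commute c g := fun g hg => mem_centralizer_iff.mp (hPZ hg) c hcZ
    -- powers in a commutator
    have hbil : ∀ (s t d : G), Commute d s → Commute d t → s * t * s⁻¹ * t⁻¹ = d → ∀ k : ℤ,
        s ^ k * t * (s ^ k)⁻¹ * t⁻¹ = d ^ k := by
      intro s t d hs ht hd k
      have e1 : t * s * t⁻¹ = d⁻¹ * s := by
        have e2 : d * (t * s * t⁻¹) = s := by rw [← hd]; group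
        conv_rhs => rw [← e2]
        group
      have e3 : t * s ^ k * t⁻¹ = (d ^ k)⁻¹ * s ^ k := by
        rw [← conj_zpow, e1, Commute.mul_zpow (hs.inv_left), inv_zpow]
      calc s ^ k * t * (s ^ k)⁻¹ * t⁻¹ = s ^ k * (t * s ^ k * t⁻¹)⁻¹ := by group
        _ = s ^ k * ((s ^ k)⁻¹ * d ^ k) := by rw [e3]; group
        _ = d ^ k := by group
    have h1 : (x : G) ^ i * y * ((x : G) ^ i)⁻¹ * (y : G)⁻¹ = c ^ i :=
      hbil x y c (hcc _ x.2) (hcc _ y.2) rfl i
    have h2 : (x : G) ^ i * (y : G) ^ i * ((x : G) ^ i)⁻¹ * ((y : G) ^ i)⁻¹ = c ^ (i * i) := by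
      have h3 := hbil (y : G) ((x : G) ^ i) (c ^ i)⁻¹ ((hcc _ y.2).zpow_left i).inv_left
        ((hcc _ (P.zpow_mem x.2 i)).zpow_left i).inv_left (by rw [← h1]; group) i
      rw [inv_zpow] at h3
      rw [zpow_mul, ← inv_inv ((c ^ i) ^ i), ← h3]
      group
    -- the operator fixes `c`
    have hbx : ∀ w : P, ∃ z ∈ Z, (b : G) * w * (b : G)⁻¹ = (w : G) ^ i * z := fun w => by
      have e := hi (f ⟨w, hPN w.2⟩) ⟨⟨w, hPN w.2⟩, w.2, rfl⟩
      rw [← map_inv, ← map_mul, ← map_mul, ← map_zpow] at e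
      have e2 : f ((⟨w, hPN w.2⟩ ^ i)⁻¹ * (b * ⟨w, hPN w.2⟩ * b⁻¹)) = 1 := by
        rw [map_mul _ (_⁻¹) _, map_inv, e, inv_mul_cancel]
      exact ⟨_, (hf _).mp e2, by simp⟩
    obtain ⟨z₁, hz₁, ex⟩ := hbx x
    obtain ⟨z₂, hz₂, ey⟩ := hbx y
    have hbc : (b : G) * c * (b : G)⁻¹ = c := by
      have e := mem_centralizer_iff.mp (hAZ (show (b : G) ∈ A from hb)) c hcZ
      rw [← e, mul_inv_cancel_right]
    have hxZ : ∀ g ∈ P, ∀ z ∈ Z, Commute z g := fun g hg z hz =>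
      mem_centralizer_iff.mp (hPZ hg) z hz
    calc c ^ (i * i)
        = (x : G) ^ i * (y : G) ^ i * ((x : G) ^ i)⁻¹ * ((y : G) ^ i)⁻¹ := h2.symm
      _ = ((x : G) ^ i * z₁) * ((y : G) ^ i * z₂) * ((x : G) ^ i * z₁)⁻¹ *
            ((y : G) ^ i * z₂)⁻¹ := by
          have a1 : Commute z₁ ((y : G) ^ i * z₂ * z₁⁻¹) := hxZ _ (P.mul_mem (P.mul_mem
            (P.zpow_mem y.2 i) (hZP hz₂)) (P.inv_mem (hZP hz₁))) _ hz₁
          have a2 : Commute z₂ ((x : G) ^ i)⁻¹ := hxZ _ (P.inv_mem (P.zpow_mem x.2 i)) _ hz₂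
          symm
          calc ((x : G) ^ i * z₁) * ((y : G) ^ i * z₂) * ((x : G) ^ i * z₁)⁻¹ *
                ((y : G) ^ i * z₂)⁻¹
              = (x : G) ^ i * (z₁ * ((y : G) ^ i * z₂ * z₁⁻¹)) * ((x : G) ^ i)⁻¹ * z₂⁻¹ *
                  ((y : G) ^ i)⁻¹ := by group
            _ = (x : G) ^ i * ((y : G) ^ i * (z₂ * ((x : G) ^ i)⁻¹)) * z₂⁻¹ *
                  ((y : G) ^ i)⁻¹ := by rw [a1.eq]; group
            _ = (x : G) ^ i * (y : G) ^ i * ((x : G) ^ i)⁻¹ * ((y : G) ^ i)⁻¹ := by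
                rw [a2.eq]; group
      _ = (b : G) * c * (b : G)⁻¹ := by rw [← ex, ← ey, hcdef]; group
      _ = c := hbc

end Cfsg.Agent.OddOrder.BG15
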