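import Cfsg.Agent.OddOrder.BG15.Facts
import Cfsg.Agent.OddOrder.BG15.Nilp
import Cfsg.Agent.OddOrder.BG10.Cores
import Cfsg.Agent.Coprime.Hall

/-!
# The standard factorisation `M = K U M_σ` and Hall subgroups of a maximal subgroup
-/

set_option autoImplicit false
set_option linter.style.haveILetI false
set_option linter.unusedVariables false

universe u

namespace Cfsg.Agent.OddOrder.BG15

open Subgroup H40

variable {G : Type u} [Group G] [Finite G]

/-! ### Hall subgroups of a solvable subgroup -/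

omit [Finite G] in
theorem mem_normalizer_of_le {M N : Subgroup G} (hn : M ≤ normalizer (N : Set G)) {m : G}
    (hm : m ∈ M) : cj m N = N := cj_eq_iff.mpr (hn hm)

theorem exists_conj_le_hallOf {π : Set ℕ} {H M X : Subgroup G} (hs : Group.IsSolvable M)
    (hH : IsPiHallOf π H M) (hXM : X ≤ M) (hX : Cores.IsPiNumber π (Nat.card X)) :
    ∃ m ∈ M, cj m X ≤ H := by
  obtain ⟨hHM, hH'⟩ := Coprime.isPiHallOf_iff.mp hH
  haveI := hs
  obtain ⟨g, hg⟩ := (Hall.hallDom_of_isSolvable π M).2 (H.subgroupOf M) (X.subgroupOf M) hH'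
    (by rwa [Nat.card_congr (subgroupOfEquivOfLe hXM).toEquiv])
  refine ⟨(g : G)⁻¹, inv_mem g.2, ?_⟩
  rintro _ ⟨x, hx, rfl⟩
  have h1 := hg (show (⟨x, hXM hx⟩ : M) ∈ X.subgroupOf M from hx)
  rw [Hall.mem_conj_smul] at h1
  simpa [MulAut.conj, mem_subgroupOf, mul_assoc] using h1

/-- A normal `π`-subgroup lies in every Hall `π`-subgroup. -/
theorem le_hallOf_of_normal {π : Set ℕ} {H M X : Subgroup G} (hs : Group.IsSolvable M)
    (hH : IsPiHallOf π H M) (hXM : X ≤ M) (hXn : M ≤ normalizer (X : Set G))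
    (hX : Cores.IsPiNumber π (Nat.card X)) : X ≤ H := by
  obtain ⟨m, hm, h⟩ := exists_conj_le_hallOf hs hH hXM hX
  rwa [mem_normalizer_of_le hXn hm] at h

omit [Finite G] in
theorem isComplIn_cj {A B M : Subgroup G} (h : IsComplIn A B M) (g : G) :
    IsComplIn (cj g A) (cj g B) (cj g M) := by
  obtain ⟨hA, hB, hd, hmul⟩ := h
  refine ⟨map_mono hA, map_mono hB, ?_, ?_⟩
  · rw [← map_inf _ _ _ (MulAut.conj g).injective, hd, Subgroup.map_bot]
  · rintro _ ⟨m, hm, rfl⟩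
    obtain ⟨a, ha, b, hb, rfl⟩ := hmul m hm
    exact ⟨_, ⟨a, ha, rfl⟩, _, ⟨b, hb, rfl⟩, map_mul _ a b⟩

/-! ### `M_σ` and its complements -/

theorem hallσ (hG : IsMinSimpleOddOrder G) {M : Subgroup G} (hM : IsCoatom M) :
    IsPiHallOf (sigma M) (sigmaCore M) M := (BG10.sigmaCore_hall hG hM).1

theorem solvable (hG : IsMinSimpleOddOrder G) {M : Subgroup G} (hM : IsCoatom M) :
    Group.IsSolvable M := hG.2.2.2 M hM.1

theorem not_dvd_relIndex_sigmaCore (hG : IsMinSimpleOddOrder G) {M : Subgroup G} (hM : IsCoatom M)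
    {p : ℕ} (hp : p.Prime) (h : p ∈ sigma M) : ¬ p ∣ (sigmaCore M).relIndex M :=
  (hallσ hG hM).2.2 p hp h

theorem mem_sigmaCore (hG : IsMinSimpleOddOrder G) {M : Subgroup G} (hM : IsCoatom M) {x : G}
    (hx : x ∈ M) (hσ : Cores.IsPiNumber (sigma M) (orderOf x)) : x ∈ sigmaCore M :=
  mem_of_normal_hall (le_normalizer_sigmaCore M) hx
    (Nat.coprime_of_dvd fun q hq h1 h2 => not_dvd_relIndex_sigmaCore hG hM hq (hσ q hq h1) h2)

theorem le_sigmaCore_of_piNumber (hG : IsMinSimpleOddOrder G) {M : Subgroup G} (hM : IsCoatom M)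
    {X : Subgroup G} (hX : X ≤ M) (hσ : Cores.IsPiNumber (sigma M) (Nat.card X)) :
    X ≤ sigmaCore M :=
  fun x hx => mem_sigmaCore hG hM (hX hx) (piNumber_orderOf hσ hx)

theorem sigma'_of_compl (hG : IsMinSimpleOddOrder G) {M E : Subgroup G} (hM : IsCoatom M)
    (hE : IsComplIn E (sigmaCore M) M) :
    IsPiHallOf {q | q.Prime ∧ q ∉ sigma M} E M := by
  obtain ⟨h1, h2⟩ := H41.IsComplIn.relIndex_eq hE
  refine ⟨hE.1, fun q hq hd => ⟨hq, fun hσ => ?_⟩, fun q hq hqπ hd => ?_⟩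
  · exact not_dvd_relIndex_sigmaCore hG hM hq hσ (h1 ▸ hd)
  · rw [h2] at hd
    exact hqπ.2 (sigmaCore_isPiNumber M q hq hd)

theorem not_sigma_of_mem_compl (hG : IsMinSimpleOddOrder G) {M E : Subgroup G} (hM : IsCoatom M)
    (hE : IsComplIn E (sigmaCore M) M) {x : G} (hx : x ∈ E) :
    ∀ p : ℕ, p.Prime → p ∣ orderOf x → p ∉ sigma M :=
  fun p hp hd => ((sigma'_of_compl hG hM hE).2.1 p hp (hd.trans (orderOf_dvd_card hx))).2

theorem exists_compl (hG : IsMinSimpleOddOrder G) {M : Subgroup G} (hM : IsCoatom M) :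
    ∃ E : Subgroup G, IsComplIn E (sigmaCore M) M := by
  have hH := hallσ hG hM
  set N := piCore (sigma M) M
  have hco : (Nat.card N).Coprime N.index := by
    refine Nat.coprime_of_dvd fun q hq h1 h2 => ?_
    refine not_dvd_relIndex_sigmaCore hG hM hq (Cores.piCore_isPiNumber _ q hq h1) ?_
    rwa [sigmaCore, relIndex_map_subtype]
  obtain ⟨K, hK⟩ := exists_right_complement'_of_coprime hco
  refine ⟨K.map M.subtype, map_subtype_le _, sigmaCore_le M, ?_, fun m hm => ?_⟩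
  · show K.map M.subtype ⊓ N.map M.subtype = ⊥
    rw [← map_inf _ _ _ M.subtype_injective, hK.symm.disjoint.eq_bot, Subgroup.map_bot]
  · obtain ⟨⟨a, b⟩, hab⟩ := hK.symm.2 ⟨m, hm⟩
    exact ⟨a, ⟨a, a.2, rfl⟩, b, ⟨b, b.2, rfl⟩, (congrArg Subtype.val hab).symm⟩

theorem exists_compl_ge (hG : IsMinSimpleOddOrder G) {M X : Subgroup G} (hM : IsCoatom M)
    (hX : X ≤ M) (hσ : ∀ p : ℕ, p.Prime → p ∣ Nat.card X → p ∉ sigma M) :
    ∃ E : Subgroup G, IsComplIn E (sigmaCore M) M ∧ X ≤ E := by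
  obtain ⟨E, hE⟩ := exists_compl hG hM
  obtain ⟨m, hm, h⟩ := exists_conj_le_hallOf (solvable hG hM) (sigma'_of_compl hG hM hE) hX
    (fun p hp hd => ⟨hp, hσ p hp hd⟩)
  refine ⟨cj m⁻¹ E, ?_, ?_⟩
  · have h1 := isComplIn_cj hE m⁻¹
    rwa [mem_normalizer_of_le (le_normalizer_sigmaCore M) (inv_mem hm),
      mem_normalizer_of_le le_normalizer (inv_mem hm)] at h1
  · calc X = cj m⁻¹ (cj m X) := by rw [← cj_mul, inv_mul_cancel, cj_one]
      _ ≤ cj m⁻¹ E := map_mono h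

theorem le_compl_of_normal (hG : IsMinSimpleOddOrder G) {M E X : Subgroup G} (hM : IsCoatom M)
    (hE : IsComplIn E (sigmaCore M) M) (hX : X ≤ M) (hXn : M ≤ normalizer (X : Set G))
    (hσ : ∀ p : ℕ, p.Prime → p ∣ Nat.card X → p ∉ sigma M) : X ≤ E :=
  le_hallOf_of_normal (solvable hG hM) (sigma'_of_compl hG hM hE) hX hXn
    (fun p hp hd => ⟨hp, hσ p hp hd⟩)

/-! ### the standard factorisation -/

section decomp

variable {M K U : Subgroup G}

theorem decomp_le (D : IsSigmaDecomposition M K U) : K ≤ M ∧ U ≤ M := ⟨D.hall.1, D.compl.1⟩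

theorem kappa_of_dvd_K (D : IsSigmaDecomposition M K U) {p : ℕ} (hp : p.Prime)
    (h : p ∣ Nat.card K) : p ∈ kappa M := D.hall.2.1 p hp h

theorem coprime_K_sigmaCore (D : IsSigmaDecomposition M K U) :
    (Nat.card K).Coprime (Nat.card (sigmaCore M)) :=
  Nat.coprime_of_dvd fun _ hq h1 h2 =>
    (kappa_of_dvd_K D hq h1).2.2.1 (sigmaCore_isPiNumber M _ hq h2)

theorem le_normalizer_sigmaCore_of_le {X : Subgroup G} (h : X ≤ M) :
    X ≤ normalizer (sigmaCore M : Set G) := h.trans (le_normalizer_sigmaCore M)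

/-- Elements of `X ⊔ N` for `X` normalizing `N`. -/
theorem exists_of_mem_sup {X N : Subgroup G} (h : X ≤ normalizer (N : Set G)) {b : G}
    (hb : b ∈ X ⊔ N) : ∃ a ∈ X, ∃ n ∈ N, b = a * n := by
  rw [sup_comm] at hb
  obtain ⟨n, hn, a, ha, rfl⟩ := (Coprime.mem_sup_iff h).mp hb
  exact ⟨a, ha, a⁻¹ * n * a, Coprime.conj_mem' (h ha) hn, by group⟩

theorem card_sup_of_normalizes {X N : Subgroup G} (h : X ≤ normalizer (N : Set G))
    (hc : (Nat.card X).Coprime (Nat.card N)) :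
    Nat.card ↥(X ⊔ N) = Nat.card X * Nat.card N := by
  rw [sup_comm, mul_comm]
  exact Coprime.card_sup h (Coprime.inf_eq_bot hc.symm)

theorem card_K_sup (D : IsSigmaDecomposition M K U) :
    Nat.card ↥(K ⊔ sigmaCore M) = Nat.card K * Nat.card (sigmaCore M) :=
  card_sup_of_normalizes (le_normalizer_sigmaCore_of_le D.hall.1) (coprime_K_sigmaCore D)

theorem card_decomp (D : IsSigmaDecomposition M K U) :
    Nat.card M = Nat.card U * (Nat.card K * Nat.card (sigmaCore M)) := by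
  rw [← card_K_sup D]; exact H41.IsComplIn.card_eq D.compl

theorem relIndex_eq_of_card {H M : Subgroup G} (h : H ≤ M) {n : ℕ}
    (hc : Nat.card M = Nat.card H * n) : H.relIndex M = n := by
  have e := relIndex_mul_relIndex (⊥ : Subgroup G) H M bot_le h
  rw [relIndex_bot_left, relIndex_bot_left, hc] at e
  exact Nat.eq_of_mul_eq_mul_left Nat.card_pos e

theorem not_dvd_U_of_sigma (hG : IsMinSimpleOddOrder G) (hM : IsCoatom M)
    (D : IsSigmaDecomposition M K U) {p : ℕ} (hp : p.Prime) (h : p ∣ Nat.card U) :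
    p ∉ sigma M ∧ p ∉ kappa M := by
  refine ⟨fun hσ => not_dvd_relIndex_sigmaCore hG hM hp hσ ?_, fun hκ => D.hall.2.2 p hp hκ ?_⟩
  · rw [relIndex_eq_of_card (sigmaCore_le M) (n := Nat.card U * Nat.card K)
      (by rw [card_decomp D]; ring)]
    exact h.mul_right _
  · rw [relIndex_eq_of_card D.hall.1 (n := Nat.card U * Nat.card (sigmaCore M))
      (by rw [card_decomp D]; ring)]
    exact h.mul_right _

theorem sigma'_K (D : IsSigmaDecomposition M K U) {p : ℕ} (hp : p.Prime) (h : p ∣ Nat.card K) :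
    p ∉ sigma M := (kappa_of_dvd_K D hp h).2.2.1

/-- `U` is a Hall subgroup for the primes outside `σ(M) ∪ κ(M)`. -/
theorem U_hall (hG : IsMinSimpleOddOrder G) (hM : IsCoatom M) (D : IsSigmaDecomposition M K U) :
    IsPiHallOf {q | q.Prime ∧ q ∉ kappa M ∧ q ∉ sigma M} U M := by
  refine ⟨(decomp_le D).2, fun p hp hd => ⟨hp, (not_dvd_U_of_sigma hG hM D hp hd).symm⟩,
    fun p hp hπ hd => ?_⟩
  rw [relIndex_eq_of_card (decomp_le D).2 (card_decomp D)] at hd
  rcases hp.dvd_mul.mp hd with h | h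
  · exact hπ.2.1 (kappa_of_dvd_K D hp h)
  · exact hπ.2.2 (sigmaCore_isPiNumber M p hp h)

theorem coprime_U_K (hG : IsMinSimpleOddOrder G) (hM : IsCoatom M)
    (D : IsSigmaDecomposition M K U) : (Nat.card U).Coprime (Nat.card K) :=
  Nat.coprime_of_dvd fun _ hq h1 h2 => (not_dvd_U_of_sigma hG hM D hq h1).2 (kappa_of_dvd_K D hq h2)

theorem coprime_UK_sigmaCore (hG : IsMinSimpleOddOrder G) (hM : IsCoatom M)
    (D : IsSigmaDecomposition M K U) :
    (Nat.card U * Nat.card K).Coprime (Nat.card (sigmaCore M)) :=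
  Nat.Coprime.mul_left
    (Nat.coprime_of_dvd fun _ hq h1 h2 =>
      (not_dvd_U_of_sigma hG hM D hq h1).1 (sigmaCore_isPiNumber M _ hq h2))
    (coprime_K_sigmaCore D)

theorem card_U_sup_K (hG : IsMinSimpleOddOrder G) (hM : IsCoatom M)
    (D : IsSigmaDecomposition M K U) :
    Nat.card ↥(U ⊔ K) = Nat.card U * Nat.card K := by
  rw [sup_comm, mul_comm]
  exact card_sup_of_normalizes D.normal (coprime_U_K hG hM D).symm

/-- `U K` is a complement to `M_σ`. -/
theorem compl_UK (hG : IsMinSimpleOddOrder G) (hM : IsCoatom M) (D : IsSigmaDecomposition M K U) :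
    IsComplIn (U ⊔ K) (sigmaCore M) M := by
  refine ⟨sup_le (decomp_le D).2 (decomp_le D).1, sigmaCore_le M, Coprime.inf_eq_bot ?_,
    fun m hm => ?_⟩
  · rw [card_U_sup_K hG hM D]; exact coprime_UK_sigmaCore hG hM D
  · obtain ⟨u, hu, b, hb, rfl⟩ := D.compl.2.2.2 m hm
    obtain ⟨k, hk, s, hs, rfl⟩ :=
      exists_of_mem_sup (le_normalizer_sigmaCore_of_le D.hall.1) hb
    exact ⟨u * k, mul_mem_sup hu hk, s, hs, (mul_assoc u k s).symm⟩

theorem kappa_eq_empty (D : IsSigmaDecomposition M K U) (hK : K = ⊥) : kappa M = ∅ := by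
  refine Set.eq_empty_iff_forall_notMem.mpr fun p hp => D.hall.2.2 p hp.1 hp ?_
  rw [hK, relIndex_bot_left]
  exact hp.2.1

theorem K_eq_bot (D : IsSigmaDecomposition M K U) (h : kappa M = ∅) : K = ⊥ := by
  by_contra hne
  obtain ⟨p, hp, hd⟩ := Nat.exists_prime_and_dvd (show Nat.card K ≠ 1 from
    fun e => hne (card_eq_one.mp e))
  exact Set.eq_empty_iff_forall_notMem.mp h p (kappa_of_dvd_K D hp hd)

theorem kappa_nonempty (D : IsSigmaDecomposition M K U) : (kappa M).Nonempty ↔ K ≠ ⊥ := by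
  rw [Set.nonempty_iff_ne_empty]
  exact not_congr ⟨K_eq_bot D, kappa_eq_empty D⟩

theorem U_eq_bot (hG : IsMinSimpleOddOrder G) (hM : IsCoatom M) (D : IsSigmaDecomposition M K U)
    (h : ∀ q : ℕ, q.Prime → q ∣ Nat.card M → q ∉ sigma M → q ∈ kappa M) : U = ⊥ := by
  by_contra hne
  obtain ⟨p, hp, hd⟩ := Nat.exists_prime_and_dvd (show Nat.card U ≠ 1 from
    fun e => hne (card_eq_one.mp e))
  obtain ⟨h1, h2⟩ := not_dvd_U_of_sigma hG hM D hp hd
  exact h2 (h p hp (hd.trans (card_dvd_of_le (decomp_le D).2)) h1)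

theorem not_P_one (hG : IsMinSimpleOddOrder G) (hM : IsCoatom M) (D : IsSigmaDecomposition M K U)
    (h : U ≠ ⊥) : ¬ ∀ q : ℕ, q.Prime → q ∣ Nat.card M → q ∉ sigma M → q ∈ kappa M :=
  fun h' => h (U_eq_bot hG hM D h')

theorem isComplIn_U (D : IsSigmaDecomposition M K U) (hK : K = ⊥) :
    IsComplIn U (sigmaCore M) M := by
  have h := D.compl
  rwa [hK, bot_sup_eq] at h

theorem isComplIn_K (D : IsSigmaDecomposition M K U) (hU : U = ⊥) :
    IsComplIn K (sigmaCore M) M := by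
  refine ⟨D.hall.1, sigmaCore_le M, Coprime.inf_eq_bot (coprime_K_sigmaCore D), fun m hm => ?_⟩
  obtain ⟨u, hu, b, hb, rfl⟩ := D.compl.2.2.2 m hm
  rw [hU, mem_bot] at hu
  obtain ⟨k, hk, s, hs, rfl⟩ :=
    exists_of_mem_sup (le_normalizer_sigmaCore_of_le D.hall.1) hb
  exact ⟨k, hk, s, hs, by rw [hu, one_mul]⟩

end decomp

/-- A standard factorisation exists. -/
theorem exists_decomp (h : Facts G) {M : Subgroup G} (hM : IsCoatom M) :
    ∃ K U : Subgroup G, IsSigmaDecomposition M K U := by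
  obtain ⟨⟨K, hK⟩, hc⟩ := h.kappaHall M hM
  obtain ⟨⟨U, hU⟩, -⟩ := h.decompExists M hM K (hc K hK) hK
  exact ⟨K, U, hU⟩

end Cfsg.Agent.OddOrder.BG15
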