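import Cfsg.Agent.OddOrder.BG15.Tau

/-!
# Elements of maximal order in a Sylow subgroup acting fixed-point-freely on `M_σ`
-/

set_option autoImplicit false
set_option linter.style.haveILetI false
set_option linter.unusedVariables false

universe u

namespace Cfsg.Agent.OddOrder.BG15

open Subgroup H40

variable {G : Type u} [Group G] [Finite G]

/-- If the element of order `p` of a cyclic `p`-group is fixed-point-free then so are all others. -/
theorem fpf_zpowers {M : Subgroup G} {p : ℕ} (hp : p.Prime) {t y₀ : G} {e : ℕ}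
    (ht : orderOf t = p ^ e) (hy₀ : y₀ ∈ zpowers t) (hy₀o : orderOf y₀ = p)
    (hf : ∀ s ∈ sigmaCore M, y₀ * s = s * y₀ → s = 1) :
    ∀ y ∈ zpowers t, y ≠ 1 → ∀ s ∈ sigmaCore M, y * s = s * y → s = 1 := by
  intro y hy hy1 s hs hc
  have hyd : orderOf y ∣ p ^ e := ht ▸ (orderOf_dvd_card hy).trans (Nat.card_zpowers t).dvd
  obtain ⟨q, hq, hqd⟩ := prime_dvd_of_orderOf hy1
  have hqp : q = p := (Nat.prime_dvd_prime_iff_eq hq hp).mp (hq.dvd_of_dvd_pow (hqd.trans hyd))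
  subst hqp
  obtain ⟨z, hz, hzo⟩ := exists_pow_prime hq hqd
  have hzt : z ∈ zpowers t := (zpowers_le.mpr hy) hz
  have he : zpowers z = zpowers y₀ := H41.eq_of_card_eq_of_le_cyclic (C := zpowers t) inferInstance
    (zpowers_le.mpr hzt) (zpowers_le.mpr hy₀) (by rw [Nat.card_zpowers, Nat.card_zpowers, hzo, hy₀o])
  exact hf s hs (commute_of_mem_zpowers (he ▸ mem_zpowers y₀) (commute_of_mem_zpowers hz hc))

theorem exists_orderOf_exponent_of_comm {T : Subgroup G} (hT : IsMulCommutative T) :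
    ∃ t ∈ T, orderOf t = Monoid.exponent T := by
  letI : CommGroup T := { (inferInstance : Group T) with mul_comm := hT.is_comm.comm }
  obtain ⟨t, ht⟩ := Monoid.exists_orderOf_eq_exponent
    (Monoid.ExponentExists.of_finite (G := T))
  exact ⟨t, t.2, by rw [orderOf_coe]; exact ht⟩

theorem pow_exponent_eq_one {T : Subgroup G} {t : G} (ht : t ∈ T) :
    t ^ Monoid.exponent T = 1 := by
  have h := congrArg Subtype.val (Monoid.pow_exponent_eq_one (⟨t, ht⟩ : T))
  simpa using h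

/-- A Sylow subgroup for a prime outside `σ ∪ κ` contains an element of maximal order generating a
fixed-point-free group of operators of `M_σ`. -/
theorem exists_fpf_max (h : Facts G) {M : Subgroup G} (hM : IsCoatom M) {p : ℕ} [hpF : Fact p.Prime]
    (hs : p ∉ sigma M) (hk : p ∉ kappa M) {T : Subgroup G} (hT : IsSylowOf p T M)
    (hd : p ∣ Nat.card M) :
    ∃ t ∈ T, orderOf t = Monoid.exponent T ∧
      ∀ y ∈ zpowers t, y ≠ 1 → ∀ s ∈ sigmaCore M, y * s = s * y → s = 1 := by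
  have hG := h.minSimple
  have hp : p.Prime := hpF.out
  by_cases hr : PRankLE p 1 M
  · haveI := isCyclic_of_pRankLE_one (OddOrder.ne_two_of_dvd hG hd) hT.2.1 hT.1 hr
    obtain ⟨g, hg⟩ := IsCyclic.exists_generator (α := T)
    have hgo : orderOf (g : G) = Monoid.exponent T := by
      rw [orderOf_coe, IsCyclic.exponent_eq_card]
      exact orderOf_eq_card_of_forall_mem_zpowers hg
    refine ⟨g, g.2, hgo, ?_⟩
    obtain ⟨e, he⟩ := IsPGroup.iff_orderOf.mp hT.2.1 g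
    rw [← orderOf_coe] at he
    have he1 : p ∣ orderOf (g : G) := by
      rw [hgo, IsCyclic.exponent_eq_card, hT.2.2]
      exact dvd_pow_self p (hp.factorization_pos_of_dvd Nat.card_pos.ne' hd).ne'
    obtain ⟨y₀, hy₀, hy₀o⟩ := exists_pow_prime hp he1
    exact fpf_zpowers hp he hy₀ hy₀o fun s hsσ hc =>
      kappa_fpf hG hM hp hs hk hr (hT.1 ((zpowers_le.mpr g.2) hy₀)) hy₀o hsσ hc
  -- the case of a prime in `τ₂(M)`
  have hr2 : PRankLE p 2 M :=
    BG10.pRankLE_two_of_not_alpha hp fun ha => hs (BG10.alpha_subset_sigma hG hM ha)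
  have hτ : p ∈ tau2 M := ⟨hp, hs, hr2, hr⟩
  obtain ⟨E, hEM, hEc, hEe, hE⟩ := H41.exists_elementary_of_not_pRankLE hr
  obtain ⟨m, hm, hmT⟩ := BG11.exists_conj_le hT (IsPGroup.of_card hE) hEM
  set A := cj m E with hA
  have hA' : A ≤ M ∧ IsElementaryAbelian p A ∧ Nat.card A = p ^ 2 :=
    ⟨hmT.trans hT.1, BG11.elemAb_cj ⟨hEc, hEe⟩ m, by rw [hA, card_cj, hE]⟩
  obtain ⟨-, hP, -, -, -, A₁, hA₁A, hA₁c, hA₁f⟩ := h.tau2Abelian M hM p hτ A hA'
  obtain ⟨P, hPT⟩ := BG11.exists_sylow_eq hT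
  obtain ⟨hPc, hP2⟩ := hP P
  rw [hPT] at hP2
  obtain ⟨hΩ, hN⟩ := hP2 hmT
  have hTc : IsMulCommutative T := by
    haveI := hPc
    rw [← hPT]
    exact Subgroup.map_isMulCommutative _ _
  obtain ⟨t₀, ht₀, ht₀o⟩ := exists_orderOf_exponent_of_comm hTc
  obtain ⟨e, he⟩ := IsPGroup.iff_orderOf.mp hT.2.1 ⟨t₀, ht₀⟩
  rw [Subgroup.orderOf_mk] at he
  have hcomm : ∀ a ∈ T, ∀ b ∈ T, Commute a b := fun a ha b hb =>
    PGroups.comm_of_isMulCommutative hTc ha hb
  -- the exponent is at least `p`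
  obtain ⟨a, ha⟩ : ∃ a : A₁, orderOf a = p := exists_prime_orderOf_dvd_card' p (hA₁c ▸ dvd_rfl)
  rw [← orderOf_coe] at ha
  have haT : (a : G) ∈ T := hmT (hA₁A a.2)
  obtain ⟨k, rfl⟩ : ∃ k, e = k + 1 := by
    refine ⟨e - 1, (Nat.succ_pred_eq_of_pos (Nat.pos_of_ne_zero fun e0 => ?_)).symm⟩
    have h1 : p ∣ Monoid.exponent T :=
      ha ▸ (orderOf_dvd_of_pow_eq_one (pow_exponent_eq_one haT))
    rw [← ht₀o, he, e0, pow_zero] at h1
    exact hp.not_dvd_one h1
  set n := p ^ k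
  have hexp : Monoid.exponent T = p ^ (k + 1) := by rw [← ht₀o, he]
  have hpow : ∀ t ∈ T, (t ^ n) ^ p = 1 := fun t ht => by
    rw [← pow_mul, ← pow_succ, ← hexp, pow_exponent_eq_one ht]
  by_contra hno
  push_neg at hno
  have hbad : ∀ t ∈ T, t ^ n ≠ 1 → ∃ s ∈ sigmaCore M, s ≠ 1 ∧ (t ^ n) * s = s * t ^ n := by
    intro t ht htn
    have hto : orderOf t = p ^ (k + 1) :=
      orderOf_eq_prime_pow htn (by rw [← hexp, pow_exponent_eq_one ht])
    have hno' := hno t ht (hto.trans hexp.symm)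
    obtain ⟨y, hy, hy1, s, hsσ, hc, hs1⟩ := hno'
    by_contra hgood
    push_neg at hgood
    refine hs1 (fpf_zpowers hp hto (pow_mem (mem_zpowers t) n) ?_ ?_ y hy hy1 s hsσ hc)
    · exact orderOf_eq_prime (hpow t ht) htn
    · exact fun s hs hc => by_contra fun hs1 => hgood s hs hs1 hc
  -- the subgroup of `n`-th powers is a proper non-trivial subgroup of `A`
  let L : Subgroup G :=
    { carrier := {y | ∃ t ∈ T, t ^ n = y}
      one_mem' := ⟨1, one_mem _, one_pow _⟩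
      mul_mem' := by
        rintro _ _ ⟨u, hu, rfl⟩ ⟨v, hv, rfl⟩
        exact ⟨u * v, mul_mem hu hv, (hcomm u hu v hv).mul_pow n⟩
      inv_mem' := by
        rintro _ ⟨u, hu, rfl⟩
        exact ⟨u⁻¹, inv_mem hu, inv_pow u n⟩ }
  have hLT : L ≤ T := by rintro _ ⟨u, hu, rfl⟩; exact pow_mem hu n
  have hLA : L ≤ A := by
    rintro _ ⟨u, hu, rfl⟩
    exact (hΩ _ (pow_mem hu n)).mp (hpow u hu)
  have hLne : L ≠ A := by
    intro e
    obtain ⟨t, ht, htn⟩ : (a : G) ∈ L := e ▸ hA₁A a.2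
    obtain ⟨s, hsσ, hs1, hc⟩ := hbad t ht (by rw [htn]; exact ne_one_of_prime_orderOf hp ha)
    rw [htn] at hc
    refine hs1 (mem_bot.mp (hA₁f ▸ mem_inf.mpr ⟨hsσ, ?_⟩))
    have hA₁z : A₁ = zpowers (a : G) := (eq_of_le_of_card_ge (zpowers_le.mpr a.2)
      (by rw [hA₁c, Nat.card_zpowers, ha])).symm
    rw [hA₁z, centralizer_zpowers, mem_centralizer_singleton]
    exact hc.symm
  have htn0 : t₀ ^ n ≠ 1 := fun e => by
    have h1 : orderOf t₀ ∣ n := orderOf_dvd_of_pow_eq_one e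
    rw [he] at h1
    exact absurd (Nat.pow_dvd_pow_iff_le_right hp.one_lt |>.mp h1) (by omega)
  set l := t₀ ^ n with hl
  have hlo : orderOf l = p := orderOf_eq_prime (hpow t₀ ht₀) htn0
  have hLcard : Nat.card L = p := by
    obtain ⟨i, hi, hLi⟩ := (Nat.dvd_prime_pow hp).mp (hA'.2.2 ▸ card_dvd_of_le hLA)
    have h1 : p ∣ Nat.card L := hlo ▸ orderOf_dvd_card (show l ∈ L from ⟨t₀, ht₀, rfl⟩)
    rcases i with _ | _ | _ | i
    · rw [hLi, pow_zero] at h1; exact absurd h1 hp.not_dvd_one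
    · rw [hLi, pow_one]
    · exact absurd (eq_of_le_of_card_ge hLA (by rw [hA'.2.2, hLi])) hLne
    · omega
  have hlz : L = zpowers l := (eq_of_le_of_card_ge (zpowers_le.mpr (show l ∈ L from ⟨t₀, ht₀, rfl⟩))
    (by rw [hLcard, Nat.card_zpowers, hlo])).symm
  obtain ⟨s, hsσ, hs1, hc⟩ := hbad t₀ ht₀ htn0
  obtain ⟨hlM, hlu⟩ := tau2_unique h hM (hT.1 (pow_mem ht₀ n)) htn0
    (fun q hq hqd => by
      rw [hlo] at hqd
      exact (Nat.prime_dvd_prime_iff_eq hq hp).mp hqd ▸ hτ) hsσ hs1 hc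
  -- `N(T) ≤ N(L) ≤ M`
  refine hN fun g hg => ?_
  have hgL : cj g L = L := by
    refine eq_of_le_of_card_ge ?_ (le_of_eq (card_cj g L).symm)
    rintro _ ⟨_, ⟨u, hu, rfl⟩, rfl⟩
    exact ⟨MulAut.conj g u, (mem_normalizer_iff.mp hg u).mp hu, (map_pow _ u n).symm⟩
  refine BG11.mem_of_cj_eq hG hM (hlu (cj g M) (BG11.coatom_cj hM g) ?_)
  calc centralizer ({l} : Set G) = centralizer (cj g L : Set G) := by
        rw [hgL, hlz, centralizer_zpowers]
    _ = cj g (centralizer (L : Set G)) := (BG11.cj_centralizer g L).symm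
    _ ≤ cj g M := map_mono (by rw [hlz, centralizer_zpowers]; exact hlM)

end Cfsg.Agent.OddOrder.BG15
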