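import Cfsg.Agent.OddOrder.BG15.Shapes

/-!
# The package of facts from sections 10-14 on which section 15 rests
-/

set_option autoImplicit false

universe u

namespace Cfsg.Agent.OddOrder.BG15

/-- Everything from the earlier sections that is used in section 15. -/
structure Facts (G : Type u) [Group G] [Finite G] : Prop where
  minSimple : IsMinSimpleOddOrder G
  kappaHall : KappaHall G
  decompExists : DecompExists G
  kActsFpf : KActsFpf G
  kCentralizer : KCentralizer G
  starExists : StarExists G
  starInf : StarInf G
  starClasses : StarClasses G
  supportTrans : SupportTrans G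
  supportMax : SupportMax G
  sylowRankTwo : SylowRankTwo G
  betaCore : BetaCore G
  tau2Abelian : Tau2Abelian G
  tau2Compl : Tau2Compl G
  tau2Nonabelian : Tau2Nonabelian G
  complAbelian : ComplAbelian G
  complExponent : ComplExponent G
  nonabelianUnique : NonabelianUnique G
  betaUnique : BetaUnique G
  sigmaCoreAction : SigmaCoreAction G
  notPOne : NotPOne G
  primeAction : PrimeAction G
  starSylow : StarSylow G
  sigmaHatCases : SigmaHatCases G
  supportDisjoint : SupportDisjoint G
  pTwoPartner : PTwoPartner G
  supportKappa : SupportKappa G
  primeActionFitting : PrimeActionFitting.{u}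
  frobeniusSections : FrobeniusSections.{u}

end Cfsg.Agent.OddOrder.BG15
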