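import Cfsg.Agent.OddOrder.BG15.TypePCore
import Cfsg.Agent.Coprime.Centralize
import Cfsg.Agent.Signalizer.TwoPrimesCores

/-!
# The Frattini quotient of a `q`-group under a Frobenius group of operators
-/

set_option autoImplicit false
set_option linter.style.haveILetI false
set_option linter.unusedVariables false

universe u

namespace Cfsg.Agent.OddOrder.BG15

open Subgroup H40
open scoped commutatorElement

variable {G : Type u} [Group G] [Finite G]

/-- `Φ(T)` inside the ambient group. -/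
abbrev phi (T : Subgroup G) : Subgroup G := (frattini T).map T.subtype

theorem normalizer_le_normalizer_phi (T : Subgroup G) :
    normalizer (T : Set G) ≤ normalizer (phi T : Set G) := by
  intro g hg
  refine Coprime.mem_normalizer_of_map_conj ?_
  let θ := T.normalizerMonoidHom ⟨g, hg⟩
  have h : (frattini T).map θ.toMonoidHom = frattini T :=
    Subgroup.characteristic_iff_map_eq.mp inferInstance θ
  rw [phi, Subgroup.map_map]
  conv_rhs => rw [← h, Subgroup.map_map]
  congr 1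

/-- A `q`-group `T = [T, D]` on which a Frobenius group `D K` acts with cyclic fixed points of `K`
of order dividing `q`. -/
theorem section_structure (hS : FrobeniusSections.{u}) {T D K : Subgroup G} {q : ℕ}
    [hq : Fact q.Prime] (hT : IsPGroup q T) (hT1 : T ≠ ⊥) (hTD : ⁅T, D⁆ = T)
    (hD : D ≤ normalizer (T : Set G)) (hK : K ≤ normalizer (T : Set G))
    (hKD : K ≤ normalizer (D : Set G)) (hD1 : D ≠ ⊥) (hK1 : K ≠ ⊥) (hDK : D ⊓ K = ⊥)
    (hfrob : ∀ k ∈ K, k ≠ 1 → D ⊓ centralizer ({k} : Set G) = ⊥)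
    (hsol : Group.IsSolvable ↥(D ⊔ K)) (hodd : Odd (Nat.card ↥(D ⊔ K)))
    (hcop : (Nat.card ↥(D ⊔ K)).Coprime q)
    (hpr : ∀ k ∈ K, k ≠ 1 → T ⊓ centralizer ({k} : Set G) = T ⊓ centralizer (K : Set G))
    (hcard : Nat.card ↥(T ⊓ centralizer (K : Set G)) ∣ q) :
    (Nat.card K).Prime ∧ Nat.card T = Nat.card (phi T) * q ^ Nat.card K ∧
      ¬ T ⊓ centralizer (K : Set G) ≤ phi T ∧ ⁅T, ⁅D, D⁆⁆ ≤ phi T := by
  set Φ := phi T with hΦdef
  have hΦT : Φ ≤ T := map_subtype_le _
  set N := normalizer (T : Set G)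
  have hTN : T ≤ N := le_normalizer
  have hNΦ : N ≤ normalizer (Φ : Set G) := normalizer_le_normalizer_phi T
  haveI : (Φ.subgroupOf N).Normal := normal_subgroupOf_of_le_normalizer hNΦ
  set f := QuotientGroup.mk' (Φ.subgroupOf N)
  have hf : ∀ x : N, f x = 1 ↔ (x : G) ∈ Φ := fun x => QuotientGroup.eq_one_iff x
  obtain ⟨j, hj⟩ := IsPGroup.iff_card.mp (hT.to_le hΦT)
  have hLN : D ⊔ K ≤ N := sup_le hD hK
  have hLΦ : ∀ x ∈ D ⊔ K, x ∈ Φ → x = 1 := fun x hx hx' => by
    have h1 : x ∈ (D ⊔ K) ⊓ Φ := ⟨hx, hx'⟩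
    rwa [Coprime.inf_eq_bot (hj ▸ hcop.pow_right j), mem_bot] at h1
  haveI : Group.IsNilpotent T := hT.isNilpotent
  -- subgroups of the quotient
  set Tq := (T.subgroupOf N).map f
  set Dq := (D.subgroupOf N).map f
  set Kq := (K.subgroupOf N).map f
  have hmem : ∀ (X : Subgroup G) (y : ↥N ⧸ Φ.subgroupOf N),
      y ∈ (X.subgroupOf N).map f ↔ ∃ x : N, (x : G) ∈ X ∧ f x = y := fun X y =>
    ⟨fun ⟨x, hx, e⟩ => ⟨x, hx, e⟩, fun ⟨x, hx, e⟩ => ⟨x, hx, e⟩⟩
  have hinj : ∀ x y : N, (x : G) ∈ D ⊔ K → (y : G) ∈ D ⊔ K → f x = f y → x = y := by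
    intro x y hx hy e
    have h1 : f (x⁻¹ * y) = 1 := by rw [map_mul, map_inv, e, inv_mul_cancel]
    have h2 := hLΦ _ (mul_mem (inv_mem hx) hy) ((hf _).mp h1)
    exact Subtype.ext (inv_mul_eq_one.mp h2)
  have hcardX : ∀ X : Subgroup G, X ≤ D ⊔ K → Nat.card ↥((X.subgroupOf N).map f) = Nat.card X := by
    intro X hX
    refine (Nat.card_eq_of_bijective
      (fun x : X => (⟨f ⟨x, hLN (hX x.2)⟩, ⟨_, x.2, rfl⟩⟩ : ↥((X.subgroupOf N).map f))) ⟨?_, ?_⟩).symm
    · intro a b e
      exact Subtype.ext (congrArg (fun z : N => (z : G))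
        (hinj ⟨a, hLN (hX a.2)⟩ ⟨b, hLN (hX b.2)⟩ (hX a.2) (hX b.2) (congrArg Subtype.val e)))
    · rintro ⟨_, x, hx, rfl⟩
      exact ⟨⟨x, hx⟩, rfl⟩
  have hnorm : ∀ X Y : Subgroup G, X ≤ N → Y ≤ N → Y ≤ normalizer (X : Set G) →
      (Y.subgroupOf N).map f ≤ normalizer (((X.subgroupOf N).map f : Subgroup _) : Set _) := by
    intro X Y hX hY hYX
    have key : ∀ y : N, (y : G) ∈ Y → ∀ z ∈ (X.subgroupOf N).map f,
        f y * z * (f y)⁻¹ ∈ (X.subgroupOf N).map f := by
      rintro y hy _ ⟨x, hx, rfl⟩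
      exact ⟨y * x * y⁻¹, mem_subgroupOf.mpr (Coprime.conj_mem (hYX (show (y : G) ∈ Y from hy)) (show (x : G) ∈ X from hx)), by simp⟩
    rintro _ ⟨y, hy, rfl⟩
    refine mem_normalizer_iff.mpr fun z => ⟨key y hy z, fun hz => ?_⟩
    have := key y⁻¹ (inv_mem (show (y : G) ∈ Y from hy)) _ hz
    simpa [mul_assoc] using this
  -- `T / Φ(T)` is abelian and equal to its commutator with `D`
  have hTab : ⁅Tq, Tq⁆ = ⊥ := by
    rw [Signalizer.TwoPrimes.map_subgroupOf_commutator f hTN hTN, Subgroup.map_eq_bot_iff]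
    intro x hx
    rw [MonoidHom.mem_ker, hf]
    have h1 := Subgroup.map_mono (f := T.subtype)
      (Signalizer.TwoPrimes.commutator_le_frattini_of_isNilpotent (V := T))
    rw [map_subtype_commutator] at h1
    exact h1 hx
  have hTDq : ⁅Tq, Dq⁆ = Tq := by
    rw [Signalizer.TwoPrimes.map_subgroupOf_commutator f hTN hD, hTD]
  obtain ⟨i, hi⟩ := IsPGroup.iff_card.mp hT
  have hTqd : Nat.card Tq ∣ q ^ i :=
    (card_map_dvd (T.subgroupOf N) f).trans
      ((Nat.card_congr (subgroupOfEquivOfLe hTN).toEquiv).trans hi).dvd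
  have hcopT : (Nat.card ↥((D.subgroupOf N).map f)).Coprime (Nat.card Tq) := by
    rw [hcardX D le_sup_left]
    exact ((hcop.coprime_dvd_left (card_dvd_of_le le_sup_left)).pow_right i).coprime_dvd_right hTqd
  have hCK : Tq ⊓ centralizer (Dq : Set _) = ⊥ := by
    refine le_bot_iff.mp (le_trans (inf_centralizer_le_derived (hnorm T D hTN hD hD) hcopT ?_)
      hTab.le)
    rw [hTDq]
    exact le_sup_right
  have hsup : ((D ⊔ K).subgroupOf N).map f = Dq ⊔ Kq := by
    rw [← Subgroup.map_sup, ← subgroupOf_sup hD hK]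
  have hV1 : Tq ≠ ⊥ := by
    intro e
    haveI : Nontrivial T := T.nontrivial_iff_ne_bot.mpr hT1
    refine hT1 ?_
    have htop : frattini T = ⊤ := eq_top_iff.mpr fun t _ => by
      have h1 : f ⟨t, hTN t.2⟩ = 1 := mem_bot.mp (e ▸ (hmem T _).mpr ⟨_, t.2, rfl⟩)
      obtain ⟨t', ht', e'⟩ := (hf _).mp h1
      exact (Subtype.ext e' : t' = t) ▸ ht'
    have := frattini_nongenerating (G := T) (K := ⊥) (by rw [bot_sup_eq, htop])
    exact absurd this bot_ne_top
  -- prime action on the quotient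
  have hlift : ∀ X : Subgroup G, X ≤ K → Tq ⊓ centralizer (((X.subgroupOf N).map f : Subgroup _) : Set _) =
      ((T ⊓ centralizer (X : Set G)).subgroupOf N).map f := by
    intro X hX
    refine le_antisymm ?_ ?_
    · rintro _ ⟨⟨t, ht, rfl⟩, htc⟩
      obtain ⟨c, hc, hcn⟩ := Coprime.exists_centralizer_mem_of_comm_mem (hX.trans hK)
        (by rw [hi]; exact (hcop.coprime_dvd_left
          (card_dvd_of_le (hX.trans le_sup_right))).pow_right i)
        (Or.inr inferInstance) hΦT (hTN.trans hNΦ) ((hX.trans hK).trans hNΦ)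
        (show (t : G) ∈ T from ht) fun a ha => by
          have h1 := mem_centralizer_iff.mp htc _
            ((hmem X _).mpr ⟨⟨a, hK (hX ha)⟩, ha, rfl⟩)
          rw [← map_mul, ← map_mul] at h1
          have h2 : f (⟨a, hK (hX ha)⟩ * t * (⟨a, hK (hX ha)⟩ : N)⁻¹ * t⁻¹) = 1 := by
            rw [map_mul, map_mul, map_inv, map_inv, h1, map_mul, mul_assoc (f t),
              mul_inv_cancel, mul_one, mul_inv_cancel]
          exact (hf _).mp h2
      refine ⟨⟨c, hTN hc.1⟩, hc, ?_⟩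
      have h3 : f (t⁻¹ * ⟨c, hTN hc.1⟩) = 1 := (hf _).mpr hcn
      rw [map_mul, map_inv, inv_mul_eq_one] at h3
      exact h3.symm
    · rintro _ ⟨t, ⟨ht, htc⟩, rfl⟩
      refine ⟨⟨t, ht, rfl⟩, mem_centralizer_iff.mpr ?_⟩
      rintro _ ⟨a, ha, rfl⟩
      rw [← map_mul, ← map_mul]
      exact congrArg f (Subtype.ext (mem_centralizer_iff.mp htc a ha))
  obtain ⟨hp, hc, h3⟩ := hS Dq Kq Tq
    (fun e => hD1 (card_eq_one.mp (by rw [← hcardX D le_sup_left, card_eq_one.mpr e])))
    (fun e => hK1 (card_eq_one.mp (by rw [← hcardX K le_sup_right, card_eq_one.mpr e])))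
    (by
      refine le_bot_iff.mp ?_
      rintro _ ⟨⟨x, hx, rfl⟩, y, hy, hxy⟩
      have e := hinj y x (mem_sup_right hy) (mem_sup_left hx) hxy
      have h1 : (x : G) ∈ D ⊓ K := ⟨hx, e ▸ hy⟩
      rw [hDK, mem_bot] at h1
      rw [mem_bot, show x = 1 from Subtype.ext h1, map_one])
    (hnorm D K hD hK hKD)
    (by
      rintro _ ⟨k, hk, rfl⟩ hk1
      refine le_bot_iff.mp ?_
      rintro _ ⟨⟨d, hd, rfl⟩, hdc⟩
      have h1 := mem_centralizer_singleton.mp hdc
      rw [← map_mul, ← map_mul] at h1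
      have e := hinj _ _ (mul_mem (mem_sup_left (show (d : G) ∈ D from hd))
        (mem_sup_right (show (k : G) ∈ K from hk)))
        (mul_mem (mem_sup_right (show (k : G) ∈ K from hk)) (mem_sup_left (show (d : G) ∈ D from hd))) h1
      have h2 : (d : G) ∈ D ⊓ centralizer ({(k : G)} : Set G) :=
        ⟨hd, mem_centralizer_singleton.mpr (congrArg Subtype.val e)⟩
      rw [hfrob k hk (fun e1 => hk1 (by rw [show k = 1 from Subtype.ext e1, map_one])), mem_bot] at h2
      rw [mem_bot, show d = 1 from Subtype.ext h2, map_one])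
    (by
      rw [← hsup]
      haveI := hsol
      haveI : Group.IsSolvable ((D ⊔ K).subgroupOf N) :=
        Group.isSolvable_of_isSolvable_injective (f := (subgroupOfEquivOfLe hLN).toMonoidHom)
          (subgroupOfEquivOfLe hLN).injective
      exact Group.isSolvable_of_surjective (f.subgroupMap_surjective _))
    (by rw [← hsup, hcardX _ le_rfl]; exact hodd)
    hV1
    (IsPGroup.of_card ((Nat.dvd_prime_pow hq.out).mp hTqd).choose_spec.2).isNilpotent
    (hnorm T D hTN hD hD) (hnorm T K hTN hK hK)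
    (by
      rw [← hsup, hcardX _ le_rfl]
      exact (hcop.pow_right i).coprime_dvd_right hTqd)
    hCK
    (by
      rintro _ ⟨k, hk, rfl⟩ hk1
      have hk1' : (k : G) ≠ 1 := fun e => hk1 (by rw [show k = 1 from Subtype.ext e, map_one])
      have hz : ((zpowers (k : G)).subgroupOf N).map f = zpowers (f k) := by
        rw [show (zpowers (k : G)).subgroupOf N = zpowers k from ?_, MonoidHom.map_zpowers]
        refine Subgroup.map_injective N.subtype_injective ?_
        rw [map_subgroupOf_eq_of_le (zpowers_le.mpr k.2), MonoidHom.map_zpowers]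
        rfl
      rw [← centralizer_zpowers, ← hz, hlift (zpowers (k : G)) (zpowers_le.mpr hk), hlift K le_rfl,
        centralizer_zpowers, hpr k hk hk1'])
  have hKc : Nat.card Kq = Nat.card K := hcardX K le_sup_right
  have hfixc : Nat.card ↥(Tq ⊓ centralizer (Kq : Set _)) = q ∧ ¬ T ⊓ centralizer (K : Set G) ≤ Φ := by
    have h4 : Nat.card ↥(Tq ⊓ centralizer (Kq : Set _)) ∣ q := by
      rw [hlift K le_rfl]
      exact (card_map_dvd _ f).trans
        ((Nat.card_congr (subgroupOfEquivOfLe (inf_le_left.trans hTN)).toEquiv).symm ▸ hcard)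
    have hne : Nat.card ↥(Tq ⊓ centralizer (Kq : Set _)) ≠ 1 := fun e => hV1 (card_eq_one.mp (by
      rw [hc, e, one_pow]))
    refine ⟨(hq.out.eq_one_or_self_of_dvd _ h4).resolve_left hne, fun hle => hne ?_⟩
    rw [hlift K le_rfl, card_eq_one, Subgroup.map_eq_bot_iff]
    intro x hx
    rw [MonoidHom.mem_ker, hf]
    exact hle hx
  refine ⟨hKc ▸ hp, ?_, hfixc.2, ?_⟩
  · have h5 : Nat.card Tq = Φ.relIndex T := by
      rw [← Subgroup.relIndex_ker (K := T.subgroupOf N) f, QuotientGroup.ker_mk',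
        relIndex_subgroupOf hTN]
    have h6 := relIndex_mul_relIndex (⊥ : Subgroup G) Φ T bot_le hΦT
    rw [relIndex_bot_left, relIndex_bot_left, ← h5, hc, hfixc.1, hKc] at h6
    exact h6.symm
  · have h7 : ⁅Dq, Dq⁆ ≤ centralizer (Tq : Set _) :=
      h3 (isCyclic_of_prime_card hfixc.1)
    refine commutator_le.mpr fun t ht d hd => ?_
    have hdN : d ∈ N := hD (commutator_le_self D hd)
    have h8 : f ⟨d, hdN⟩ ∈ ⁅Dq, Dq⁆ := by
      rw [Signalizer.TwoPrimes.map_subgroupOf_commutator f hD hD]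
      exact ⟨⟨d, hdN⟩, hd, rfl⟩
    have h9 := mem_centralizer_iff.mp (h7 h8) _ ((hmem T _).mpr ⟨⟨t, hTN ht⟩, ht, rfl⟩)
    have h10 : f ⁅(⟨t, hTN ht⟩ : N), ⟨d, hdN⟩⁆ = 1 := by
      rw [map_commutatorElement]
      exact commutatorElement_eq_one_iff_mul_comm.mpr h9
    exact (hf _).mp h10

end Cfsg.Agent.OddOrder.BG15
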