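import Cfsg.Agent.OddOrder.BG15.FcoreBasic
import Cfsg.Agent.OddOrder.BG15.Sections
import Cfsg.Agent.H91.Replace
import Cfsg.Agent.PGroups.Basic

/-!
# BG 15.2 for a non-nilpotent `M_σ` (S1437)
-/

set_option autoImplicit false
set_option linter.style.haveILetI false
set_option linter.unusedVariables false

universe u

namespace Cfsg.Agent.OddOrder.BG15

open Subgroup H40
open scoped commutatorElement

variable {G : Type u} [Group G] [Finite G] {M K U : Subgroup G}

/-- The data of S1437. -/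
structure NonNilp (M K U Q : Subgroup G) : Prop where
  U_bot : U = ⊥
  K_ne : K ≠ ⊥
  derived : ⁅M, M⁆ = sigmaCore M
  K_prime : (Nat.card K).Prime
  q_prime : (Nat.card (kStar M K)).Prime
  q_beta : Nat.card (kStar M K) ∈ beta M
  Q_le : Q ≤ fittingHallOf M
  Q_norm : M ≤ normalizer (Q : Set G)
  Q_p : IsPGroup (Nat.card (kStar M K)) Q
  Q_hall : ¬ Nat.card (kStar M K) ∣ Q.relIndex (sigmaCore M)
  kStar_le : kStar M K ≤ Q
  compl : ∀ D : Subgroup G, IsComplIn Q D (sigmaCore M) →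
    Group.IsNilpotent D ∧ M ≤ normalizer ((Q ⊓ centralizer (D : Set G) : Subgroup G) : Set G) ∧
      Q ⊓ centralizer (D : Set G) < Q ∧
      Nat.card Q = Nat.card ↥(Q ⊓ centralizer (D : Set G)) * Nat.card (kStar M K) ^ Nat.card K ∧
      (∀ a ∈ Q, ∀ b ∈ Q, a ^ Nat.card (kStar M K) ∈ Q ⊓ centralizer (D : Set G) ∧
        a * b * a⁻¹ * b⁻¹ ∈ Q ⊓ centralizer (D : Set G)) ∧
      ∀ N : Subgroup G, Q ⊓ centralizer (D : Set G) < N → N < Q →
        ¬ M ≤ normalizer (N : Set G)
  compl_fix : ∀ D : Subgroup G, IsComplIn Q D (sigmaCore M) →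
    ⁅D, D⁆ ≤ centralizer (Q : Set G) ∧ ¬ kStar M K ≤ centralizer (D : Set G)
  nilp : ∀ X ≤ sigmaCore M, ¬ Nat.card (kStar M K) ∣ Nat.card X → Group.IsNilpotent X
  exists_invariant : ∃ D : Subgroup G, IsComplIn Q D (sigmaCore M) ∧ K ≤ normalizer (D : Set G)

theorem card_pow_factorization {q : ℕ} (hq : q.Prime) {Q S : Subgroup G} (hQS : Q ≤ S)
    (hQp : IsPGroup q Q) (hQh : ¬ q ∣ Q.relIndex S) :
    Nat.card Q = q ^ (Nat.card S).factorization q := by
  haveI := Fact.mk hq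
  obtain ⟨n, hn⟩ := IsPGroup.iff_card.mp hQp
  have e1 := relIndex_mul_relIndex (⊥ : Subgroup G) Q S bot_le hQS
  rw [relIndex_bot_left, relIndex_bot_left, hn] at e1
  have h0 : Q.relIndex S ≠ 0 := fun h => hQh (h ▸ dvd_zero q)
  rw [hn, ← e1, Nat.factorization_mul (pow_ne_zero n hq.ne_zero) h0, Finsupp.add_apply,
    hq.factorization_pow, Finsupp.single_eq_same, Nat.factorization_eq_zero_of_not_dvd hQh, add_zero]

/-- `q ∈ β(M)`. -/
theorem mem_beta_of_ne (h : Facts G) (hM : IsCoatom M) {Q : Subgroup G} {q : ℕ} (hq : q.Prime)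
    (hnn : ¬ Group.IsNilpotent (sigmaCore M)) (hQS : Q ≤ sigmaCore M)
    (hQn : M ≤ normalizer (Q : Set G)) (hQp : IsPGroup q Q) (hQh : ¬ q ∣ Q.relIndex (sigmaCore M))
    (hd : q ∣ Nat.card M) (hX : ∀ X ≤ sigmaCore M, ¬ q ∣ Nat.card X → Group.IsNilpotent X) :
    q ∈ beta M := by
  haveI := Fact.mk hq
  set S := sigmaCore M
  by_contra hb
  obtain ⟨-, ⟨P, N, hNn, hc⟩, -⟩ := (h.betaCore M hM).2.2.2.2 q hq hd hb
  set N' := N.map S.subtype
  have hNS : N' ≤ S := map_subtype_le _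
  haveI := hNn
  have hNc : Nat.card N' = Nat.card N := card_map_of_injective S.subtype_injective
  have hmul := hc.card_mul
  rw [P.card_eq_multiplicity] at hmul
  have hQc := card_pow_factorization hq hQS hQp hQh
  have hNq : ¬ q ∣ Nat.card N' := by
    intro hd'
    rw [hNc] at hd'
    refine Nat.pow_succ_factorization_not_dvd (Nat.card_pos (α := S)).ne' hq ?_
    have h1 := mul_dvd_mul_right hd' (q ^ (Nat.card S).factorization q)
    rw [pow_succ']
    rwa [hmul] at h1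
  have hNn' : S ≤ normalizer (N' : Set G) := Components.le_normalizer_map_subtype _
  have hQnS : S ≤ normalizer (Q : Set G) := (sigmaCore_le M).trans hQn
  have hcop : (Nat.card N').Coprime (Nat.card Q) := by
    rw [hQc]
    exact (hq.coprime_iff_not_dvd.mpr hNq).symm.pow_right _
  have hsup : N' ⊔ Q = S := by
    refine Subgroup.eq_of_le_of_card_ge (sup_le hNS hQS) ?_
    rw [card_sup_of_normalizes (hNS.trans hQnS) hcop, hQc, hNc, hmul]
  refine hnn (isNilpotent_of_le ?_ (isNilpotent_fittingOf S))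
  calc S = N' ⊔ Q := hsup.symm
    _ ≤ fittingOf S := sup_le (le_fittingOf hNS hNn' (hX N' hNS hNq))
        (le_fittingOf hQS hQnS hQp.isNilpotent)

theorem solvable_of_isPGroup {q : ℕ} [Fact q.Prime] {Q : Subgroup G} (hQ : IsPGroup q Q) :
    Group.IsSolvable Q := by
  haveI := hQ.isNilpotent
  infer_instance

/-- S1437 and what its proof gives. -/
theorem nonNilp_structure (h : Facts G) (hM : IsCoatom M) (D : IsSigmaDecomposition M K U)
    (hne : fittingHallOf M ≠ sigmaCore M) : ∃ Q : Subgroup G, NonNilp M K U Q := by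
  have hG := h.minSimple
  obtain ⟨Q, hQS, hQn, hQp, hQh, hKsQ, hQF, hX⟩ := exists_normal_sylow h hM D hne
  have hq := kStar_prime_of_ne h hM D hne
  have hU := U_bot_of_ne h hM D hne
  have hK1 := K_ne_bot_of_ne h hM D hne
  have hnn := not_nilpotent_of_ne hG hM hne
  set q := Nat.card (kStar M K) with hqdef
  haveI := Fact.mk hq
  set S := sigmaCore M with hSdef
  have hSM : S ≤ M := sigmaCore_le M
  have hKM : K ≤ M := (decomp_le D).1
  have hqS : q ∣ Nat.card S := hqdef ▸ card_dvd_of_le (inf_le_left : kStar M K ≤ S)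
  have hSsol : Group.IsSolvable S := Coprime.isSolvable_of_le hSM (solvable hG hM)
  haveI := hQp.isNilpotent
  have hQsol : Group.IsSolvable Q := solvable_of_isPGroup hQp
  have hQc := card_pow_factorization hq hQS hQp hQh
  -- complements of `Q` in `M_σ` are its Hall `q'`-subgroups
  have hcompl : ∀ D' : Subgroup G, IsComplIn Q D' S →
      IsPiHallOf {r | r ≠ q} D' S ∧ ¬ q ∣ Nat.card D' := by
    intro D' hD'
    obtain ⟨e1, e2⟩ := H41.IsComplIn.relIndex_eq hD'
    refine ⟨⟨hD'.2.1, fun r hr hrd e => hQh ?_, fun r hr hrπ hrd => hrπ ?_⟩, e2 ▸ hQh⟩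
    · rw [e2]
      exact e ▸ hrd
    · rw [e1, hQc] at hrd
      exact (Nat.prime_dvd_prime_iff_eq hr hq).mp (hr.dvd_of_dvd_pow hrd)
  -- an invariant one
  obtain ⟨D₁, hD₁, hKD⟩ := Coprime.exists_invariant_hall (A := K) (K := S)
    (hKM.trans (le_normalizer_sigmaCore M)) (coprime_K_sigmaCore D) hSsol {r | r ≠ q}
  obtain ⟨hD₁S, hD₁π, hD₁i⟩ := hD₁
  have hqD : ¬ q ∣ Nat.card D₁ := fun hd => hD₁π q hq hd rfl
  have hQd : (Nat.card D₁).Coprime (Nat.card Q) := by
    rw [hQc]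
    exact (hq.coprime_iff_not_dvd.mpr hqD).symm.pow_right _
  have hD₁Q : D₁ ≤ normalizer (Q : Set G) := (hD₁S.trans hSM).trans hQn
  have hsup : D₁ ⊔ Q = S := by
    refine Subgroup.eq_of_le_of_card_ge (sup_le hD₁S hQS) ?_
    rw [card_sup_of_normalizes hD₁Q hQd]
    have e1 := relIndex_mul_relIndex (⊥ : Subgroup G) D₁ S bot_le hD₁S
    rw [relIndex_bot_left, relIndex_bot_left] at e1
    refine Nat.le_of_dvd (Nat.mul_pos Nat.card_pos Nat.card_pos) ?_
    rw [← e1]
    refine mul_dvd_mul_left _ ?_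
    have h0 : D₁.relIndex S ≠ 0 := fun e => by simp [e, (Nat.card_pos (α := S)).ne] at e1
    rw [hQc, ← Nat.factorization_le_iff_dvd h0 (pow_ne_zero _ hq.ne_zero)]
    intro r
    by_cases hr : r = q
    · subst hr
      rw [hq.factorization_pow, Finsupp.single_eq_same, ← e1,
        Nat.factorization_mul Nat.card_pos.ne' h0, Finsupp.add_apply]
      exact Nat.le_add_left _ _
    · by_cases hrp : r.Prime
      · rw [Nat.factorization_eq_zero_of_not_dvd (hD₁i r hrp hr)]
        exact Nat.zero_le _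
      · rw [Nat.factorization_eq_zero_of_not_prime _ hrp]
        exact Nat.zero_le _
  have hD₁c : IsComplIn Q D₁ S := by
    refine ⟨hQS, hD₁S, by rw [inf_comm]; exact Coprime.inf_eq_bot hQd, fun m hm => ?_⟩
    obtain ⟨n, hn, a, ha, rfl⟩ := (Coprime.mem_sup_iff hD₁Q).mp (show m ∈ Q ⊔ D₁ by rw [sup_comm, hsup]; exact hm)
    exact ⟨n, hn, a, ha, rfl⟩
  have hKQ : K ≤ normalizer (Q : Set G) := hKM.trans hQn
  set T := ⁅Q, D₁⁆ with hTdef
  set C := Q ⊓ centralizer (D₁ : Set G) with hCdef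
  have hTQ : T ≤ Q := Coprime.commutator_le_left_of_normalizer hD₁Q
  have hTC : T ⊔ C = Q := Coprime.commutator_sup_centralizer hD₁Q hQd (Or.inr hQsol)
  have hTD : ⁅T, D₁⁆ = T := Coprime.commutator_commutator_eq hD₁Q hQd (Or.inr hQsol)
  have hQT : Q ≤ normalizer (T : Set G) := normalizer_commutator_ge_left Q D₁
  have hD₁T : D₁ ≤ normalizer (T : Set G) := normalizer_commutator_ge_right Q D₁
  have hnormc : ∀ N : Subgroup G, K ≤ normalizer (N : Set G) →
      K ≤ normalizer (⁅N, D₁⁆ : Subgroup G) := by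
    intro N hN k hk
    refine Coprime.mem_normalizer_of_map_conj ?_
    rw [map_commutator, Coprime.map_conj_eq (hN hk), Coprime.map_conj_eq (hKD hk)]
  have hD₁1 : D₁ ≠ ⊥ := by
    intro e
    rw [e, bot_sup_eq] at hsup
    exact hnn (hsup ▸ hQp.isNilpotent)
  have hT1 : T ≠ ⊥ := by
    intro e
    refine hnn (isNilpotent_of_le ?_ (isNilpotent_fittingOf S))
    calc S = D₁ ⊔ Q := hsup.symm
      _ ≤ fittingOf S := by
        refine sup_le (le_fittingOf hD₁S ?_ (hX D₁ hD₁S hqD))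
          (le_fittingOf hQS (hSM.trans hQn) hQp.isNilpotent)
        rw [← hsup]
        refine sup_le le_normalizer ((commutator_eq_bot_iff_le_centralizer.mp e).trans ?_)
        exact le_normalizer_iff.mpr fun g hg x hx => by
          rwa [show g * x * g⁻¹ = x by rw [← mem_centralizer_iff.mp hg x hx, mul_inv_cancel_right]]
  have hKQc : (Nat.card K).Coprime (Nat.card Q) :=
    (coprime_K_sigmaCore D).coprime_dvd_right (card_dvd_of_le hQS)
  have hqK : ¬ q ∣ Nat.card K := fun hd => hq.ne_one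
    (Nat.eq_one_of_dvd_coprimes (coprime_K_sigmaCore D) hd hqS)
  have hcopDK : (Nat.card D₁).Coprime (Nat.card K) :=
    ((coprime_K_sigmaCore D).coprime_dvd_right (card_dvd_of_le hD₁S)).symm
  have hDKle : D₁ ⊔ K ≤ M := sup_le (hD₁S.trans hSM) hKM
  have hcop : (Nat.card ↥(D₁ ⊔ K)).Coprime q := by
    rw [sup_comm, card_sup_of_normalizes hKD hcopDK.symm]
    exact ((hq.coprime_iff_not_dvd.mpr hqK).mul_right (hq.coprime_iff_not_dvd.mpr hqD)).symm
  have hKs := (h.primeAction M hM K D.hall hK1).1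
  have hfrob : ∀ k ∈ K, k ≠ 1 → D₁ ⊓ centralizer ({k} : Set G) = ⊥ := by
    intro k hk hk1
    refine le_bot_iff.mp fun x hx => ?_
    have h1 : x ∈ kStar M K := (hKs k hk hk1).le ⟨hD₁S hx.1, hx.2⟩
    exact hD₁c.2.2.1.le ⟨hKsQ h1, hx.1⟩
  -- the structure of `[N, D]`
  have hsec : ∀ N : Subgroup G, N ≤ Q → D₁ ≤ normalizer (N : Set G) → K ≤ normalizer (N : Set G) →
      ⁅N, D₁⁆ ≠ ⊥ →
      (Nat.card K).Prime ∧ Nat.card ↥⁅N, D₁⁆ = Nat.card (phi ⁅N, D₁⁆) * q ^ Nat.card K ∧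
        kStar M K ≤ ⁅N, D₁⁆ ∧ ¬ kStar M K ≤ phi ⁅N, D₁⁆ ∧
        ⁅⁅N, D₁⁆, ⁅D₁, D₁⁆⁆ ≤ phi ⁅N, D₁⁆ := by
    intro N hN hDN hKN h1
    have hN1N : ⁅N, D₁⁆ ≤ N := Coprime.commutator_le_left_of_normalizer hDN
    have hN1p : IsPGroup q ↥⁅N, D₁⁆ := hQp.to_le (hN1N.trans hN)
    have hpr : ∀ k ∈ K, k ≠ 1 → ⁅N, D₁⁆ ⊓ centralizer ({k} : Set G) =
        ⁅N, D₁⁆ ⊓ centralizer (K : Set G) := by
      intro k hk hk1
      refine le_antisymm (fun x hx => ⟨hx.1, ((hKs k hk hk1).le ⟨hQS (hN (hN1N hx.1)), hx.2⟩).2⟩)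
        (inf_le_inf_left _ (centralizer_le (Set.singleton_subset_iff.mpr hk)))
    have hfix : ⁅N, D₁⁆ ⊓ centralizer (K : Set G) ≤ kStar M K :=
      fun x hx => ⟨hQS (hN (hN1N hx.1)), hx.2⟩
    obtain ⟨r1, r2, r3, r4⟩ := section_structure h.frobeniusSections hN1p h1
      (Coprime.commutator_commutator_eq hDN (hQd.coprime_dvd_right (card_dvd_of_le hN))
        (Or.inr (Coprime.isSolvable_of_le hN hQsol)))
      (normalizer_commutator_ge_right N D₁) (hnormc N hKN) hKD hD₁1 hK1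
      (Coprime.inf_eq_bot hcopDK) hfrob (Coprime.isSolvable_of_le hDKle (solvable hG hM))
      (hG.1.of_dvd_nat (card_subgroup_dvd_card _)) hcop hpr
      (hqdef ▸ card_dvd_of_le hfix)
    have heq : ⁅N, D₁⁆ ⊓ centralizer (K : Set G) = kStar M K := by
      rcases hq.eq_one_or_self_of_dvd _ (hqdef ▸ card_dvd_of_le hfix) with e | e
      · exact absurd (by rw [card_eq_one.mp e]; exact bot_le) r3
      · exact Subgroup.eq_of_le_of_card_ge hfix e.ge
    exact ⟨r1, r2, heq ▸ inf_le_left, heq ▸ r3, r4⟩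
  obtain ⟨hKp, hTc, hKsT, hKsΦ, hTD'⟩ :=
    hsec Q le_rfl hD₁Q hKQ hT1
  rw [← hTdef] at hTc hKsT hKsΦ hTD'
  set Φ := phi T with hΦdef
  have hΦT : Φ ≤ T := map_subtype_le _
  have hTp : IsPGroup q T := hQp.to_le hTQ
  have hKT : K ≤ normalizer (T : Set G) := hnormc Q hKQ
  have hΦn : ∀ X : Subgroup G, X ≤ normalizer (T : Set G) → X ≤ normalizer (Φ : Set G) :=
    fun X hX => hX.trans (normalizer_le_normalizer_phi T)
  have hstar : ∀ N : Subgroup G, N ≤ Q → D₁ ≤ normalizer (N : Set G) →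
      K ≤ normalizer (N : Set G) → ¬ kStar M K ≤ N → N ≤ centralizer (D₁ : Set G) := by
    intro N hN hDN hKN hle
    by_contra h1
    exact hle ((hsec N hN hDN hKN fun e => h1 (commutator_eq_bot_iff_le_centralizer.mp e)).2.2.1.trans
      (Coprime.commutator_le_left_of_normalizer hDN))
  have hΦC : Φ ≤ C := le_inf (hΦT.trans hTQ)
    (hstar Φ (hΦT.trans hTQ) (hΦn _ hD₁T) (hΦn _ hKT) hKsΦ)
  have hTderΦ : ⁅T, T⁆ ≤ Φ := by
    haveI := hTp.isNilpotent
    have h1 := Subgroup.map_mono (f := T.subtype)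
      (Signalizer.TwoPrimes.commutator_le_frattini_of_isNilpotent (V := T))
    rwa [map_subtype_commutator] at h1
  have hTD₁c : (Nat.card D₁).Coprime (Nat.card T) := hQd.coprime_dvd_right (card_dvd_of_le hTQ)
  have hTCle : T ⊓ centralizer (D₁ : Set G) ≤ Φ :=
    (inf_centralizer_le_derived hD₁T hTD₁c (by rw [hTD]; exact le_sup_right)).trans hTderΦ
  have hTinfC : T ⊓ C = Φ := le_antisymm (fun x hx => hTCle ⟨hx.1, hx.2.2⟩) (le_inf hΦT hΦC)
  have hCT : C ≤ normalizer (T : Set G) := inf_le_left.trans hQT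
  have hQcard : Nat.card Q = Nat.card C * q ^ Nat.card K := by
    have e := H91.card_sup_mul_card_inf' (A := T) (X := C) hCT
    rw [hTC, hTinfC, hTc] at e
    exact Nat.eq_of_mul_eq_mul_right (Nat.card_pos (α := Φ)) (e.trans (by ring))
  have hKC : K ≤ normalizer (C : Set G) := by
    intro k hk
    refine mem_normalizer_iff.mpr fun x => ?_
    have key : ∀ g ∈ K, ∀ y ∈ C, g * y * g⁻¹ ∈ C := by
      rintro g hg y ⟨hy, hyc⟩
      refine ⟨Coprime.conj_mem (hKQ hg) hy, mem_centralizer_iff.mpr fun d hd => ?_⟩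
      have e := mem_centralizer_iff.mp hyc _ (Coprime.conj_mem' (hKD hg) hd)
      calc d * (g * y * g⁻¹) = g * (g⁻¹ * d * g * y) * g⁻¹ := by group
        _ = g * (y * (g⁻¹ * d * g)) * g⁻¹ := by rw [e]
        _ = g * y * g⁻¹ * d := by group
    exact ⟨key k hk x, fun hx => by simpa [mul_assoc] using key k⁻¹ (inv_mem hk) _ hx⟩
  have hD₁C : D₁ ≤ normalizer (C : Set G) :=
    le_normalizer_iff.mpr fun g hg x hx => by
      rwa [show g * x * g⁻¹ = x by
        rw [mem_centralizer_iff.mp hx.2 g hg, mul_inv_cancel_right]]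
  -- invariant subgroups between `Φ` and `T`
  have hirr : ∀ N : Subgroup G, Φ ≤ N → N ≤ T → D₁ ≤ normalizer (N : Set G) →
      K ≤ normalizer (N : Set G) → N = Φ ∨ N = T := by
    intro N hΦN hNT hDN hKN
    have hNC : N ⊓ centralizer (D₁ : Set G) = Φ := le_antisymm
      (fun x hx => hTCle ⟨hNT hx.1, hx.2⟩) (le_inf hΦN (hΦC.trans inf_le_right))
    by_cases hle : kStar M K ≤ N
    · refine Or.inr (Subgroup.eq_of_le_of_card_ge hNT ?_)
      set N₁ := ⁅N, D₁⁆
      have hN1 : N₁ ≠ ⊥ := fun e => hKsΦ (hle.trans ((le_inf le_rfl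
        (commutator_eq_bot_iff_le_centralizer.mp e)).trans hNC.le))
      obtain ⟨-, hc1, -, hnΦ, -⟩ := hsec N (hNT.trans hTQ) hDN hKN hN1
      have hN1N : N₁ ≤ N := Coprime.commutator_le_left_of_normalizer hDN
      have hcopN : (Nat.card D₁).Coprime (Nat.card N) :=
        hTD₁c.coprime_dvd_right (card_dvd_of_le hNT)
      have hNsol : Or (Group.IsSolvable D₁) (Group.IsSolvable N) :=
        Or.inr (Coprime.isSolvable_of_le (hNT.trans hTQ) hQsol)
      have hgen := Coprime.commutator_sup_centralizer hDN hcopN hNsol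
      rw [hNC] at hgen
      have hΦN1 : N₁ ⊓ Φ ≤ phi N₁ := by
        haveI : Group.IsNilpotent N₁ := (hTp.to_le (hN1N.trans hNT)).isNilpotent
        have h1 := inf_centralizer_le_derived (normalizer_commutator_ge_right N D₁)
          (hcopN.coprime_dvd_right (card_dvd_of_le hN1N))
          (by rw [Coprime.commutator_commutator_eq hDN hcopN hNsol]; exact le_sup_right)
        refine le_trans (le_trans ?_ h1) ?_
        · exact inf_le_inf_left _ (hΦC.trans inf_le_right)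
        · have h2 := Subgroup.map_mono (f := N₁.subtype)
            (Signalizer.TwoPrimes.commutator_le_frattini_of_isNilpotent (V := N₁))
          rwa [map_subtype_commutator] at h2
      have e := H91.card_sup_mul_card_inf' (A := N₁) (X := Φ)
        ((hΦN.trans (normalizer_commutator_ge_left N D₁)))
      rw [hgen, hc1] at e
      have h3 := Nat.le_of_dvd Nat.card_pos (card_dvd_of_le hΦN1)
      have h4 : Nat.card N * Nat.card (phi N₁) ≥ Nat.card N * Nat.card ↥(N₁ ⊓ Φ) :=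
        Nat.mul_le_mul_left _ h3
      rw [hTc]
      refine Nat.le_of_mul_le_mul_right ?_ (Nat.card_pos (α := phi N₁))
      calc Nat.card Φ * q ^ Nat.card K * Nat.card (phi N₁)
          = Nat.card N * Nat.card ↥(N₁ ⊓ Φ) := by rw [e]; ring
        _ ≤ Nat.card N * Nat.card (phi N₁) := h4
    · left
      exact le_antisymm ((le_inf le_rfl (hstar N (hNT.trans hTQ) hDN hKN hle)).trans hNC.le) hΦN
  -- `[T, C] ≤ Φ`
  have hTCcomm : ⁅T, C⁆ ≤ Φ := by
    have hle : ⁅T, C⁆ ≤ T := Coprime.commutator_le_left_of_normalizer hCT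
    set N := ⁅T, C⁆ ⊔ Φ with hNdef
    have hnC : ∀ X : Subgroup G, X ≤ normalizer (T : Set G) → X ≤ normalizer (C : Set G) →
        X ≤ normalizer (N : Set G) := by
      intro X h1 h2 x hx
      refine Coprime.mem_normalizer_of_map_conj ?_
      rw [hNdef, Subgroup.map_sup, map_commutator, Coprime.map_conj_eq (h1 hx),
        Coprime.map_conj_eq (h2 hx), Coprime.map_conj_eq (hΦn X h1 hx)]
    rcases hirr N le_sup_right (sup_le hle hΦT) (hnC _ hD₁T hD₁C) (hnC _ hKT hKC) with e | e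
    · exact le_sup_left.trans e.le
    · exfalso
      have h1 : frattini T ⊔ ⁅T, C⁆.subgroupOf T = ⊤ := by
        refine map_injective T.subtype_injective ?_
        rw [Subgroup.map_sup, map_subgroupOf_eq_of_le hle, ← MonoidHom.range_eq_map,
          range_subtype, sup_comm]
        exact e
      have h2 := frattini_nongenerating (G := T) (K := ⁅T, C⁆.subgroupOf T) (by rw [sup_comm]; exact h1)
      rw [subgroupOf_eq_top] at h2
      exact (Coprime.commutator_lt_of_isPGroup hTp (hQp.to_le inf_le_left) hCT hT1).not_ge h2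
  have hQC : Q ≤ normalizer (C : Set G) := by
    rw [← hTC]
    refine sup_le (le_normalizer_iff.mpr fun t ht c hc => ?_) le_normalizer
    have h1 : ⁅t, c⁆ ∈ C := hΦC (hTCcomm (commutator_mem_commutator ht hc))
    have := mul_mem h1 hc
    simpa [commutatorElement_def, mul_assoc] using this
  have hMC : M ≤ normalizer (C : Set G) := by
    intro m hm
    obtain ⟨k, hk, s, hs, rfl⟩ := (isComplIn_K D hU).2.2.2 m hm
    obtain ⟨a, ha, b, hb, rfl⟩ := hD₁c.2.2.2 s hs
    exact mul_mem (hKC hk) (mul_mem (hQC ha) (hD₁C hb))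
  have hQ'C : ⁅Q, Q⁆ ≤ C := by
    refine commutator_le_of_comm inf_le_left hQC hTQ inf_le_left
      (fun m hm => ?_) (fun w hw v hv => hΦC (hTderΦ ?_)) (fun w hw a ha => hΦC (hTCcomm ?_))
      (fun a ha b hb => mul_mem (mul_mem (mul_mem ha hb) (inv_mem ha)) (inv_mem hb))
    · rw [← hTC] at hm
      obtain ⟨n, hn, a, ha, e⟩ := (Coprime.mem_sup_iff hCT).mp hm
      exact ⟨n, hn, a, ha, e.symm⟩
    · simpa [commutatorElement_def] using commutator_mem_commutator hw hv
    · simpa [commutatorElement_def] using commutator_mem_commutator hw ha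
  have hpow : ∀ a ∈ Q, a ^ q ∈ C := by
    intro a ha
    haveI : (C.subgroupOf Q).Normal := normal_subgroupOf_of_le_normalizer hQC
    rw [← hTC] at ha
    obtain ⟨t, ht, c, hc, rfl⟩ := (Coprime.mem_sup_iff hCT).mp ha
    set f := QuotientGroup.mk' (C.subgroupOf Q)
    have hcQ : c ∈ Q := hc.1
    have h1 : f ⟨c, hcQ⟩ = 1 := (QuotientGroup.eq_one_iff _).mpr hc
    have h2 : t ^ q ∈ Φ := ⟨(⟨t, ht⟩ : T) ^ q, PGroups.pow_mem_frattini hTp _, by simp⟩
    have h3 : f ((⟨t, hTQ ht⟩ * ⟨c, hcQ⟩ : Q) ^ q) = 1 := by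
      rw [map_pow, map_mul, h1, mul_one, ← map_pow]
      refine (QuotientGroup.eq_one_iff _).mpr (mem_subgroupOf.mpr ?_)
      simpa using hΦC h2
    simpa using mem_subgroupOf.mp ((QuotientGroup.eq_one_iff _).mp h3)
  have hnKs : ¬ kStar M K ≤ centralizer (D₁ : Set G) := fun hle =>
    hKsΦ ((le_inf hKsT hle).trans hTCle)
  have hlt : C < Q := lt_of_le_of_ne inf_le_left fun e =>
    hnKs (hKsQ.trans (e ▸ inf_le_right))
  have hmin : ∀ N : Subgroup G, C < N → N < Q → ¬ M ≤ normalizer (N : Set G) := by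
    intro N hCN hNQ hMN
    have hNT : ∀ X ≤ M, X ≤ normalizer (T : Set G) → X ≤ normalizer ((N ⊓ T : Subgroup G) : Set G) :=
      fun X hXM hXT x hx => by
        refine Coprime.mem_normalizer_of_map_conj ?_
        rw [map_inf _ _ _ (MulAut.conj x).injective, Coprime.map_conj_eq (hMN (hXM hx)),
          Coprime.map_conj_eq (hXT hx)]
    rcases hirr (N ⊓ T) (le_inf (hΦC.trans hCN.le) hΦT) inf_le_right
        (hNT _ (hD₁S.trans hSM) hD₁T) (hNT _ hKM hKT) with e | e
    · refine hCN.not_ge fun x hx => ?_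
      have hxQ := hNQ.le hx
      rw [← hTC] at hxQ
      obtain ⟨t, ht, c, hc, rfl⟩ := (Coprime.mem_sup_iff hCT).mp hxQ
      have h1 : t ∈ N := by simpa using mul_mem hx (inv_mem (hCN.le hc))
      exact mul_mem (hΦC (e.le ⟨h1, ht⟩)) hc
    · refine hNQ.not_ge ?_
      rw [← hTC]
      exact sup_le (inf_eq_right.mp e) hCN.le
  have hD'Q : ⁅D₁, D₁⁆ ≤ centralizer (Q : Set G) := by
    have hA : ⁅D₁, D₁⁆ ≤ D₁ := commutator_le_self D₁
    have h1 : ⁅D₁, D₁⁆ ≤ centralizer (T : Set G) :=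
      Coprime.le_centralizer_of_commutator_le (hA.trans hD₁T)
        (hTD₁c.coprime_dvd_left (card_dvd_of_le hA)) hTD'
        (hA.trans (le_centralizer_iff.mp (hΦC.trans inf_le_right)))
    have h2 : ⁅D₁, D₁⁆ ≤ centralizer (C : Set G) :=
      hA.trans (le_centralizer_iff.mp inf_le_right)
    rw [le_centralizer_iff, ← hTC]
    exact sup_le (le_centralizer_iff.mp h1) (le_centralizer_iff.mp h2)
  -- all complements
  have htrans : ∀ D' : Subgroup G, IsComplIn Q D' S →
      ∃ s ∈ S, D₁.map (MulAut.conj s).toMonoidHom = D' ∧ Q ⊓ centralizer (D' : Set G) = C := by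
    intro D' hD'
    obtain ⟨s, hs, e⟩ := Coprime.exists_conj_hallOf hSsol
      (show IsPiHallOf {r | r ≠ q} D₁ S from ⟨hD₁S, hD₁π, hD₁i⟩) (hcompl D' hD').1
    refine ⟨s, hs, e, ?_⟩
    have hmem : ∀ x, x ∈ Q ⊓ centralizer (D' : Set G) ↔ s⁻¹ * x * s ∈ C := by
      intro x
      refine and_congr ⟨fun hx => Coprime.conj_mem' (hQn (hSM hs)) hx, fun hx => ?_⟩ ?_
      · simpa [mul_assoc] using Coprime.conj_mem (hQn (hSM hs)) hx
      rw [← e]
      constructor
      · intro hx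
        refine mem_centralizer_iff.mpr fun d hd => ?_
        have h1 := mem_centralizer_iff.mp hx _ (mem_map_of_mem _ hd)
        simp only [MulEquiv.coe_toMonoidHom, MulAut.conj_apply] at h1
        calc d * (s⁻¹ * x * s) = s⁻¹ * ((s * d * s⁻¹) * x) * s := by group
          _ = s⁻¹ * (x * (s * d * s⁻¹)) * s := by rw [h1]
          _ = s⁻¹ * x * s * d := by group
      · intro hx
        refine mem_centralizer_iff.mpr ?_
        rintro _ ⟨d, hd, rfl⟩
        have h1 := mem_centralizer_iff.mp hx d hd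
        simp only [MulEquiv.coe_toMonoidHom, MulAut.conj_apply]
        calc s * d * s⁻¹ * x = s * (d * (s⁻¹ * x * s)) * s⁻¹ := by group
          _ = s * ((s⁻¹ * x * s) * d) * s⁻¹ := by rw [h1]
          _ = x * (s * d * s⁻¹) := by group
    ext x
    rw [hmem]
    exact ⟨fun hx => by simpa [mul_assoc] using Coprime.conj_mem (hMC (hSM hs)) hx,
      fun hx => Coprime.conj_mem' (hMC (hSM hs)) hx⟩
  have hqM : q ∣ Nat.card M := hqS.trans (card_dvd_of_le hSM)
  refine ⟨Q, ⟨hU, hK1, derived_eq_sigmaCore h hM D hne, hKp, hq,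
    mem_beta_of_ne h hM hq hnn hQS hQn hQp hQh hqM hX, hQF, hQn, hQp, hQh, hKsQ, ?_, ?_, hX,
    D₁, hD₁c, hKD⟩⟩
  · intro D' hD'
    obtain ⟨s, hs, e, eC⟩ := htrans D' hD'
    rw [eC]
    exact ⟨hX D' hD'.2.1 (hcompl D' hD').2, hMC, hlt, hQcard,
      fun a ha b hb => ⟨hpow a ha, hQ'C (by
        simpa [commutatorElement_def] using commutator_mem_commutator ha hb)⟩, hmin⟩
  · intro D' hD'
    obtain ⟨s, hs, e, eC⟩ := htrans D' hD'
    refine ⟨?_, fun hle => hnKs ?_⟩
    · rw [← e, ← map_commutator, ← Coprime.map_conj_eq (hQn (hSM hs))]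
      rintro _ ⟨x, hx, rfl⟩
      refine mem_centralizer_iff.mpr ?_
      rintro _ ⟨y, hy, rfl⟩
      rw [← map_mul, ← map_mul, mem_centralizer_iff.mp (hD'Q hx) y hy]
    · exact (le_inf hKsQ hle).trans (eC.le.trans inf_le_right)

end Cfsg.Agent.OddOrder.BG15
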