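import Cfsg.Agent.OddOrder.BG15.Tau
import Cfsg.Agent.OddOrder.BG10.Uniq

/-!
# BG 15.1: the `σ'`-part of the Fitting subgroup
-/

set_option autoImplicit false
set_option linter.style.haveILetI false
set_option linter.unusedVariables false

universe u

namespace Cfsg.Agent.OddOrder.BG15

open Subgroup H40

variable {G : Type u} [Group G] [Finite G]

/-- The primes outside `σ(M)`. -/
abbrev sigma' (M : Subgroup G) : Set ℕ := {q | q.Prime ∧ q ∉ sigma M}

theorem le_normalizer_piCoreOf' {π : Set ℕ} {X M : Subgroup G}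
    (h : M ≤ normalizer (X : Set G)) : M ≤ normalizer (piCoreOf π X : Set G) := by
  intro m hm
  refine Coprime.mem_normalizer_of_map_conj ?_
  rw [piCoreOf_map, Coprime.map_conj_eq (h hm)]

theorem fittingOf_map (e : G ≃* G) (X : Subgroup G) :
    (fittingOf X).map e.toMonoidHom = fittingOf (X.map e.toMonoidHom) :=
  map_mapSubtype e _ _ (Cores.fittingSubgroup_map_mulEquiv (e.subgroupMap X))

theorem le_normalizer_fittingOf' {X M : Subgroup G} (h : M ≤ normalizer (X : Set G)) :
    M ≤ normalizer (fittingOf X : Set G) := by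
  intro m hm
  refine Coprime.mem_normalizer_of_map_conj ?_
  rw [fittingOf_map, Coprime.map_conj_eq (h hm)]

theorem isPGroup_piCoreOf {p : ℕ} (hp : p.Prime) (X : Subgroup G) :
    IsPGroup p (piCoreOf {p} X) :=
  (Cores.isPGroup_iff_isPiNumber hp).mpr (piCoreOf_isPiNumber _ _)

theorem fitting_sigma'_le (M : Subgroup G) :
    piCoreOf (sigma' M) (fittingOf M) ≤ M := (piCoreOf_le _ _).trans (fittingOf_le M)

theorem le_normalizer_fitting_sigma' (M : Subgroup G) :
    M ≤ normalizer (piCoreOf (sigma' M) (fittingOf M) : Set G) :=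
  le_normalizer_piCoreOf' (le_normalizer_fittingOf M)

/-- The primes of `O_σ'(F(M))` lie in `τ₂(M)` and its Sylow subgroups are cyclic. -/
theorem fitting_sigma'_prime (h : Facts G) {M : Subgroup G} (hM : IsCoatom M) {p : ℕ}
    [hp : Fact p.Prime] (hd : p ∣ Nat.card (piCoreOf (sigma' M) (fittingOf M))) :
    p ∈ tau2 M ∧ IsCyclic (piCoreOf {p} (piCoreOf (sigma' M) (fittingOf M))) := by
  have hG := h.minSimple
  set Y := piCoreOf (sigma' M) (fittingOf M)
  have hYnil : Group.IsNilpotent Y :=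
    isNilpotent_of_le (piCoreOf_le _ _) (isNilpotent_fittingOf M)
  have hs : p ∉ sigma M := ((piCoreOf_isPiNumber (sigma' M) (fittingOf M)) p hp.out hd).2
  set P := piCoreOf {p} Y
  have hPp : IsPGroup p P := isPGroup_piCoreOf hp.out Y
  have hPM : P ≤ M := (piCoreOf_le _ _).trans (fitting_sigma'_le M)
  have hPn : M ≤ normalizer (P : Set G) := le_normalizer_piCoreOf' (le_normalizer_fitting_sigma' M)
  have hP1 : P ≠ ⊥ := by
    intro hbot
    obtain ⟨y, hy⟩ := exists_prime_orderOf_dvd_card' p hd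
    rw [← orderOf_coe] at hy
    have h1 : (y : G) ∈ P := mem_piCoreOf_of_nilpotent hYnil y.2
      (fun q hq hqd => by
        rw [hy] at hqd
        exact (Nat.prime_dvd_prime_iff_eq hq hp.out).mp hqd)
    rw [hbot, mem_bot] at h1
    exact ne_one_of_prime_orderOf hp.out hy h1
  let Z : Subgroup G :=
    { carrier := {z | z ∈ P ∧ z ^ p = 1 ∧ ∀ w ∈ P, w * z = z * w}
      one_mem' := ⟨one_mem _, one_pow _, fun w _ => by rw [mul_one, one_mul]⟩
      mul_mem' := by
        rintro a b ⟨ha, ha', hac⟩ ⟨hb, hb', hbc⟩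
        refine ⟨mul_mem ha hb, ?_, fun w hw => ?_⟩
        · rw [Commute.mul_pow (hbc a ha : Commute a b), ha', hb', one_mul]
        · rw [← mul_assoc, hac w hw, mul_assoc, hbc w hw, ← mul_assoc]
      inv_mem' := by
        rintro a ⟨ha, ha', hac⟩
        exact ⟨inv_mem ha, by rw [inv_pow, ha', inv_one],
          fun w hw => (Commute.inv_right (hac w hw)).eq⟩ }
  have hZP : Z ≤ P := fun z hz => hz.1
  have hZM : Z ≤ M := hZP.trans hPM
  have hZe : IsElementaryAbelian p Z :=
    ⟨PGroups.isMulCommutative_of_comm fun a ha b hb => hb.2.2 a ha.1, fun a ha => ha.2.1⟩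
  have hZconj : ∀ g ∈ M, ∀ z ∈ Z, g * z * g⁻¹ ∈ Z := by
    rintro g hg z ⟨hz, hz', hzc⟩
    refine ⟨Coprime.conj_mem (hPn hg) hz, by rw [conj_pow, hz', mul_one, mul_inv_cancel],
      fun w hw => ?_⟩
    have hw' := hzc _ (Coprime.conj_mem' (hPn hg) hw)
    calc w * (g * z * g⁻¹) = g * ((g⁻¹ * w * g) * z) * g⁻¹ := by group
      _ = g * (z * (g⁻¹ * w * g)) * g⁻¹ := by rw [hw']
      _ = g * z * g⁻¹ * w := by group
  have hZn : M ≤ normalizer (Z : Set G) := by
    intro g hg
    refine mem_normalizer_iff.mpr fun z => ⟨hZconj g hg z, fun hz => ?_⟩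
    have := hZconj g⁻¹ (inv_mem hg) _ hz
    simpa [mul_assoc] using this
  obtain ⟨t, htP, hto, htc⟩ := Components.exists_central_orderOf hPp hP1
  have htZ : t ∈ Z := ⟨htP, hto ▸ pow_orderOf_eq_one t,
    fun w hw => mem_centralizer_singleton.mp (htc hw)⟩
  have hpM : p ∣ Nat.card M := hto ▸ orderOf_dvd_card (hPM htP)
  have hr2 : PRankLE p 2 M :=
    BG10.pRankLE_two_of_not_alpha hp.out fun ha => hs (BG10.alpha_subset_sigma hG hM ha)
  have hZ1 : Z ≠ ⊥ := fun e => by
    rw [e, mem_bot] at htZ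
    exact ne_one_of_prime_orderOf hp.out hto htZ
  have hNZ : normalizer (Z : Set G) = M := BG11.normalizer_eq_coatom hG hM hZM hZ1 hZn
  have hZc : Nat.card Z = p := by
    by_contra hne
    obtain ⟨n, hn⟩ := IsPGroup.iff_card.mp (hPp.to_le hZP)
    have hle : p ^ n ≤ p ^ 2 := hn ▸ BG11.card_le_of_pRankLE hr2 hZM hZe
    have hn2 : n ≤ 2 := (Nat.pow_le_pow_iff_right hp.out.one_lt).mp hle
    have hnp : 1 ≤ n := by
      rcases Nat.eq_zero_or_pos n with h0 | h0
      · rw [h0, pow_zero, card_eq_one] at hn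
        exact absurd hn hZ1
      · exact h0
    have hn' : n = 2 := by
      rcases Nat.lt_or_ge n 2 with h1 | h1
      · exact absurd (by rw [hn, show n = 1 by omega, pow_one]) hne
      · omega
    subst hn'
    have hr1 : ¬ PRankLE p 1 M := fun h1 => by
      have := BG11.card_le_of_pRankLE h1 hZM hZe
      rw [hn, pow_one] at this
      exact absurd this (not_le.mpr (lt_self_pow₀ hp.out.one_lt (by norm_num)))
    obtain ⟨E, hE⟩ := exists_compl hG hM
    have hZE : Z ≤ E := le_compl_of_normal hG hM hE hZM hZn fun q hq hqd => by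
      rw [hn] at hqd
      exact (Nat.prime_dvd_prime_iff_eq hq hp.out).mp (hq.dvd_of_dvd_pow hqd) ▸ hs
    exact (h.tau2Compl M hM E hE p ⟨hp.out, hs, hr2, hr1⟩ Z ⟨hZE, hZe, hn⟩).2.1.2.2 hNZ.le
  have hτ : p ∈ tau2 M := by
    obtain ⟨⟨-, hr1⟩, -, -⟩ := BG10.rank_two_of_normalizer_le hG hM hs hZc hNZ.le
    exact ⟨hp.out, hs, hr2, hr1⟩
  refine ⟨hτ, ?_⟩
  -- `P` is abelian with one subgroup of order `p`
  obtain ⟨A, hAM, hAc, hAe, hA⟩ := H41.exists_elementary_of_not_pRankLE hτ.2.2.2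
  obtain ⟨-, hS, -⟩ := h.tau2Abelian M hM p hτ A ⟨hAM, ⟨hAc, hAe⟩, hA⟩
  obtain ⟨T, hT, hPT⟩ := BG11.exists_sylowOf_ge' hPp hPM
  obtain ⟨S, hST⟩ := BG11.exists_sylow_eq hT
  have hTc : IsMulCommutative T := by
    haveI := (hS S).1
    rw [← hST]
    exact Subgroup.map_isMulCommutative _ _
  by_contra hc
  obtain ⟨E, hEP, hEc, hEe, hE⟩ :=
    H41.exists_elementary_sq_of_not_isCyclic (OddOrder.ne_two_of_dvd hG hpM) hPp hc
  have hEZ : E ≤ Z := fun e he => ⟨hEP he, hEe e he,
    fun w hw => PGroups.comm_of_isMulCommutative hTc (hPT hw) (hPT (hEP he))⟩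
  have := Nat.le_of_dvd Nat.card_pos (card_dvd_of_le hEZ)
  rw [hE, hZc] at this
  exact absurd this (not_le.mpr (lt_self_pow₀ hp.out.one_lt (by norm_num)))

/-- S1439. -/
theorem sigma'_fitting (h : Facts G) {M : Subgroup G} (hM : IsCoatom M) :
    IsCyclic ↥(piCoreOf (sigma' M) (fittingOf M)) ∧
      (∀ p : ℕ, p.Prime → p ∣ Nat.card ↥(piCoreOf (sigma' M) (fittingOf M)) → p ∈ tau2 M) ∧
      fittingOf M = fittingOf (sigmaCore M) ⊔ piCoreOf (sigma' M) (fittingOf M) := by
  have hG := h.minSimple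
  set Y := piCoreOf (sigma' M) (fittingOf M)
  have hYnil : Group.IsNilpotent Y :=
    isNilpotent_of_le (piCoreOf_le _ _) (isNilpotent_fittingOf M)
  refine ⟨?_, fun p hp hd => ?_, le_antisymm ?_ (sup_le ?_ (piCoreOf_le _ _))⟩
  · haveI : IsZGroup Y := ⟨fun p hp S => by
      haveI := Fact.mk hp
      have hSp : IsPGroup p ((S : Subgroup Y).map Y.subtype) := S.isPGroup'.map _
      have hle : (S : Subgroup Y).map Y.subtype ≤ piCoreOf {p} Y := fun x hx =>
        mem_piCoreOf_of_nilpotent hYnil (map_subtype_le _ hx)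
          (piNumber_orderOf ((Cores.isPGroup_iff_isPiNumber hp).mp hSp) hx)
      refine ((S : Subgroup Y).equivMapOfInjective Y.subtype Y.subtype_injective).isCyclic.mpr ?_
      by_cases hd : p ∣ Nat.card Y
      · haveI := (fitting_sigma'_prime h hM hd).2
        exact (subgroupOfEquivOfLe hle).isCyclic.mp (Subgroup.isCyclic _)
      · obtain ⟨n, hn⟩ := IsPGroup.iff_card.mp hSp
        have h0 : n = 0 := by
          by_contra h0
          exact hd ((hn ▸ dvd_pow_self p h0).trans (card_dvd_of_le (map_subtype_le _)))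
        rw [h0, pow_zero] at hn
        haveI := (Nat.card_eq_one_iff_unique.mp hn).1
        exact isCyclic_of_subsingleton⟩
    haveI := hYnil
    infer_instance
  · haveI := Fact.mk hp
    exact (fitting_sigma'_prime h hM hd).1
  · intro x hx
    obtain ⟨y, z, rfl, hy, hz, hy', hz'⟩ := exists_pi_parts (sigma M) x
    have hyF := (zpowers_le.mpr hx) hy
    have hzF := (zpowers_le.mpr hx) hz
    refine mul_mem_sup ?_ (mem_piCoreOf_of_nilpotent (isNilpotent_fittingOf M) hzF
      fun q hq hqd => ⟨hq, hz' q hq hqd⟩)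
    have h1 : piCoreOf (sigma M) (fittingOf M) ≤ sigmaCore M :=
      le_sigmaCore_of_piNumber hG hM ((piCoreOf_le _ _).trans (fittingOf_le M))
        (piCoreOf_isPiNumber _ _)
    refine le_fittingOf h1 ?_ (isNilpotent_of_le (piCoreOf_le _ _) (isNilpotent_fittingOf M))
      (mem_piCoreOf_of_nilpotent (isNilpotent_fittingOf M) hyF hy')
    exact le_normalizer_piCoreOf' ((sigmaCore_le M).trans (le_normalizer_fittingOf M))
  · exact le_fittingOf ((fittingOf_le _).trans (sigmaCore_le M))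
      (le_normalizer_fittingOf' (le_normalizer_sigmaCore M)) (isNilpotent_fittingOf _)

end Cfsg.Agent.OddOrder.BG15
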