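import Cfsg.Agent.OddOrder.BG15.TypePCore
import Cfsg.Agent.OddOrder.BG15.Fitting
import Cfsg.Agent.OddOrder.BG3.FrobeniusModule
import Cfsg.Agent.Coprime.Hall
import Cfsg.Agent.Coprime.Centralize

/-!
# BG 15.2, first part: a non-nilpotent `M_σ` has a normal Sylow `q`-subgroup with nilpotent quotient
-/

set_option autoImplicit false
set_option linter.style.haveILetI false
set_option linter.unusedVariables false

universe u

namespace Cfsg.Agent.OddOrder.BG15

open Subgroup H40
open scoped commutatorElement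

variable {G : Type u} [Group G] [Finite G] {M K U : Subgroup G}

theorem fittingHallOf_le_sigmaCore (hG : IsMinSimpleOddOrder G) {M : Subgroup G}
    (hM : IsCoatom M) : fittingHallOf M ≤ sigmaCore M := by
  refine le_sigmaCore_of_piNumber hG hM (fittingHallOf_le M) fun p hp hd => ?_
  haveI := Fact.mk hp
  set H := fittingHallOf M
  have hHnil := isNilpotent_fittingHallOf M
  set P := piCoreOf {p} H
  have hPp : IsPGroup p P := isPGroup_piCoreOf hp H
  have hPM : P ≤ M := (piCoreOf_le _ _).trans (fittingHallOf_le M)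
  have hPn : M ≤ normalizer (P : Set G) := le_normalizer_piCoreOf' (le_normalizer_fittingHallOf M)
  have hmemP : ∀ x ∈ H, ∀ n : ℕ, orderOf x ∣ p ^ n → x ∈ P := fun x hx n hn =>
    mem_piCoreOf_of_nilpotent hHnil hx fun q hq hqd =>
      (Nat.prime_dvd_prime_iff_eq hq hp).mp (hq.dvd_of_dvd_pow (hqd.trans hn))
  obtain ⟨y, hy⟩ := exists_prime_orderOf_dvd_card' p hd
  rw [← orderOf_coe] at hy
  have hyP : (y : G) ∈ P := hmemP _ y.2 1 (by rw [hy, pow_one])
  have hP1 : P ≠ ⊥ := fun e => by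
    rw [e, mem_bot] at hyP
    exact ne_one_of_prime_orderOf hp hy hyP
  obtain ⟨T, hT, hPT⟩ := BG11.exists_sylowOf_ge' hPp hPM
  have hcop := coprime_fittingHallOf M
  have hTP : T ≤ P := by
    intro t ht
    obtain ⟨n, hn⟩ := IsPGroup.iff_card.mp hT.2.1
    have hto : orderOf t ∣ p ^ n := hn ▸ orderOf_dvd_card ht
    have hpc : p.Coprime (H.relIndex M) := hcop.coprime_dvd_left hd
    exact hmemP t (mem_of_normal_hall (le_normalizer_fittingHallOf M) (hT.1 ht)
      ((hpc.pow_left n).coprime_dvd_left hto)) n hto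
  obtain ⟨S, hS⟩ := BG11.exists_sylow_eq hT
  refine ⟨hp, hd.trans (card_dvd_of_le (fittingHallOf_le M)), S, ?_⟩
  rw [hS, le_antisymm hTP hPT]
  exact (BG11.normalizer_eq_coatom hG hM hPM hP1 hPn).le

theorem coprime_sigmaCore (hG : IsMinSimpleOddOrder G) {M : Subgroup G} (hM : IsCoatom M) :
    (Nat.card (sigmaCore M)).Coprime ((sigmaCore M).relIndex M) := by
  obtain ⟨-, h1, h2⟩ := hallσ hG hM
  exact Nat.coprime_of_dvd fun p hp hd hd' => h2 p hp (h1 p hp hd) hd'

theorem fittingHallOf_eq_sigmaCore (hG : IsMinSimpleOddOrder G) {M : Subgroup G} (hM : IsCoatom M)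
    (hn : Group.IsNilpotent (sigmaCore M)) : fittingHallOf M = sigmaCore M :=
  le_antisymm (fittingHallOf_le_sigmaCore hG hM)
    (le_fittingHallOf (sigmaCore_le M) (le_normalizer_sigmaCore M) hn (coprime_sigmaCore hG hM))

theorem not_nilpotent_of_ne (hG : IsMinSimpleOddOrder G) (hM : IsCoatom M)
    (hne : fittingHallOf M ≠ sigmaCore M) : ¬ Group.IsNilpotent (sigmaCore M) := fun h =>
  hne (fittingHallOf_eq_sigmaCore hG hM h)

theorem U_bot_of_ne (h : Facts G) (hM : IsCoatom M) (D : IsSigmaDecomposition M K U)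
    (hne : fittingHallOf M ≠ sigmaCore M) : U = ⊥ := by
  have hG := h.minSimple
  by_contra hU
  obtain ⟨p, hp, hd⟩ := Nat.exists_prime_and_dvd (show Nat.card U ≠ 1 from
    fun e => hU (card_eq_one.mp e))
  obtain ⟨h1, h2⟩ := not_dvd_U_of_sigma hG hM D hp hd
  haveI := Fact.mk hp
  obtain ⟨S⟩ : Nonempty (Sylow p M) := inferInstance
  exact not_nilpotent_of_ne hG hM hne (h.notPOne M hM (not_P_one hG hM D hU) p
    (hd.trans (card_dvd_of_le (decomp_le D).2)) (by simp [h1, h2]) S).2.2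

theorem K_ne_bot_of_ne (h : Facts G) (hM : IsCoatom M) (D : IsSigmaDecomposition M K U)
    (hne : fittingHallOf M ≠ sigmaCore M) : K ≠ ⊥ := by
  intro hK
  have hE := isComplIn_K D (U_bot_of_ne h hM D hne)
  have h1 := (h.sigmaCoreAction M hM K hE).2.1
  rw [hK, commutator_bot_right] at h1
  have h2 := fittingHallOf_le_sigmaCore h.minSimple hM
  rw [← h1, le_bot_iff] at h2
  exact hne (h2.trans h1)

theorem derived_eq_sigmaCore (h : Facts G) (hM : IsCoatom M) (D : IsSigmaDecomposition M K U)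
    (hne : fittingHallOf M ≠ sigmaCore M) : ⁅M, M⁆ = sigmaCore M := by
  rw [derived_eq h hM D (K_ne_bot_of_ne h hM D hne), U_bot_of_ne h hM D hne, bot_sup_eq]

theorem kStar_prime_of_ne (h : Facts G) (hM : IsCoatom M) (D : IsSigmaDecomposition M K U)
    (hne : fittingHallOf M ≠ sigmaCore M) : (Nat.card (kStar M K)).Prime :=
  kStar_prime h hM D (K_ne_bot_of_ne h hM D hne) (U_bot_of_ne h hM D hne)

/-- `K* ≤ F(M_σ)`. -/
theorem kStar_le_fitting (h : Facts G) (hM : IsCoatom M) (D : IsSigmaDecomposition M K U)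
    (hne : fittingHallOf M ≠ sigmaCore M) : kStar M K ≤ fittingOf (sigmaCore M) := by
  have hG := h.minSimple
  have hK1 := K_ne_bot_of_ne h hM D hne
  have hU := U_bot_of_ne h hM D hne
  have hq := kStar_prime_of_ne h hM D hne
  have hE := isComplIn_K D hU
  set S := sigmaCore M
  have hSM : S ≤ M := sigmaCore_le M
  have hKM : K ≤ M := (decomp_le D).1
  by_contra hle
  haveI : Group.IsSolvable M := solvable hG hM
  haveI : (S.subgroupOf M).Normal := normal_subgroupOf_of_le_normalizer (le_normalizer_sigmaCore M)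
  have hodd : Odd (Nat.card M) := hG.1.of_dvd_nat (card_subgroup_dvd_card M)
  have hsup : S.subgroupOf M ⊔ K.subgroupOf M = ⊤ := by
    refine eq_top_iff.mpr fun m _ => ?_
    obtain ⟨k, hk, s, hs, e⟩ := hE.2.2.2 m m.2
    rw [show m = (⟨k, hKM hk⟩ : M) * ⟨s, hSM hs⟩ from Subtype.ext e]
    exact mul_mem (mem_sup_right hk) (mem_sup_left hs)
  have hcop : (Nat.card (S.subgroupOf M)).Coprime (Nat.card (K.subgroupOf M)) := by
    rw [Nat.card_congr (subgroupOfEquivOfLe hSM).toEquiv,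
      Nat.card_congr (subgroupOfEquivOfLe hKM).toEquiv]
    exact (coprime_K_sigmaCore D).symm
  have hcen : ∀ (X : Subgroup G), X ≤ M → ∀ m : M,
      m ∈ centralizer ((X.subgroupOf M : Subgroup M) : Set M) ↔
        (m : G) ∈ centralizer (X : Set G) := by
    intro X hX m
    constructor
    · intro hm
      refine mem_centralizer_iff.mpr fun x hx => ?_
      exact congrArg Subtype.val (mem_centralizer_iff.mp hm ⟨x, hX hx⟩ hx)
    · intro hm
      exact mem_centralizer_iff.mpr fun x hx =>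
        Subtype.ext (mem_centralizer_iff.mp hm x hx)
  have hFmem : ∀ m : M, m ∈ fittingOf (S.subgroupOf M) → (m : G) ∈ fittingOf S := by
    intro m hm
    refine le_fittingOf (N := (fittingOf (S.subgroupOf M)).map M.subtype) ?_ ?_ ?_ ⟨m, hm, rfl⟩
    · rintro _ ⟨x, hx, rfl⟩
      exact fittingOf_le (S.subgroupOf M) hx
    · intro s hs
      refine Coprime.mem_normalizer_of_map_conj ?_
      have h1 := Coprime.map_conj_eq (le_normalizer_fittingOf (S.subgroupOf M)
        (show (⟨s, hSM hs⟩ : M) ∈ S.subgroupOf M from hs))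
      conv_rhs => rw [← h1, Subgroup.map_map]
      rw [Subgroup.map_map]
      congr 1
    · haveI := isNilpotent_fittingOf (S.subgroupOf M)
      exact Group.nilpotent_of_mulEquiv
        ((fittingOf (S.subgroupOf M)).equivMapOfInjective M.subtype M.subtype_injective)
  have hpr := (h.primeAction M hM K D.hall hK1).1
  have hpr' : ∀ x ∈ K.subgroupOf M, x ≠ 1 →
      S.subgroupOf M ⊓ centralizer ({x} : Set M) =
        S.subgroupOf M ⊓ centralizer ((K.subgroupOf M : Subgroup M) : Set M) := by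
    intro x hx hx1
    have e := hpr x hx (fun e => hx1 (Subtype.ext e))
    ext m
    rw [mem_inf, mem_inf, hcen K hKM, mem_centralizer_singleton]
    refine and_congr_right fun hm => ⟨fun hc => ?_, fun hc => ?_⟩
    · exact (e.le ⟨hm, mem_centralizer_singleton.mpr (congrArg Subtype.val hc)⟩).2
    · exact Subtype.ext (mem_centralizer_iff.mp hc x hx).symm
  have hF : fittingOf (S.subgroupOf M) ⊓ centralizer ((K.subgroupOf M : Subgroup M) : Set M) = ⊥ := by
    refine (eq_bot_iff_forall _).mpr fun m hm => ?_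
    haveI := Fact.mk hq
    have h1 : (m : G) ∈ fittingOf S ⊓ kStar M K :=
      ⟨hFmem m hm.1, fittingOf_le (S.subgroupOf M) hm.1, (hcen K hKM m).mp hm.2⟩
    rcases hq.eq_one_or_self_of_dvd _ (card_dvd_of_le (inf_le_right :
      fittingOf S ⊓ kStar M K ≤ kStar M K)) with e | e
    · rw [card_eq_one.mp e, mem_bot] at h1
      exact Subtype.ext h1
    · exact absurd (Subgroup.eq_of_le_of_card_ge inf_le_right e.ge ▸ inf_le_left) hle
  have h2 := h.primeActionFitting hodd (S.subgroupOf M) (K.subgroupOf M) hsup hcop hpr' hF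
  refine not_nilpotent_of_ne hG hM hne (isNilpotent_of_le ?_ (isNilpotent_fittingOf S))
  intro s hs
  have h3 := Subgroup.map_mono (f := M.subtype) h2
  rw [map_commutator, map_subgroupOf_eq_of_le hSM, map_subgroupOf_eq_of_le hKM,
    (h.sigmaCoreAction M hM K hE).2.1] at h3
  obtain ⟨m, hm, rfl⟩ := h3 hs
  exact hFmem m hm

/-- A normal Sylow `q`-subgroup of `M_σ` with nilpotent complements, `q = |K*|`. -/
theorem exists_normal_sylow (h : Facts G) (hM : IsCoatom M) (D : IsSigmaDecomposition M K U)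
    (hne : fittingHallOf M ≠ sigmaCore M) :
    ∃ Q : Subgroup G, Q ≤ sigmaCore M ∧ M ≤ normalizer (Q : Set G) ∧
      IsPGroup (Nat.card (kStar M K)) Q ∧
      ¬ Nat.card (kStar M K) ∣ Q.relIndex (sigmaCore M) ∧ kStar M K ≤ Q ∧
      Q ≤ fittingHallOf M ∧
      ∀ X ≤ sigmaCore M, ¬ Nat.card (kStar M K) ∣ Nat.card X → Group.IsNilpotent X := by
  have hG := h.minSimple
  have hq := kStar_prime_of_ne h hM D hne
  have hle := kStar_le_fitting h hM D hne
  have hK1 := K_ne_bot_of_ne h hM D hne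
  set q := Nat.card (kStar M K) with hqdef
  haveI := Fact.mk hq
  set S := sigmaCore M with hSdef
  have hSM : S ≤ M := sigmaCore_le M
  have hKM : K ≤ M := (decomp_le D).1
  set W := piCoreOf {q} (fittingOf S)
  have hWp : IsPGroup q W := isPGroup_piCoreOf hq _
  have hWS : W ≤ S := (piCoreOf_le _ _).trans (fittingOf_le S)
  have hWn : M ≤ normalizer (W : Set G) :=
    le_normalizer_piCoreOf' (le_normalizer_fittingOf' (le_normalizer_sigmaCore M))
  have hKsW : kStar M K ≤ W := fun x hx =>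
    mem_piCoreOf_of_nilpotent (isNilpotent_fittingOf S) (hle hx)
      (piNumber_orderOf (fun p hp hd => (Nat.prime_dvd_prime_iff_eq hp hq).mp hd) hx)
  haveI := normal_subgroupOf_of_le_normalizer hWn
  set f := QuotientGroup.mk' (W.subgroupOf M)
  have hf : ∀ x : M, f x = 1 ↔ (x : G) ∈ W := fun x => QuotientGroup.eq_one_iff x
  set Sq := (S.subgroupOf M).map f
  -- an element of prime order of `K` acts fixed-point-freely on `S / W`
  obtain ⟨r, hr, hrd⟩ := Nat.exists_prime_and_dvd (show Nat.card K ≠ 1 from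
    fun e => hK1 (card_eq_one.mp e))
  haveI := Fact.mk hr
  obtain ⟨k, hk⟩ := exists_prime_orderOf_dvd_card' r hrd
  rw [← orderOf_coe] at hk
  have hk1 : (k : G) ≠ 1 := ne_one_of_prime_orderOf hr hk
  have hrq : ¬ r ∣ Nat.card S := fun hd => hr.ne_one
    (Nat.eq_one_of_dvd_coprimes (coprime_K_sigmaCore D) hrd hd)
  have hkM : (k : G) ∈ M := hKM k.2
  set e := f ⟨k, hkM⟩
  have he : orderOf e = r := by
    refine orderOf_eq_prime ?_ ?_
    · rw [← map_pow, show (⟨k, hkM⟩ : M) ^ r = 1 from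
        Subtype.ext (by rw [SubgroupClass.coe_pow]; exact hk ▸ pow_orderOf_eq_one _), map_one]
    · intro h1
      exact hrq ((hk ▸ orderOf_dvd_card ((hf _).mp h1)).trans (card_dvd_of_le hWS))
  have hconj : ∀ m : M, ∀ z ∈ Sq, f m * z * (f m)⁻¹ ∈ Sq := by
    rintro m _ ⟨x, hx, rfl⟩
    exact ⟨m * x * m⁻¹, mem_subgroupOf.mpr (Coprime.conj_mem (le_normalizer_sigmaCore M m.2)
      (show (x : G) ∈ S from hx)), by simp⟩
  have hnorm : ∀ m : M, f m ∈ normalizer (Sq : Set _) := fun m =>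
    mem_normalizer_iff.mpr fun z => ⟨hconj m z, fun hz => by
      simpa [mul_assoc] using hconj m⁻¹ _ hz⟩
  have hnil : Group.IsNilpotent Sq := by
    refine BG3.isNilpotent_of_fpf_subgroup (E := zpowers e) (by rw [Nat.card_zpowers, he]; exact hr)
      (zpowers_le.mpr (hnorm _)) ?_
    rintro z hz hz1 _ ⟨s, hs, rfl⟩ hzs
    have he2 : e * f s = f s * e := by
      refine commute_of_mem_zpowers ?_ hzs
      have hzo : orderOf z = r := by
        have hd : orderOf z ∣ r := he ▸ (orderOf_dvd_card hz).trans (Nat.card_zpowers e).dvd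
        exact (hr.eq_one_or_self_of_dvd _ hd).resolve_left fun h1 => hz1 (orderOf_eq_one_iff.mp h1)
      rw [Subgroup.eq_of_le_of_card_ge (zpowers_le.mpr hz : zpowers z ≤ zpowers e)
        (by rw [Nat.card_zpowers, Nat.card_zpowers, he, hzo])]
      exact mem_zpowers e
    obtain ⟨c, hc, hcn⟩ := Coprime.exists_centralizer_mem_of_comm_mem
      (A := zpowers (k : G)) (K := S)
      (zpowers_le.mpr (le_normalizer_sigmaCore M hkM))
      (by rw [Nat.card_zpowers, hk]; exact hr.coprime_iff_not_dvd.mpr hrq)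
      (Or.inl (Coprime.isSolvable_zpowers _)) hWS (hSM.trans hWn)
      (zpowers_le.mpr (hWn hkM)) (show (s : G) ∈ S from hs) fun a ha => by
        have haM : a ∈ M := (zpowers_le.mpr hkM) ha
        obtain ⟨i, hi⟩ := mem_zpowers_iff.mp ha
        have h1 : f ⟨a, haM⟩ = e ^ i := by
          rw [← map_zpow]
          exact congrArg f (Subtype.ext (by rw [SubgroupClass.coe_zpow]; exact hi.symm))
        have h2 : Commute (f ⟨a, haM⟩) (f s) := h1 ▸ Commute.zpow_left he2 i
        have h3 : f (⟨a, haM⟩ * s * (⟨a, haM⟩ : M)⁻¹ * s⁻¹) = 1 := by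
          rw [map_mul, map_mul, map_mul, map_inv, map_inv, h2.eq]
          group
        exact (hf _).mp h3
    have hcK : c ∈ kStar M K := by
      have h4 := (h.primeAction M hM K D.hall hK1).1 k k.2 hk1
      rw [← centralizer_zpowers] at h4
      exact h4.le hc
    refine (hf s).mpr ?_
    have h5 := W.mul_mem (hKsW hcK) (W.inv_mem hcn)
    simpa using h5
  -- subgroups of `S` of order prime to `q` embed in `S / W`
  have hX : ∀ X ≤ S, ¬ q ∣ Nat.card X → Group.IsNilpotent X := by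
    intro X hXS hXq
    haveI := hnil
    let g : X →* Sq :=
      { toFun := fun x => ⟨f ⟨x, hSM (hXS x.2)⟩, _, hXS x.2, rfl⟩
        map_one' := Subtype.ext (map_one f)
        map_mul' := fun a b => Subtype.ext (map_mul f ⟨a, hSM (hXS a.2)⟩ ⟨b, hSM (hXS b.2)⟩) }
    have hg : Function.Injective g := by
      refine (injective_iff_map_eq_one g).mpr fun x hx => ?_
      have h1 : (x : G) ∈ X ⊓ W := ⟨x.2, (hf _).mp (congrArg Subtype.val hx)⟩
      obtain ⟨j, hj⟩ := IsPGroup.iff_card.mp hWp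
      rw [Coprime.inf_eq_bot (hj ▸ ((hq.coprime_iff_not_dvd.mpr hXq).symm.pow_right j)),
        mem_bot] at h1
      exact Subtype.ext h1
    exact Group.nilpotent_of_mulEquiv (MonoidHom.ofInjective hg).symm
  -- the preimage of `O_q(S / W)`
  set P := piCoreOf {q} Sq
  set Q : Subgroup G := ((P.comap f) ⊓ S.subgroupOf M).map M.subtype
  have hQS : Q ≤ S := by
    rintro _ ⟨x, hx, rfl⟩
    exact hx.2
  have hPp : IsPGroup q P := isPGroup_piCoreOf hq _
  have hQp : IsPGroup q Q := by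
    rintro ⟨_, x, hx, rfl⟩
    obtain ⟨i, hi⟩ := hPp ⟨f x, hx.1⟩
    have h1 : f x ^ q ^ i = 1 := congrArg Subtype.val hi
    have h2 : (x : G) ^ q ^ i ∈ W := by
      have := (hf (x ^ q ^ i)).mp (by rw [map_pow]; exact h1)
      simpa using this
    obtain ⟨j, hj⟩ := hWp ⟨_, h2⟩
    refine ⟨i + j, Subtype.ext ?_⟩
    have h3 : ((x : G) ^ q ^ i) ^ q ^ j = 1 := congrArg Subtype.val hj
    rw [← pow_mul, ← pow_add] at h3
    simpa using h3
  have hPn : ∀ m : M, f m ∈ normalizer (P : Set _) := fun m =>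
    le_normalizer_piCoreOf' (X := Sq) (M := normalizer (Sq : Set (↥M ⧸ W.subgroupOf M))) le_rfl (hnorm m)
  have hQn : M ≤ normalizer (Q : Set G) := by
    have key : ∀ m ∈ M, ∀ y ∈ Q, m * y * m⁻¹ ∈ Q := by
      rintro m hm _ ⟨x, hx, rfl⟩
      refine ⟨⟨m, hm⟩ * x * (⟨m, hm⟩ : M)⁻¹, ⟨?_, mem_subgroupOf.mpr
        (Coprime.conj_mem (le_normalizer_sigmaCore M hm) (show (x : G) ∈ S from hx.2))⟩, by simp⟩
      show f (⟨m, hm⟩ * x * (⟨m, hm⟩ : M)⁻¹) ∈ P
      rw [map_mul, map_mul, map_inv]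
      exact Coprime.conj_mem (hPn ⟨m, hm⟩) hx.1
    intro m hm
    refine mem_normalizer_iff.mpr fun y => ⟨key m hm y, fun hy => ?_⟩
    simpa [mul_assoc] using key m⁻¹ (inv_mem hm) _ hy
  obtain ⟨T, hT, hQT⟩ := BG11.exists_sylowOf_ge' hQp hQS
  have hTQ : T ≤ Q := by
    intro t ht
    refine ⟨⟨t, hSM (hT.1 ht)⟩, ⟨?_, hT.1 ht⟩, rfl⟩
    show f _ ∈ P
    refine mem_piCoreOf_of_nilpotent hnil ⟨_, hT.1 ht, rfl⟩ fun p hp hd => ?_
    obtain ⟨n, hn⟩ := IsPGroup.iff_card.mp hT.2.1
    have h1 : orderOf (⟨t, hSM (hT.1 ht)⟩ : M) ∣ q ^ n := by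
      rw [← orderOf_coe]
      exact hn ▸ orderOf_dvd_card ht
    exact (Nat.prime_dvd_prime_iff_eq hp hq).mp
      (hp.dvd_of_dvd_pow (hd.trans ((orderOf_map_dvd f _).trans h1)))
  have hQc : Nat.card Q = q ^ (Nat.card S).factorization q := le_antisymm hTQ hQT ▸ hT.2.2
  have hQh : ¬ q ∣ Q.relIndex S := by
    intro hd
    have e1 := relIndex_mul_relIndex (⊥ : Subgroup G) Q S bot_le hQS
    rw [relIndex_bot_left, relIndex_bot_left, hQc] at e1
    refine Nat.pow_succ_factorization_not_dvd (Nat.card_pos (α := S)).ne' hq ?_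
    have h1 := mul_dvd_mul_left (q ^ (Nat.card S).factorization q) hd
    rw [pow_succ]
    rwa [e1] at h1
  have hKsQ : kStar M K ≤ Q := by
    intro x hx
    refine ⟨⟨x, hSM hx.1⟩, ⟨?_, hx.1⟩, rfl⟩
    show f _ ∈ P
    rw [(hf _).mpr (hKsW hx)]
    exact one_mem _
  have hqS : q ∈ sigma M :=
    (hallσ hG hM).2.1 q hq (hqdef ▸ card_dvd_of_le (inf_le_left : kStar M K ≤ S))
  refine ⟨Q, hQS, hQn, hQp, hQh, hKsQ, ?_, hX⟩
  refine le_fittingHallOf (hQS.trans hSM) hQn hQp.isNilpotent ?_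
  obtain ⟨n, hn⟩ := IsPGroup.iff_card.mp hQp
  rw [hn]
  refine Nat.Coprime.pow_left _ (hq.coprime_iff_not_dvd.mpr fun hd => ?_)
  rw [← relIndex_mul_relIndex Q S M hQS hSM] at hd
  rcases hq.dvd_mul.mp hd with h1 | h1
  · exact hQh h1
  · exact not_dvd_relIndex_sigmaCore hG hM hq hqS h1

end Cfsg.Agent.OddOrder.BG15
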