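import Cfsg.Agent.OddOrder.BG15.HallFusion

/-!
# BG 15.2: `M_F` and `F(M)` (S1355, S1356, S1357), and nilpotent Hall subgroups of `G` (S1384)
-/

set_option autoImplicit false
set_option linter.style.haveILetI false
set_option linter.unusedVariables false

universe u

namespace Cfsg.Agent.OddOrder.BG15

open Subgroup H40
open scoped commutatorElement

variable {G : Type u} [Group G] [Finite G] {M : Subgroup G}

theorem isNilpotent_of_comm {X : Subgroup G} (hX : IsMulCommutative X) : Group.IsNilpotent X := by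
  letI : CommGroup X := { (inferInstance : Group X) with mul_comm := hX.is_comm.comm }
  infer_instance

theorem sup_le_centralizer_sup {A B : Subgroup G} (hA : A ≤ centralizer (A : Set G))
    (hB : B ≤ centralizer (B : Set G)) (hAB : B ≤ centralizer (A : Set G)) :
    A ⊔ B ≤ centralizer ((A ⊔ B : Subgroup G) : Set G) := by
  have h1 : A ⊔ B ≤ centralizer (A : Set G) := sup_le hA hAB
  have h2 : A ⊔ B ≤ centralizer (B : Set G) := sup_le (le_centralizer_iff.mp hAB) hB
  exact sup_le (le_centralizer_iff.mp h1) (le_centralizer_iff.mp h2)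

/-- Two normal nilpotent subgroups generate a nilpotent group. -/
theorem isNilpotent_sup {A B : Subgroup G} (hAB : A ≤ normalizer (B : Set G))
    (hBA : B ≤ normalizer (A : Set G)) (hA : Group.IsNilpotent A) (hB : Group.IsNilpotent B) :
    Group.IsNilpotent ↥(A ⊔ B) := by
  refine isNilpotent_of_le (sup_le (le_fittingOf le_sup_left ?_ hA) (le_fittingOf le_sup_right ?_ hB))
    (isNilpotent_fittingOf (A ⊔ B))
  · exact sup_le le_normalizer hBA
  · exact sup_le hAB le_normalizer

theorem fittingHallOf_ne_bot (h : Facts G) (hM : IsCoatom M) : fittingHallOf M ≠ ⊥ := by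
  have hG := h.minSimple
  intro hb
  by_cases hn : fittingHallOf M = sigmaCore M
  · exact BG10.sigmaCore_ne_bot hG hM (hn ▸ hb)
  · obtain ⟨K, U, D⟩ := exists_decomp h hM
    obtain ⟨Q, hQ⟩ := nonNilp_structure h hM D hn
    have h1 : kStar M K ≤ (⊥ : Subgroup G) := hb ▸ hQ.kStar_le.trans hQ.Q_le
    exact hQ.q_prime.ne_one (card_eq_one.mpr (le_bot_iff.mp h1))

theorem sigmaCore_le_derived (h : Facts G) (hM : IsCoatom M) : sigmaCore M ≤ ⁅M, M⁆ := by
  obtain ⟨E, hE⟩ := exists_compl h.minSimple hM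
  exact (h.sigmaCoreAction M hM E hE).2.1.ge.trans (commutator_mono (sigmaCore_le M) hE.1)

theorem derived_lt (hG : IsMinSimpleOddOrder G) (hM : IsCoatom M) : ⁅M, M⁆ < M := by
  haveI : Group.IsSolvable M := solvable hG hM
  haveI : Nontrivial M := M.nontrivial_iff_ne_bot.mpr (BG11.coatom_ne_bot hG hM)
  refine lt_of_le_of_ne (commutator_le_self M) fun e => ?_
  refine (IsSolvable.commutator_lt_top_of_nontrivial (G := M)).ne ?_
  refine map_injective M.subtype_injective ?_
  rw [_root_.commutator, map_commutator, ← MonoidHom.range_eq_map, range_subtype]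
  exact e

theorem map_subtype_comm (M : Subgroup G) : (commutator ↥M).map M.subtype = ⁅M, M⁆ := by
  rw [_root_.commutator, map_commutator, ← MonoidHom.range_eq_map, range_subtype]

/-- `M' ≤ X M_F` with `X` nilpotent makes `M' / M_F` nilpotent. -/
theorem nilpotent_derived_quotient {X : Subgroup G} (hXM : X ≤ M) (hX : Group.IsNilpotent X)
    (hXn : X ≤ normalizer (fittingHallOf M : Set G)) (hle : ⁅M, M⁆ ≤ fittingHallOf M ⊔ X) :
    Group.IsNilpotent ↥((commutator ↥M).map (QuotientGroup.mk' (fittingHall ↥M))) := by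
  set f := QuotientGroup.mk' (fittingHall ↥M)
  have h1 : Group.IsNilpotent (X.subgroupOf M) :=
    Group.nilpotent_of_mulEquiv (subgroupOfEquivOfLe hXM).symm
  have h2 : (commutator ↥M).map f ≤ (X.subgroupOf M).map f := by
    rintro _ ⟨m, hm, rfl⟩
    have h3 : (m : G) ∈ fittingHallOf M ⊔ X := hle (map_subtype_comm M ▸ ⟨m, hm, rfl⟩)
    obtain ⟨n, hn, a, ha, e⟩ := (Coprime.mem_sup_iff hXn).mp h3
    obtain ⟨n', hn', rfl⟩ := hn
    refine ⟨⟨a, hXM ha⟩, ha, ?_⟩
    rw [show m = n' * ⟨a, hXM ha⟩ from Subtype.ext e.symm, map_mul,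
      show f n' = 1 from (QuotientGroup.eq_one_iff _).mpr hn', one_mul]
  haveI := h1
  have h4 : Group.IsNilpotent ((X.subgroupOf M).map f) :=
    Group.nilpotent_of_surjective _ (f.subgroupMap_surjective (X.subgroupOf M))
  exact isNilpotent_of_le h2 h4

/-- `M' ≤ E' M_σ`. -/
theorem derived_le_compl (hM : IsCoatom M) {E : Subgroup G} (hE : IsComplIn E (sigmaCore M) M) :
    ⁅M, M⁆ ≤ sigmaCore M ⊔ ⁅E, E⁆ := by
  have hS := sigmaCore_le M
  have hEn : E ≤ normalizer (sigmaCore M : Set G) := hE.1.trans (le_normalizer_sigmaCore M)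
  set N := sigmaCore M ⊔ ⁅E, E⁆
  have hEE : E ≤ normalizer (⁅E, E⁆ : Subgroup G) := normalizer_commutator_ge_left E E
  have hNM : N ≤ M := sup_le hS ((commutator_le_self E).trans hE.1)
  have hEN : E ≤ normalizer (N : Set G) := fun e he => by
    refine Coprime.mem_normalizer_of_map_conj ?_
    rw [Subgroup.map_sup, Coprime.map_conj_eq (hEn he), Coprime.map_conj_eq (hEE he)]
  have hn : M ≤ normalizer (N : Set G) := by
    intro m hm
    obtain ⟨e, he, s, hs, rfl⟩ := hE.2.2.2 m hm
    exact mul_mem (hEN he) (le_normalizer (mem_sup_left hs))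
  refine commutator_le_of_comm hNM hn hE.1 hS hE.2.2.2
    (fun a ha b hb => mem_sup_right ?_) (fun a ha b hb => mem_sup_left ?_)
    (fun a ha b hb => mem_sup_left ?_)
  · simpa [commutatorElement_def] using commutator_mem_commutator ha hb
  · rw [show a * b * a⁻¹ * b⁻¹ = (a * b * a⁻¹) * b⁻¹ by group]
    exact mul_mem (Coprime.conj_mem (hEn ha) hb) (inv_mem hb)
  · exact mul_mem (mul_mem (mul_mem ha hb) (inv_mem ha)) (inv_mem hb)

/-- S1355. -/
theorem fcore_structure (h : Facts G) (hM : IsCoatom M) :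
    fittingHallOf M ≠ ⊥ ∧ fittingHallOf M ≤ sigmaCore M ∧ sigmaCore M ≤ ⁅M, M⁆ ∧ ⁅M, M⁆ < M ∧
      Group.IsNilpotent ↥((commutator ↥M).map (QuotientGroup.mk' (fittingHall ↥M))) := by
  have hG := h.minSimple
  refine ⟨fittingHallOf_ne_bot h hM, fittingHallOf_le_sigmaCore hG hM, sigmaCore_le_derived h hM,
    derived_lt hG hM, ?_⟩
  by_cases hn : fittingHallOf M = sigmaCore M
  · obtain ⟨E, hE⟩ := exists_compl hG hM
    refine nilpotent_derived_quotient ((commutator_le_self E).trans hE.1)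
      (isNilpotent_of_comm (h.complAbelian M hM E hE).2.1)
      (((commutator_le_self E).trans hE.1).trans (le_normalizer_fittingHallOf M)) ?_
    rw [hn]
    exact derived_le_compl hM hE
  · obtain ⟨K, U, D⟩ := exists_decomp h hM
    obtain ⟨Q, hQ⟩ := nonNilp_structure h hM D hn
    obtain ⟨D₁, hD₁, -⟩ := hQ.exists_invariant
    refine nilpotent_derived_quotient (hD₁.2.1.trans (sigmaCore_le M)) (hQ.compl D₁ hD₁).1
      ((hD₁.2.1.trans (sigmaCore_le M)).trans (le_normalizer_fittingHallOf M)) ?_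
    rw [hQ.derived]
    intro s hs
    obtain ⟨a, ha, d, hd, rfl⟩ := hD₁.2.2.2 s hs
    exact mul_mem_sup (hQ.Q_le ha) hd

variable {K U : Subgroup G}

/-- `Q` is larger than `K*`. -/
theorem NonNilp.not_le_kStar {Q : Subgroup G} (h : Facts G) (hM : IsCoatom M)
    (hQ : NonNilp M K U Q) : ¬ Q ≤ kStar M K := by
  intro hle
  obtain ⟨D₁, hD₁, -⟩ := hQ.exists_invariant
  obtain ⟨-, -, -, hc, -⟩ := hQ.compl D₁ hD₁
  set q := Nat.card (kStar M K)
  have h1 : Nat.card Q ≤ q := Nat.le_of_dvd Nat.card_pos (card_dvd_of_le hle)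
  have h2 : q ^ 1 < q ^ Nat.card K :=
    Nat.pow_lt_pow_right hQ.q_prime.one_lt hQ.K_prime.one_lt
  rw [pow_one] at h2
  have h3 : q ^ Nat.card K ≤ Nat.card ↥(Q ⊓ centralizer (D₁ : Set G)) * q ^ Nat.card K :=
    Nat.le_mul_of_pos_left _ Nat.card_pos
  omega

/-- The centralizer of `M_F` lies in `M_σ` when `M_σ` is not nilpotent. -/
theorem centralizer_le_sigmaCore (h : Facts G) (hM : IsCoatom M) (D : IsSigmaDecomposition M K U)
    (hn : fittingHallOf M ≠ sigmaCore M) :
    M ⊓ centralizer (fittingHallOf M : Set G) ≤ sigmaCore M := by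
  have hG := h.minSimple
  obtain ⟨Q, hQ⟩ := nonNilp_structure h hM D hn
  intro x hx
  obtain ⟨y, z, rfl, hy, hz, hy', hz'⟩ := exists_pi_parts (sigma M) x
  have hyC := (zpowers_le.mpr hx) hy
  have hzC := (zpowers_le.mpr hx) hz
  refine mul_mem (mem_sigmaCore hG hM hyC.1 hy') ?_
  by_cases hz1 : z = 1
  · rw [hz1]
    exact one_mem _
  exfalso
  obtain ⟨m, hm, hmK⟩ := exists_conj_le_hallOf (solvable hG hM)
    (sigma'_of_compl hG hM (isComplIn_K D hQ.U_bot)) (zpowers_le.mpr hzC.1) (fun p hp hd => by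
      rw [Nat.card_zpowers] at hd
      exact ⟨hp, hz' p hp hd⟩)
  have hk : m * z * m⁻¹ ∈ K := hmK ⟨z, mem_zpowers _, rfl⟩
  refine hQ.not_le_kStar h hM fun a ha => ?_
  have hk1 : m * z * m⁻¹ ≠ 1 := fun e => hz1 (conj_eq_one_iff.mp e)
  refine ((h.primeAction M hM K D.hall hQ.K_ne).1 _ hk hk1).le
    ⟨fittingHallOf_le_sigmaCore hG hM (hQ.Q_le ha), mem_centralizer_singleton.mpr ?_⟩
  have e := mem_centralizer_iff.mp hzC.2 _ (hQ.Q_le (Coprime.conj_mem' (hQ.Q_norm hm) ha))
  calc a * (m * z * m⁻¹) = m * (m⁻¹ * a * m * z) * m⁻¹ := by group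
    _ = m * (z * (m⁻¹ * a * m)) * m⁻¹ := by rw [e]
    _ = m * z * m⁻¹ * a := by group

theorem fittingOf_le_sigmaCore (h : Facts G) (hM : IsCoatom M) (D : IsSigmaDecomposition M K U)
    (hn : fittingHallOf M ≠ sigmaCore M) : fittingOf M ≤ sigmaCore M :=
  (fittingOf_le_sup M).trans (sup_le (centralizer_le_sigmaCore h hM D hn)
    (fittingHallOf_le_sigmaCore h.minSimple hM))

/-- `C_M(M_σ)` is abelian, the product of `Z(M_σ)` and a cyclic `τ₂`-group. -/
theorem centralizer_sigmaCore (h : Facts G) (hM : IsCoatom M) :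
    IsMulCommutative ↥(M ⊓ centralizer (sigmaCore M : Set G)) ∧
      ∃ X : Subgroup G, X ≤ M ∧ (∀ p : ℕ, p.Prime → p ∣ Nat.card X → p ∈ tau2 M) ∧
        M ⊓ centralizer (sigmaCore M : Set G) ≤ sigmaCore M ⊔ X := by
  have hG := h.minSimple
  set S := sigmaCore M
  obtain ⟨X, hXc, hτ, e⟩ := centralizer_hall_eq h hM (H := S) le_rfl
    (BG10.sigmaCore_ne_bot hG hM) (by rw [relIndex_self]; exact Nat.coprime_one_right _)
  have hX : X ≤ M ⊓ centralizer (S : Set G) := le_sup_right.trans e.ge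
  refine ⟨?_, X, hX.trans inf_le_left, hτ, e.le.trans (sup_le_sup_right inf_le_left _)⟩
  have hXX : X ≤ centralizer (X : Set G) := fun a ha => mem_centralizer_iff.mpr fun b hb => by
    haveI := hXc
    letI := IsCyclic.commGroup (α := X)
    exact congrArg Subtype.val (mul_comm (⟨b, hb⟩ : X) ⟨a, ha⟩)
  have hle := sup_le_centralizer_sup (A := S ⊓ centralizer (S : Set G)) (B := X)
    (inf_le_right.trans (centralizer_le inf_le_left)) hXX
    ((hX.trans inf_le_right).trans (centralizer_le inf_le_left))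
  rw [e]
  exact PGroups.isMulCommutative_of_comm fun a ha b hb => mem_centralizer_iff.mp (hle hb) a ha

/-- S1356. -/
theorem fitting_structure (h : Facts G) (hM : IsCoatom M) :
    ⁅⁅M, M⁆, ⁅M, M⁆⁆ ≤ fittingOf M ∧
      fittingOf M = (M ⊓ centralizer (fittingHallOf M : Set G)) ⊔ fittingHallOf M ∧
      ((kappa M).Nonempty → fittingOf M ≤ ⁅M, M⁆) := by
  have hG := h.minSimple
  obtain ⟨K, U, D⟩ := exists_decomp h hM
  have hMM : M ≤ normalizer (⁅⁅M, M⁆, ⁅M, M⁆⁆ : Subgroup G) := by
    intro m hm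
    refine Coprime.mem_normalizer_of_map_conj ?_
    rw [map_commutator, map_commutator, Coprime.map_conj_eq (le_normalizer hm)]
  have hM2 : ⁅⁅M, M⁆, ⁅M, M⁆⁆ ≤ M :=
    (commutator_le_self _).trans (commutator_le_self M)
  have hCn : M ≤ normalizer ((M ⊓ centralizer (fittingHallOf M : Set G) : Subgroup G) : Set G) := by
    have key : ∀ m ∈ M, ∀ x ∈ M ⊓ centralizer (fittingHallOf M : Set G),
        m * x * m⁻¹ ∈ M ⊓ centralizer (fittingHallOf M : Set G) := by
      rintro m hm x ⟨hx, hxc⟩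
      refine ⟨M.mul_mem (M.mul_mem hm hx) (M.inv_mem hm), mem_centralizer_iff.mpr fun a ha => ?_⟩
      have e := mem_centralizer_iff.mp hxc _ (Coprime.conj_mem' (le_normalizer_fittingHallOf M hm) ha)
      calc a * (m * x * m⁻¹) = m * (m⁻¹ * a * m * x) * m⁻¹ := by group
        _ = m * (x * (m⁻¹ * a * m)) * m⁻¹ := by rw [e]
        _ = m * x * m⁻¹ * a := by group
    intro m hm
    refine mem_normalizer_iff.mpr fun x => ⟨key m hm x, fun hx => ?_⟩
    simpa [mul_assoc] using key m⁻¹ (inv_mem hm) _ hx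
  by_cases hn : fittingHallOf M = sigmaCore M
  · have hSnil : Group.IsNilpotent (sigmaCore M) := hn ▸ isNilpotent_fittingHallOf M
    obtain ⟨E, hE⟩ := exists_compl hG hM
    obtain ⟨hC, X, hXM, hτ, hCX⟩ := centralizer_sigmaCore h hM
    refine ⟨?_, le_antisymm (fittingOf_le_sup M) (sup_le ?_ (fittingHallOf_le_fittingOf M)),
      fun hκ => ?_⟩
    · refine le_trans (le_trans (commutator_mono (derived_le_compl hM hE) (derived_le_compl hM hE)) ?_)
        (le_fittingOf (sigmaCore_le M) (le_normalizer_sigmaCore M) hSnil)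
      have hEn : ⁅E, E⁆ ≤ normalizer (sigmaCore M : Set G) :=
        ((commutator_le_self E).trans hE.1).trans (le_normalizer_sigmaCore M)
      refine commutator_le_of_comm le_sup_left (sup_le le_normalizer hEn) le_sup_left le_sup_right
        (fun m hm => ?_) (fun w hw v hv => mul_mem (mul_mem (mul_mem hw hv) (inv_mem hw)) (inv_mem hv))
        (fun w hw a ha => ?_) (fun a ha b hb => ?_)
      · obtain ⟨n, hn, a, ha, e⟩ := (Coprime.mem_sup_iff hEn).mp hm
        exact ⟨n, hn, a, ha, e.symm⟩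
      · rw [show w * a * w⁻¹ * a⁻¹ = w * (a * w⁻¹ * a⁻¹) by group]
        exact mul_mem hw (Coprime.conj_mem (hEn ha) (inv_mem hw))
      · rw [PGroups.comm_of_isMulCommutative (h.complAbelian M hM E hE).2.1 ha hb,
          mul_inv_cancel_right, mul_inv_cancel]
        exact one_mem _
    · refine le_fittingOf inf_le_left hCn ?_
      rw [hn]
      exact isNilpotent_of_comm hC
    · refine (fittingOf_le_sup M).trans (sup_le ?_
        ((fittingHallOf_le_sigmaCore hG hM).trans (sigmaCore_le_derived h hM)))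
      rw [hn]
      refine hCX.trans (sup_le (sigmaCore_le_derived h hM) fun x hx => ?_)
      have hK1 := (kappa_nonempty D).mp hκ
      refine mem_of_normal_hall (normalizer_commutator_ge_left M M) (hXM hx) ?_
      rw [derived_eq h hM D hK1]
      have hc : (U ⊔ sigmaCore M).relIndex M = Nat.card K := by
        refine relIndex_eq_of_card (sup_le (decomp_le D).2 (sigmaCore_le M)) ?_
        rw [card_sup_of_normalizes ((decomp_le D).2.trans (le_normalizer_sigmaCore M))
          ((coprime_UK_sigmaCore hG hM D).coprime_dvd_left (dvd_mul_right _ _)), card_decomp D]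
        ring
      rw [hc]
      exact Nat.coprime_of_dvd fun p hp hd hd' =>
        not_tau2_of_kappa (kappa_of_dvd_K D hp hd') (hτ p hp (hd.trans (orderOf_dvd_card hx)))
  · obtain ⟨Q, hQ⟩ := nonNilp_structure h hM D hn
    obtain ⟨D₁, hD₁, -⟩ := hQ.exists_invariant
    have hS : sigmaCore M ≤ M := sigmaCore_le M
    have hQS : Q ≤ sigmaCore M := hQ.Q_le.trans (fittingHallOf_le_sigmaCore hG hM)
    have hD'M : ⁅D₁, D₁⁆ ≤ M := (commutator_le_self D₁).trans (hD₁.2.1.trans hS)
    haveI := Fact.mk hQ.q_prime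
    have hnil : Group.IsNilpotent ↥(Q ⊔ ⁅D₁, D₁⁆) := by
      refine isNilpotent_sup ?_ (hD'M.trans hQ.Q_norm) hQ.Q_p.isNilpotent
        (isNilpotent_of_le (commutator_le_self D₁) (hQ.compl D₁ hD₁).1)
      intro a ha
      refine Coprime.mem_normalizer_of_map_conj ?_
      ext x
      rw [Coprime.mem_map_conj]
      have hfix : ∀ y ∈ ⁅D₁, D₁⁆, a * y = y * a := fun y hy =>
        mem_centralizer_iff.mp ((hQ.compl_fix D₁ hD₁).1 hy) a ha
      constructor
      · intro hx
        have e := hfix _ hx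
        rw [show x = a * (a⁻¹ * x * a) * a⁻¹ by group, e, mul_inv_cancel_right]
        exact hx
      · intro hx
        rwa [mul_assoc, ← hfix x hx, inv_mul_cancel_left]
    have hSd : ⁅sigmaCore M, sigmaCore M⁆ ≤ Q ⊔ ⁅D₁, D₁⁆ := by
      have hle : Q ⊔ ⁅D₁, D₁⁆ ≤ sigmaCore M :=
        sup_le hQS ((commutator_le_self D₁).trans hD₁.2.1)
      have hD₁n : D₁ ≤ normalizer ((Q ⊔ ⁅D₁, D₁⁆ : Subgroup G) : Set G) := fun d hd => by
        refine Coprime.mem_normalizer_of_map_conj ?_
        rw [Subgroup.map_sup, Coprime.map_conj_eq (hQ.Q_norm (hS (hD₁.2.1 hd))),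
          Coprime.map_conj_eq (normalizer_commutator_ge_left D₁ D₁ hd)]
      refine commutator_le_of_comm hle (fun s hs => ?_) hQS hD₁.2.1 hD₁.2.2.2
        (fun w hw v hv => mem_sup_left (mul_mem (mul_mem (mul_mem hw hv) (inv_mem hw)) (inv_mem hv)))
        (fun w hw a ha => mem_sup_left ?_) (fun a ha b hb => mem_sup_right ?_)
      · obtain ⟨a, ha, d, hd, rfl⟩ := hD₁.2.2.2 s hs
        exact mul_mem (le_normalizer (mem_sup_left ha)) (hD₁n hd)
      · rw [show w * a * w⁻¹ * a⁻¹ = w * (a * w⁻¹ * a⁻¹) by group]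
        exact mul_mem hw (Coprime.conj_mem (hQ.Q_norm (hS (hD₁.2.1 ha))) (inv_mem hw))
      · simpa [commutatorElement_def] using commutator_mem_commutator ha hb
    refine ⟨?_, le_antisymm (fittingOf_le_sup M) (sup_le ?_ (fittingHallOf_le_fittingOf M)),
      fun _ => hQ.derived ▸ fittingOf_le_sigmaCore h hM D hn⟩
    · refine le_fittingOf hM2 hMM (isNilpotent_of_le ?_ hnil)
      rw [hQ.derived]
      exact hSd
    · refine le_fittingOf inf_le_left hCn ?_
      have hCS := centralizer_le_sigmaCore h hM D hn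
      haveI := normal_subgroupOf_of_le_normalizer hQ.Q_norm
      set f := QuotientGroup.mk' (Q.subgroupOf M)
      set C := M ⊓ centralizer (fittingHallOf M : Set G)
      haveI : Group.IsNilpotent ((D₁.subgroupOf M).map f) := by
        haveI : Group.IsNilpotent (D₁.subgroupOf M) :=
          haveI := (hQ.compl D₁ hD₁).1
          Group.nilpotent_of_mulEquiv (subgroupOfEquivOfLe (hD₁.2.1.trans hS)).symm
        exact Group.nilpotent_of_surjective _ (f.subgroupMap_surjective _)
      have hmem : ∀ c : C, f ⟨c, c.2.1⟩ ∈ (D₁.subgroupOf M).map f := fun c => by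
        obtain ⟨a, ha, d, hd, e⟩ := hD₁.2.2.2 c (hCS c.2)
        refine ⟨⟨d, hS (hD₁.2.1 hd)⟩, hd, ?_⟩
        rw [show (⟨(c : G), c.2.1⟩ : M) = ⟨a, hS (hQS ha)⟩ * ⟨d, hS (hD₁.2.1 hd)⟩ from Subtype.ext e,
          map_mul, show f ⟨a, hS (hQS ha)⟩ = 1 from (QuotientGroup.eq_one_iff _).mpr ha, one_mul]
      let g : C →* (D₁.subgroupOf M).map f :=
        { toFun := fun c => ⟨f ⟨c, c.2.1⟩, hmem c⟩
          map_one' := Subtype.ext (map_one f)
          map_mul' := fun a b => Subtype.ext (map_mul f ⟨a, a.2.1⟩ ⟨b, b.2.1⟩) }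
      refine Subgroup.isNilpotent_of_ker_le_center g fun c hc => ?_
      have hcQ : (c : G) ∈ Q :=
        (QuotientGroup.eq_one_iff (N := Q.subgroupOf M) _).mp (congrArg Subtype.val hc)
      exact Subgroup.mem_center_iff.mpr fun b =>
        Subtype.ext (mem_centralizer_iff.mp b.2.2 c (hQ.Q_le hcQ)).symm

end Cfsg.Agent.OddOrder.BG15
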