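import Cfsg.Agent.OddOrder.BG15.Fmain

/-!
# `F(M)` is TI for non-nilpotent `M_σ` (S1357); fusion in nilpotent Hall subgroups of `G` (S1384)
-/

set_option autoImplicit false
set_option linter.style.haveILetI false
set_option linter.unusedVariables false

universe u

namespace Cfsg.Agent.OddOrder.BG15

open Subgroup H40

variable {G : Type u} [Group G] [Finite G] {M K U : Subgroup G}

theorem fittingOf_ne_bot (h : Facts G) (hM : IsCoatom M) : fittingOf M ≠ ⊥ := fun e =>
  fittingHallOf_ne_bot h hM (le_bot_iff.mp ((fittingHallOf_le_fittingOf M).trans e.le))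

theorem normalizer_fittingOf (h : Facts G) (hM : IsCoatom M) :
    normalizer (fittingOf M : Set G) = M :=
  BG11.normalizer_eq_coatom h.minSimple hM (fittingOf_le M) (fittingOf_ne_bot h hM)
    (le_normalizer_fittingOf M)

theorem ne_top_of_solvable (hG : IsMinSimpleOddOrder G) {X : Subgroup G} (hX : Group.IsSolvable X) :
    X ≠ ⊤ := by
  rintro rfl
  haveI := hX
  haveI := hG.2.1
  haveI : Group.IsSolvable G :=
    Group.isSolvable_of_isSolvable_injective
      (f := (Subgroup.topEquiv (G := G)).symm.toMonoidHom) (Subgroup.topEquiv (G := G)).symm.injective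
  exact hG.2.2.1 ⟨⟨IsSimpleGroup.comm_iff_isSolvable.mpr inferInstance⟩⟩

theorem centralizer_singleton_ne_top (hG : IsMinSimpleOddOrder G) {x : G} (hx : x ≠ 1) :
    centralizer ({x} : Set G) ≠ ⊤ := by
  rw [← centralizer_zpowers]
  exact BG11.centralizer_ne_top hG (zpowers_ne_bot.mpr hx)
    (ne_top_of_solvable hG (Coprime.isSolvable_zpowers x))

/-- The centralizers of the elements of prime order of `F(M)` belong to `M` alone. -/
theorem fitting_centralizer_unique (h : Facts G) (hM : IsCoatom M)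
    (D : IsSigmaDecomposition M K U) (hne : fittingHallOf M ≠ sigmaCore M) {x : G}
    (hx : x ∈ fittingOf M) {r : ℕ} (hr : r.Prime) (hxr : orderOf x = r) :
    centralizer ({x} : Set G) ≤ M ∧ ∀ L : Subgroup G, IsCoatom L →
      centralizer ({x} : Set G) ≤ L → L = M := by
  have hG := h.minSimple
  obtain ⟨Q, hQ⟩ := nonNilp_structure h hM D hne
  set q := Nat.card (kStar M K)
  haveI := Fact.mk hQ.q_prime
  haveI := Fact.mk hr
  have hxS : x ∈ sigmaCore M := fittingOf_le_sigmaCore h hM D hne hx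
  have hQS : Q ≤ sigmaCore M := hQ.Q_le.trans (fittingHallOf_le_sigmaCore hG hM)
  obtain ⟨P⟩ : Nonempty (Sylow q ↥(sigmaCore M)) := inferInstance
  by_cases hrq : r = q
  · subst hrq
    obtain ⟨⟨h1, h2⟩, -⟩ := h.betaUnique M hM q ((hallσ hG hM).2.1 q hr
      (hxr ▸ orderOf_dvd_card hxS)) (zpowers x) (zpowers_le.mpr (sigmaCore_le M hxS))
      ((Nat.card_zpowers x).trans hxr) P (Or.inl hQ.q_beta)
    rw [centralizer_zpowers] at h1 h2
    exact ⟨h1, h2⟩
  · have hKs : kStar M K ≤ sigmaCore M := inf_le_left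
    obtain ⟨-, hU, -⟩ := h.betaUnique M hM q ((hallσ hG hM).2.1 q hQ.q_prime (card_dvd_of_le hKs))
      (kStar M K) (hKs.trans (sigmaCore_le M)) rfl P (Or.inl hQ.q_beta)
    set T := (P : Subgroup ↥(sigmaCore M)).map (sigmaCore M).subtype
    have hT : IsSylowOf q T (sigmaCore M) := isSylowOf_map P
    have hTQ : T = Q := by
      refine Subgroup.eq_of_le_of_card_ge (fun a ha => ?_)
        (by rw [card_pow_factorization hQ.q_prime hQS hQ.Q_p hQ.Q_hall, hT.2.2])
      refine mem_of_normal_hall ((sigmaCore_le M).trans hQ.Q_norm) (hT.1 ha) ?_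
      obtain ⟨j, hj⟩ := IsPGroup.iff_card.mp hT.2.1
      exact (((hQ.q_prime.coprime_iff_not_dvd).mpr hQ.Q_hall).pow_left j).coprime_dvd_left
        (hj ▸ orderOf_dvd_card ha)
    rw [hTQ] at hU
    have hQc : Q ≤ centralizer ({x} : Set G) := by
      rw [← centralizer_zpowers]
      refine le_centralizer_of_nilpotent (isNilpotent_fittingOf M)
        (hQ.Q_le.trans (fittingHallOf_le_fittingOf M)) (zpowers_le.mpr hx) ?_
      obtain ⟨j, hj⟩ := IsPGroup.iff_card.mp hQ.Q_p
      rw [Nat.card_zpowers, hxr, hj]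
      exact ((Nat.coprime_primes hQ.q_prime hr).mpr (Ne.symm hrq)).pow_left j
    have huniq : ∀ L : Subgroup G, IsCoatom L → centralizer ({x} : Set G) ≤ L → L = M := by
      intro L hL hle
      obtain ⟨L₀, -, hL₀⟩ := hU
      exact (hL₀ L ⟨hL, hQc.trans hle⟩).trans
        (hL₀ M ⟨hM, hQS.trans (sigmaCore_le M)⟩).symm
    obtain ⟨L, hL, hle⟩ :=
      BG11.exists_coatom_ge (centralizer_singleton_ne_top hG (ne_one_of_prime_orderOf hr hxr))
    exact ⟨huniq L hL hle ▸ hle, huniq⟩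

/-- S1357. -/
theorem fitting_ti (h : Facts G) (hM : IsCoatom M) (D : IsSigmaDecomposition M K U)
    (hne : fittingHallOf M ≠ sigmaCore M) :
    U = ⊥ ∧ IsTISubset (fittingOf M : Set G) ∧ (Nat.card K).Prime := by
  obtain ⟨Q, hQ⟩ := nonNilp_structure h hM D hne
  refine ⟨hQ.U_bot, fun g hg a ha hga => ?_, hQ.K_prime⟩
  rw [normalizer_fittingOf h hM] at hg
  by_contra ha1
  obtain ⟨r, hr, hrd⟩ := prime_dvd_of_orderOf ha1
  obtain ⟨x, hxa, hxo⟩ := exists_pow_prime hr hrd
  have hx : x ∈ fittingOf M := (zpowers_le.mpr ha) hxa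
  have hy : g * x * g⁻¹ ∈ fittingOf M := by
    obtain ⟨i, rfl⟩ := mem_zpowers_iff.mp hxa
    rw [← conj_zpow]
    exact zpow_mem hga i
  have hyo : orderOf (g * x * g⁻¹) = r := (orderOf_injective (MulAut.conj g).toMonoidHom
    (MulAut.conj g).injective x).trans hxo
  obtain ⟨hx1, -⟩ := fitting_centralizer_unique h hM D hne hx hr hxo
  obtain ⟨-, hy2⟩ := fitting_centralizer_unique h hM D hne hy hr hyo
  refine hg ?_
  rw [← BG11.normalizer_coatom h.minSimple hM]
  refine Coprime.mem_normalizer_of_map_conj ?_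
  refine hy2 _ (BG11.coatom_cj hM g) fun c hc => ?_
  refine ⟨g⁻¹ * c * g, hx1 (mem_centralizer_singleton.mpr ?_), by simp [mul_assoc]⟩
  have e := mem_centralizer_singleton.mp hc
  calc g⁻¹ * c * g * x = g⁻¹ * (c * (g * x * g⁻¹)) * g := by group
    _ = g⁻¹ * (g * x * g⁻¹ * c) * g := by rw [e]
    _ = x * (g⁻¹ * c * g) := by group

/-- S1384. -/
theorem nilpotent_hall_fusion (h : Facts G) {H : Subgroup G} (hHn : Group.IsNilpotent H)
    (hHall : (Nat.card H).Coprime H.index) :
    ∀ x ∈ H, ∀ g : G, g * x * g⁻¹ ∈ H →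
      ∃ n ∈ normalizer (H : Set G), n * x * n⁻¹ = g * x * g⁻¹ := by
  have hG := h.minSimple
  intro x hx g hy
  by_cases hH1 : H = ⊥
  · subst hH1
    rw [mem_bot] at hx
    exact ⟨1, one_mem _, by simp [hx]⟩
  obtain ⟨p, hp, hpd⟩ := Nat.exists_prime_and_dvd (show Nat.card H ≠ 1 from
    fun e => hH1 (card_eq_one.mp e))
  haveI := Fact.mk hp
  have hpart : ∀ r : ℕ, r.Prime → r ∣ Nat.card H → IsPGroup r (piCoreOf {r} H) ∧
      piCoreOf {r} H ≠ ⊥ ∧ IsSylowOf r (piCoreOf {r} H) ⊤ := by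
    intro r hr hrd
    haveI := Fact.mk hr
    obtain ⟨y, hy⟩ := exists_prime_orderOf_dvd_card' r hrd
    rw [← orderOf_coe] at hy
    have hp' := isPGroup_piCoreOf hr H
    have hmem : ∀ z ∈ H, ∀ n, orderOf z ∣ r ^ n → z ∈ piCoreOf {r} H := fun z hz n hn =>
      mem_piCoreOf_of_nilpotent hHn hz fun q hq hqd =>
        (Nat.prime_dvd_prime_iff_eq hq hr).mp (hq.dvd_of_dvd_pow (hqd.trans hn))
    have hne : piCoreOf {r} H ≠ ⊥ := fun e => by
      have h1 := hmem y y.2 1 (by rw [hy, pow_one])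
      rw [e, mem_bot] at h1
      exact ne_one_of_prime_orderOf hr hy h1
    refine ⟨hp', hne, ?_⟩
    obtain ⟨T, hT, hle⟩ := BG11.exists_sylowOf_ge' hp' (le_top (a := piCoreOf {r} H))
    obtain ⟨P⟩ : Nonempty (Sylow r H) := inferInstance
    have hc : Nat.card (P : Subgroup H) = r ^ (Nat.card H).factorization r := P.card_eq_multiplicity
    have hPle : (P : Subgroup H).map H.subtype ≤ piCoreOf {r} H := fun z hz => by
      obtain ⟨j, hj⟩ := IsPGroup.iff_card.mp (P.isPGroup'.map H.subtype)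
      exact hmem z (map_subtype_le _ hz) j (hj ▸ orderOf_dvd_card hz)
    have h1 : (Nat.card H).factorization r = (Nat.card G).factorization r := by
      rw [← H.card_mul_index, Nat.factorization_mul Nat.card_pos.ne' H.index_ne_zero_of_finite,
        Finsupp.add_apply, Nat.factorization_eq_zero_of_not_dvd fun hd =>
          hr.ne_one (Nat.eq_one_of_dvd_coprimes hHall hrd hd), add_zero]
    rwa [Subgroup.eq_of_le_of_card_ge hle ?_]
    rw [hT.2.2, card_top, ← h1, ← hc, ← card_map_of_injective H.subtype_injective]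
    exact Nat.le_of_dvd Nat.card_pos (card_dvd_of_le hPle)
  obtain ⟨hPp, hP1, hPS⟩ := hpart p hp hpd
  set P := piCoreOf {p} H
  have hPH : P ≤ H := piCoreOf_le _ _
  have hPtop : P ≠ ⊤ := ne_top_of_solvable hG (solvable_of_isPGroup hPp)
  obtain ⟨M, hM, hNM⟩ := BG11.exists_coatom_ge (BG11.normalizer_ne_top' hG hP1 hPtop)
  have hHN : H ≤ normalizer (P : Set G) := le_normalizer_piCoreOf' le_normalizer
  have hPM : P ≤ M := le_normalizer.trans hNM
  have hpM : IsSylowOf p P M :=
    ⟨hPM, hPp, le_antisymm (Nat.le_of_dvd (pow_pos hp.pos _) (by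
      obtain ⟨j, hj⟩ := IsPGroup.iff_card.mp hPp
      have := card_dvd_of_le hPM
      rw [hj] at this ⊢
      exact pow_dvd_pow p ((hp.pow_dvd_iff_le_factorization Nat.card_pos.ne').mp this))) (by
      rw [hPS.2.2, card_top]
      exact Nat.pow_le_pow_right hp.pos ((Nat.factorization_le_iff_dvd Nat.card_pos.ne'
        Nat.card_pos.ne').mpr (card_subgroup_dvd_card M) p))⟩
  have hσp : p ∈ sigma M := by
    obtain ⟨S, hS⟩ := BG11.exists_sylow_eq hpM
    exact ⟨hp, hpd.trans (card_dvd_of_le (hHN.trans hNM)), S, hS ▸ hNM⟩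
  have hPσ : P ≤ sigmaCore M := le_sigmaCore_of_piNumber hG hM hPM fun q hq hd =>
    (Nat.prime_dvd_prime_iff_eq hq hp).mp (by
      obtain ⟨j, hj⟩ := IsPGroup.iff_card.mp hPp
      exact hq.dvd_of_dvd_pow (hj ▸ hd)) ▸ hσp
  have hPhall : (Nat.card P).Coprime (P.relIndex (sigmaCore M)) := by
    obtain ⟨j, hj⟩ := IsPGroup.iff_card.mp hPp
    rw [hj]
    refine Nat.Coprime.pow_left _ (hp.coprime_iff_not_dvd.mpr fun hd => ?_)
    have e := relIndex_mul_relIndex (⊥ : Subgroup G) P (sigmaCore M) bot_le hPσ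
    rw [relIndex_bot_left, relIndex_bot_left, hpM.2.2] at e
    have h1 : p ^ ((Nat.card M).factorization p + 1) ∣ Nat.card M := by
      refine dvd_trans ?_ (card_dvd_of_le (sigmaCore_le M))
      rw [← e, pow_succ]
      exact mul_dvd_mul_left _ hd
    exact Nat.pow_succ_factorization_not_dvd Nat.card_pos.ne' hp h1
  have hHM : H ≤ M := hHN.trans hNM
  have hHσ : H ≤ sigmaCore M := by
    refine le_sigmaCore_of_piNumber hG hM hHM fun r hr hrd => ?_
    by_contra hrσ
    haveI := Fact.mk hr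
    obtain ⟨hRp, hR1, hRS⟩ := hpart r hr hrd
    set R := piCoreOf {r} H
    have hRH : R ≤ H := piCoreOf_le _ _
    obtain ⟨a, ha⟩ := IsPGroup.iff_card.mp hRp
    obtain ⟨b, hb⟩ := IsPGroup.iff_card.mp hPp
    have hrp : r ≠ p := fun e => hrσ (e ▸ hσp)
    have hRc : R ≤ centralizer (P : Set G) := le_centralizer_of_nilpotent hHn hRH hPH (by
      rw [ha, hb]
      exact Nat.Coprime.pow _ _ ((Nat.coprime_primes hr hp).mpr hrp))
    obtain ⟨hc, hτ⟩ := sigma'_centralizer_hall h hM hPσ hP1 hPhall (hRH.trans hHM) hRc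
      (fun q hq hd => (Nat.prime_dvd_prime_iff_eq hq hr).mp (hq.dvd_of_dvd_pow (ha ▸ hd)) ▸ hrσ)
    have hrR : r ∣ Nat.card R := by
      rw [ha]
      exact dvd_pow_self r fun e => hR1 (card_eq_one.mp (by rw [ha, e, pow_zero]))
    refine (hτ r hr hrR).2.2.2 (pRankLE_one_of_cyclic fun S => ?_)
    have hS : (Nat.card (S : Subgroup M)) ≤ Nat.card R := by
      rw [S.card_eq_multiplicity, hRS.2.2, card_top]
      exact Nat.pow_le_pow_right hr.pos ((Nat.factorization_le_iff_dvd Nat.card_pos.ne'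
        Nat.card_pos.ne').mpr (card_subgroup_dvd_card M) r)
    obtain ⟨S', hS'⟩ := (hRp.comap_subtype (K := M)).exists_le_sylow
    have hR' : R.subgroupOf M = (S' : Subgroup M) := by
      refine Subgroup.eq_of_le_of_card_ge hS' ?_
      rw [Nat.card_congr (subgroupOfEquivOfLe (hRH.trans hHM)).toEquiv, ← Nat.card_congr
        (S.equiv S').toEquiv]
      exact hS
    haveI := hc
    haveI : IsCyclic (S' : Subgroup M) :=
      hR' ▸ (subgroupOfEquivOfLe (hRH.trans hHM)).isCyclic.mpr hc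
    exact (S'.equiv S).isCyclic.mp inferInstance
  obtain ⟨n, hn, e⟩ := hall_fusion h hM hHσ (hHall.coprime_dvd_right
    (relIndex_mul_index hHσ ▸ dvd_mul_right _ _)) x hx g hy
  exact ⟨n, hn.2, e⟩

end Cfsg.Agent.OddOrder.BG15
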