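import Cfsg.Agent.OddOrder.BG15.Fcore

/-!
# Hall subgroups of `M_σ`: centralizers and fusion (S1438), nilpotent Hall subgroups of `G` (S1384)
-/

set_option autoImplicit false
set_option linter.style.haveILetI false
set_option linter.unusedVariables false

universe u

namespace Cfsg.Agent.OddOrder.BG15

open Subgroup H40
open scoped commutatorElement

variable {G : Type u} [Group G] [Finite G]

theorem pRankLE_one_of_cyclic {p : ℕ} [Fact p.Prime] {M : Type*} [Group M] [Finite M]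
    (hc : ∀ P : Sylow p M, IsCyclic P) : PRankLE p 1 M := by
  intro A hA hAp
  have hAP : IsPGroup p A := fun a =>
    ⟨1, Subtype.ext (by rw [SubgroupClass.coe_pow, pow_one]; exact hAp a a.2)⟩
  obtain ⟨P, hP⟩ := hAP.exists_le_sylow
  haveI := hc P
  haveI : IsCyclic A :=
    isCyclic_of_injective (Subgroup.inclusion hP) (Subgroup.inclusion_injective hP)
  obtain ⟨g, hg⟩ := IsCyclic.exists_generator (α := A)
  rw [← orderOf_eq_card_of_forall_mem_zpowers hg, pow_one]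
  exact Nat.le_of_dvd (Fact.out : p.Prime).pos
    (orderOf_dvd_of_pow_eq_one (Subtype.ext (hAp g g.2)))

theorem not_tau2_of_kappa {M : Subgroup G} {p : ℕ} (hk : p ∈ kappa M) : p ∉ tau2 M := fun ht => by
  haveI := Fact.mk hk.1
  exact ht.2.2.2 (pRankLE_one_of_cyclic fun P => (hk.2.2.2 P).1)

/-- The `π(H)`-Hall property of a Hall subgroup. -/
theorem isPiHallOf_of_coprime {H S : Subgroup G} (hH : H ≤ S)
    (hHall : (Nat.card H).Coprime (H.relIndex S)) :
    IsPiHallOf {p | p ∣ Nat.card H} H S :=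
  ⟨hH, fun p hp hd => hd, fun p hp hd hd' => hp.ne_one (Nat.eq_one_of_dvd_coprimes hHall hd hd')⟩

/-- A Hall subgroup of a nilpotent group is the `π`-core. -/
theorem hall_eq_piCoreOf {H N : Subgroup G} (hN : Group.IsNilpotent N) (hH : H ≤ N)
    (hHall : (Nat.card H).Coprime (H.relIndex N)) :
    piCoreOf {p | p ∣ Nat.card H} N = H := by
  refine (Subgroup.eq_of_le_of_card_ge (fun x hx => mem_piCoreOf_of_nilpotent hN (hH hx)
    fun q hq hd => hd.trans (orderOf_dvd_card hx)) ?_).symm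
  refine Nat.le_of_dvd Nat.card_pos ?_
  have h2 : Nat.card (piCoreOf {p | p ∣ Nat.card H} N) ∣ Nat.card H * H.relIndex N := by
    have e := relIndex_mul_relIndex (⊥ : Subgroup G) H N bot_le hH
    rw [relIndex_bot_left, relIndex_bot_left] at e
    rw [e]
    exact card_dvd_of_le (map_subtype_le _)
  refine (Nat.coprime_of_dvd fun p hp hd hd' => ?_).dvd_of_dvd_mul_right h2
  exact hp.ne_one (Nat.eq_one_of_dvd_coprimes hHall (piCoreOf_isPiNumber _ _ p hp hd) hd')

theorem le_normalizer_hall_of_nilpotent {H N X : Subgroup G} (hN : Group.IsNilpotent N) (hH : H ≤ N)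
    (hHall : (Nat.card H).Coprime (H.relIndex N)) (hX : X ≤ normalizer (N : Set G)) :
    X ≤ normalizer (H : Set G) :=
  hall_eq_piCoreOf hN hH hHall ▸ le_normalizer_piCoreOf' hX

variable {M : Subgroup G}

/-- The `σ'`-elements of `M` centralising a Hall subgroup of `M_σ` form cyclic `τ₂`-groups. -/
theorem sigma'_centralizer_hall (h : Facts G) (hM : IsCoatom M) {H : Subgroup G}
    (hH : H ≤ sigmaCore M) (hH1 : H ≠ ⊥) (hHall : (Nat.card H).Coprime (H.relIndex (sigmaCore M)))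
    {X : Subgroup G} (hXM : X ≤ M) (hXc : X ≤ centralizer (H : Set G))
    (hXσ : ∀ p : ℕ, p.Prime → p ∣ Nat.card X → p ∉ sigma M) :
    IsCyclic X ∧ ∀ p : ℕ, p.Prime → p ∣ Nat.card X → p ∈ tau2 M := by
  have hG := h.minSimple
  obtain ⟨K, U, D⟩ := exists_decomp h hM
  obtain ⟨s, hs, hs1⟩ := H41.exists_ne_one hH1
  have hxs : ∀ x ∈ X, x * s = s * x := fun x hx => (mem_centralizer_iff.mp (hXc hx) s hs).symm
  have hτ : ∀ p : ℕ, p.Prime → p ∣ Nat.card X → p ∈ tau2 M := by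
    intro r hr hrd
    haveI := Fact.mk hr
    obtain ⟨x, hx⟩ := exists_prime_orderOf_dvd_card' r hrd
    rw [← orderOf_coe] at hx
    have hx1 := ne_one_of_prime_orderOf hr hx
    have hxσ : ∀ p : ℕ, p.Prime → p ∣ orderOf (x : G) → p ∉ sigma M := fun p hp hd =>
      hXσ p hp (hd.trans (orderOf_dvd_card x.2))
    rcases sigma'_cases h hM (hXM x.2) hx1 hxσ (hH hs) hs1 (hxs x x.2) with ⟨hk, -⟩ | ⟨ht, -, -⟩
    swap
    · exact ht r hr (hx.symm.dvd)
    exfalso
    have hrk : r ∈ kappa M := hk r hr hx.symm.dvd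
    have hK1 : K ≠ ⊥ := (kappa_nonempty D).mp ⟨r, hrk⟩
    obtain ⟨m, hm, hmK⟩ := exists_conj_le_hallOf (solvable hG hM) D.hall
      (zpowers_le.mpr (hXM x.2)) (fun p hp hd => by
        rw [Nat.card_zpowers, hx] at hd
        exact (Nat.prime_dvd_prime_iff_eq hp hr).mp hd ▸ hrk)
    set k := m * (x : G) * m⁻¹
    have hkK : k ∈ K := hmK ⟨x, mem_zpowers _, rfl⟩
    have hk1 : k ≠ 1 := fun e => hx1 (conj_eq_one_iff.mp e)
    have hHk : cj m H ≤ kStar M K := by
      rintro _ ⟨y, hy, rfl⟩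
      refine ((h.primeAction M hM K D.hall hK1).1 k hkK hk1).le ⟨Coprime.conj_mem
        (le_normalizer_sigmaCore M hm) (hH hy), mem_centralizer_singleton.mpr ?_⟩
      show m * y * m⁻¹ * (m * x * m⁻¹) = m * x * m⁻¹ * (m * y * m⁻¹)
      have e := mem_centralizer_iff.mp (hXc x.2) y hy
      calc m * y * m⁻¹ * (m * x * m⁻¹) = m * (y * x) * m⁻¹ := by group
        _ = m * (x * y) * m⁻¹ := by rw [e]
        _ = _ := by group
    obtain ⟨p, hp, hpd⟩ := Nat.exists_prime_and_dvd (show Nat.card H ≠ 1 from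
      fun e => hH1 (card_eq_one.mp e))
    haveI := Fact.mk hp
    obtain ⟨P⟩ : Nonempty (Sylow p H) := inferInstance
    have hT : IsSylowOf p ((P : Subgroup H).map H.subtype) (sigmaCore M) :=
      isSylowOf_of_hall (isPiHallOf_of_coprime hH hHall) hp hpd (isSylowOf_map P)
    set T := (P : Subgroup H).map H.subtype
    have hT' : IsSylowOf p (cj m T) (sigmaCore M) := by
      refine ⟨?_, hT.2.1.map _, (Coprime.card_map_conj m T).trans hT.2.2⟩
      rintro _ ⟨y, hy, rfl⟩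
      exact Coprime.conj_mem (le_normalizer_sigmaCore M hm) (hT.1 hy)
    obtain ⟨S', hS'⟩ := BG11.exists_sylow_eq hT'
    have hle : cj m T ≤ kStar M K := (Subgroup.map_mono (map_subtype_le _)).trans hHk
    have hpK : p ∣ Nat.card (kStar M K) := by
      refine (hpd.trans ?_).trans (card_dvd_of_le hHk)
      exact (Coprime.card_map_conj m H).symm.dvd
    exact ((h.starSylow M hM K D.hall hK1).2.2.1 p hp hpK S').2.2 (hS' ▸ hle)
  have hne : sigmaCore M ⊓ centralizer (X : Set G) ≠ ⊥ :=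
    inf_centralizer_ne_bot_iff.mpr ⟨s, hH hs, hs1, hxs⟩
  refine ⟨isCyclic_tau2 h hM hXM ?_ hτ hne, hτ⟩
  by_cases hK : K = ⊥
  · obtain ⟨E, hE, hXE⟩ := exists_compl_ge hG hM hXM hXσ
    obtain ⟨⟨A₀, -, -, hA₀c, hA₀⟩, -⟩ :=
      h.complExponent M hM E hE (compl_hyp h hM hE (kappa_eq_empty D hK))
    refine PGroups.isMulCommutative_of_comm fun a ha b hb => ?_
    exact PGroups.comm_of_isMulCommutative hA₀c
      (hA₀ s (hH hs) hs1 ⟨hXE ha, mem_centralizer_singleton.mpr (hxs a ha)⟩)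
      (hA₀ s (hH hs) hs1 ⟨hXE hb, mem_centralizer_singleton.mpr (hxs b hb)⟩)
  · obtain ⟨m, hm, hmU⟩ := exists_conj_le_hallOf (solvable hG hM) (U_hall hG hM D) hXM
      (fun p hp hd => ⟨hp, fun hk => not_tau2_of_kappa hk (hτ p hp hd), hXσ p hp hd⟩)
    refine PGroups.isMulCommutative_of_comm fun a ha b hb => ?_
    have e := PGroups.comm_of_isMulCommutative (U_comm h hM D hK) (hmU ⟨a, ha, rfl⟩)
      (hmU ⟨b, hb, rfl⟩)
    rw [← map_mul, ← map_mul] at e
    exact (MulAut.conj m).injective e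

/-- S1438, first part. -/
theorem centralizer_hall_eq (h : Facts G) (hM : IsCoatom M) {H : Subgroup G}
    (hH : H ≤ sigmaCore M) (hH1 : H ≠ ⊥)
    (hHall : (Nat.card H).Coprime (H.relIndex (sigmaCore M))) :
    ∃ X : Subgroup G, IsCyclic X ∧ (∀ p : ℕ, p.Prime → p ∣ Nat.card X → p ∈ tau2 M) ∧
      M ⊓ centralizer (H : Set G) = (sigmaCore M ⊓ centralizer (H : Set G)) ⊔ X := by
  have hG := h.minSimple
  set CH := M ⊓ centralizer (H : Set G)
  have hsol : Group.IsSolvable CH := Coprime.isSolvable_of_le inf_le_left (solvable hG hM)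
  obtain ⟨X, hX, -⟩ := Coprime.exists_invariant_hall (A := (⊥ : Subgroup G)) (K := CH) bot_le
    (by rw [card_bot]; exact Nat.coprime_one_left _) hsol (sigma' M)
  obtain ⟨hXC, hXπ, hXi⟩ := hX
  obtain ⟨hc, hτ⟩ := sigma'_centralizer_hall h hM hH hH1 hHall (hXC.trans inf_le_left)
    (hXC.trans inf_le_right) fun p hp hd => (hXπ p hp hd).2
  refine ⟨X, hc, hτ, le_antisymm ?_ (sup_le (inf_le_inf_right _ (sigmaCore_le M)) hXC)⟩
  set N := sigmaCore M ⊓ centralizer (H : Set G)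
  have hle : N ⊔ X ≤ CH := sup_le (inf_le_inf_right _ (sigmaCore_le M)) hXC
  refine (Subgroup.eq_of_le_of_card_ge hle (Nat.le_of_dvd Nat.card_pos ?_)).ge
  rw [← Nat.factorization_prime_le_iff_dvd Nat.card_pos.ne' Nat.card_pos.ne']
  intro p hp
  haveI := Fact.mk hp
  by_cases hs : p ∈ sigma M
  · obtain ⟨T, hT, -⟩ := BG11.exists_sylowOf_ge' (IsPGroup.of_bot (p := p)) (bot_le (a := CH))
    have hTN : T ≤ N ⊔ X := fun x hx => by
      refine mem_sup_left ⟨mem_sigmaCore hG hM (hT.1 hx).1 fun q hq hqd => ?_, (hT.1 hx).2⟩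
      obtain ⟨n, hn⟩ := IsPGroup.iff_card.mp hT.2.1
      exact (Nat.prime_dvd_prime_iff_eq hq hp).mp
        (hq.dvd_of_dvd_pow (hqd.trans (hn ▸ orderOf_dvd_card hx))) ▸ hs
    refine (hp.pow_dvd_iff_le_factorization Nat.card_pos.ne').mp ?_
    exact hT.2.2 ▸ card_dvd_of_le hTN
  · have e := relIndex_mul_relIndex (⊥ : Subgroup G) X CH bot_le hXC
    rw [relIndex_bot_left, relIndex_bot_left] at e
    have h0 : X.relIndex CH ≠ 0 := fun h0 => by simp [h0, (Nat.card_pos (α := CH)).ne] at e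
    rw [← e, Nat.factorization_mul Nat.card_pos.ne' h0, Finsupp.add_apply,
      Nat.factorization_eq_zero_of_not_dvd (hXi p hp ⟨hp, hs⟩), add_zero]
    exact (Nat.factorization_le_iff_dvd Nat.card_pos.ne' Nat.card_pos.ne').mpr
      (card_dvd_of_le le_sup_right) p

/-- S1438, second part. -/
theorem hall_fusion (h : Facts G) (hM : IsCoatom M) {H : Subgroup G}
    (hH : H ≤ sigmaCore M) (hHall : (Nat.card H).Coprime (H.relIndex (sigmaCore M))) :
    ∀ x ∈ H, ∀ g : G, g * x * g⁻¹ ∈ H →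
      ∃ n ∈ M ⊓ normalizer (H : Set G), n * x * n⁻¹ = g * x * g⁻¹ := by
  have hG := h.minSimple
  intro x hx g hy
  set y := g * x * g⁻¹ with hydef
  by_cases hy1 : y = 1
  · refine ⟨1, one_mem _, ?_⟩
    have : x = 1 := conj_eq_one_iff.mp hy1
    rw [hy1, this]
    simp
  set S := sigmaCore M
  have hSM : S ≤ M := sigmaCore_le M
  obtain ⟨-, R, -, hR, huniq⟩ := h.supportTrans M hM y (hH hy) hy1
  obtain ⟨r, ⟨hr, hre⟩, -⟩ := huniq g ⟨x, hSM (hH hx), rfl⟩
  have hmM : r⁻¹ * g ∈ M := by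
    have e : M.map (MulAut.conj (r⁻¹ * g)).toMonoidHom = M := by
      rw [← Coprime.map_conj_map_conj, ← hre, Coprime.map_conj_map_conj, inv_mul_cancel,
        Coprime.map_conj_one]
    have := Coprime.mem_normalizer_of_map_conj e
    rwa [BG11.normalizer_coatom hG hM] at this
  obtain ⟨m, hm, hmx⟩ : ∃ m ∈ M, m * x * m⁻¹ = y := by
    refine ⟨r⁻¹ * g, hmM, ?_⟩
    have hc := mem_centralizer_singleton.mp (hR.2.1 hr)
    calc r⁻¹ * g * x * (r⁻¹ * g)⁻¹ = r⁻¹ * y * r := by rw [hydef]; group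
      _ = r⁻¹ * (r * y) := by rw [mul_assoc, ← hc]
      _ = y := by group
  by_cases hnil : Group.IsNilpotent S
  · exact ⟨m, ⟨hm, le_normalizer_hall_of_nilpotent hnil hH hHall (le_normalizer_sigmaCore M) hm⟩,
      hmx⟩
  obtain ⟨K, U, D⟩ := exists_decomp h hM
  have hne : fittingHallOf M ≠ S := fun e => hnil (e ▸ isNilpotent_fittingHallOf M)
  obtain ⟨Q, hQ⟩ := nonNilp_structure h hM D hne
  set q := Nat.card (kStar M K)
  haveI := Fact.mk hQ.q_prime
  obtain ⟨D₁, hD₁, -⟩ := hQ.exists_invariant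
  have hSsol : Group.IsSolvable S := Coprime.isSolvable_of_le hSM (solvable hG hM)
  have hQS : Q ≤ S := hQ.Q_le.trans (fittingHallOf_le_sigmaCore hG hM)
  have hQc := card_pow_factorization hQ.q_prime hQS hQ.Q_p hQ.Q_hall
  have hQM : M ≤ normalizer (Q : Set G) := hQ.Q_norm
  have hcompl : ∀ D' : Subgroup G, IsComplIn Q D' S →
      IsPiHallOf {r | r ≠ q} D' S ∧ ¬ q ∣ Nat.card D' := by
    intro D' hD'
    obtain ⟨e1, e2⟩ := H41.IsComplIn.relIndex_eq hD'
    refine ⟨⟨hD'.2.1, fun r hr hrd e => hQ.Q_hall ?_, fun r hr hrπ hrd => hrπ ?_⟩, e2 ▸ hQ.Q_hall⟩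
    · subst e
      rwa [e2]
    · rw [e1, hQc] at hrd
      exact (Nat.prime_dvd_prime_iff_eq hr hQ.q_prime).mp (hr.dvd_of_dvd_pow hrd)
  -- Frattini
  have hfra : ∀ D' : Subgroup G, IsComplIn Q D' S → ∀ m ∈ M, ∃ a ∈ Q, ∃ n ∈ M,
      n ∈ normalizer (D' : Set G) ∧ m = a * n := by
    intro D' hD' m hm
    obtain ⟨s, hs, e⟩ := Coprime.exists_conj_hallOf hSsol (hcompl D' hD').1
      (Coprime.isPiHallOf_map_conj (le_normalizer_sigmaCore M hm) (hcompl D' hD').1)
    obtain ⟨a, ha, d, hd, rfl⟩ := hD'.2.2.2 s hs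
    refine ⟨a, ha, a⁻¹ * m, mul_mem (inv_mem (hSM (hQS ha))) hm, ?_, by group⟩
    refine Coprime.mem_normalizer_of_map_conj ?_
    rw [← Coprime.map_conj_map_conj, ← e, Coprime.map_conj_map_conj, inv_mul_cancel_left,
      Coprime.map_conj_eq (le_normalizer hd)]
  by_cases hqH : q ∣ Nat.card H
  · refine ⟨m, ⟨hm, ?_⟩, hmx⟩
    -- `H` contains `Q`
    obtain ⟨P⟩ : Nonempty (Sylow q H) := inferInstance
    set T := (P : Subgroup H).map H.subtype
    have hT : IsSylowOf q T S :=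
      isSylowOf_of_hall (isPiHallOf_of_coprime hH hHall) hQ.q_prime hqH (isSylowOf_map P)
    have hTQ : T ≤ Q := fun a ha => mem_of_normal_hall (hSM.trans hQM) (hT.1 ha) (by
      obtain ⟨j, hj⟩ := IsPGroup.iff_card.mp hT.2.1
      exact (((hQ.q_prime.coprime_iff_not_dvd).mpr hQ.Q_hall).pow_left j).coprime_dvd_left
        (hj ▸ orderOf_dvd_card ha))
    have hQH : Q ≤ H :=
      (Subgroup.eq_of_le_of_card_ge hTQ (by rw [hQc, hT.2.2])) ▸ map_subtype_le _
    set J := H ⊓ D₁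
    have hJc : IsComplIn Q J H := by
      refine ⟨hQH, inf_le_left, le_bot_iff.mp ((inf_le_inf_left _ inf_le_right).trans hD₁.2.2.1.le),
        fun b hb => ?_⟩
      obtain ⟨a, ha, d, hd, rfl⟩ := hD₁.2.2.2 b (hH hb)
      exact ⟨a, ha, d, ⟨(mul_mem_cancel_left (hQH ha)).mp hb, hd⟩, rfl⟩
    have hJrel : (Nat.card J).Coprime (J.relIndex D₁) := by
      refine Nat.Coprime.coprime_dvd_left (card_dvd_of_le (inf_le_left : J ≤ H)) ?_
      have e1 := relIndex_mul_relIndex (⊥ : Subgroup G) J D₁ bot_le inf_le_right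
      have e2 := relIndex_mul_relIndex (⊥ : Subgroup G) H S bot_le hH
      rw [relIndex_bot_left, relIndex_bot_left] at e1 e2
      rw [H41.IsComplIn.card_eq hJc, H41.IsComplIn.card_eq hD₁, ← e1, mul_assoc] at e2
      rw [← Nat.eq_of_mul_eq_mul_left Nat.card_pos (Nat.eq_of_mul_eq_mul_left Nat.card_pos e2)]
      exact hHall
    obtain ⟨a, ha, n, hnM, hnD, e⟩ := hfra D₁ hD₁ m hm
    have hnJ : n ∈ normalizer (J : Set G) :=
      le_normalizer_hall_of_nilpotent (hQ.compl D₁ hD₁).1 inf_le_right hJrel le_rfl hnD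
    have hsupH : Q ⊔ J = H := le_antisymm (sup_le hQH inf_le_left) fun b hb => by
      obtain ⟨a', ha', d', hd', rfl⟩ := hJc.2.2.2 b hb
      exact mul_mem_sup ha' hd'
    have hn : n ∈ normalizer (H : Set G) := by
      refine Coprime.mem_normalizer_of_map_conj ?_
      conv_lhs => rw [← hsupH]
      rw [Subgroup.map_sup, Coprime.map_conj_eq (hQM hnM), Coprime.map_conj_eq hnJ, hsupH]
    rw [e]
    exact mul_mem (le_normalizer (hQH ha)) hn
  · obtain ⟨s, hs, hle⟩ := exists_conj_le_hallOf hSsol (hcompl D₁ hD₁).1 hH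
      (fun p hp hd e => hqH (e ▸ hd))
    have hHD : H ≤ cj s⁻¹ D₁ := by
      intro z hz
      refine ⟨s * z * s⁻¹, hle ⟨z, hz, rfl⟩, ?_⟩
      show s⁻¹ * (s * z * s⁻¹) * s⁻¹⁻¹ = z
      group
    set D' := cj s⁻¹ D₁
    have hD' : IsComplIn Q D' S := by
      have e := isComplIn_cj hD₁ s⁻¹
      rwa [mem_normalizer_of_le hQM (inv_mem (hSM hs)),
        mem_normalizer_of_le (le_normalizer (H := S)) (inv_mem hs)] at e
    obtain ⟨a, ha, n, hnM, hnD, e⟩ := hfra D' hD' m hm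
    have hHrel : (Nat.card H).Coprime (H.relIndex D') := by
      have e1 := relIndex_mul_relIndex H D' S hHD hD'.2.1
      exact hHall.coprime_dvd_right (e1 ▸ dvd_mul_right _ _)
    have hnH : n ∈ normalizer (H : Set G) := le_normalizer_hall_of_nilpotent (hQ.compl D' hD').1 hHD
      hHrel le_rfl hnD
    refine ⟨n, ⟨hnM, hnH⟩, ?_⟩
    set z := n * x * n⁻¹
    have hz : z ∈ H := Coprime.conj_mem hnH hx
    have hyz : y = a * z * a⁻¹ := by rw [← hmx, e]; simp only [z]; group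
    have h1 : y * z⁻¹ ∈ Q := by
      rw [hyz, show a * z * a⁻¹ * z⁻¹ = a * (z * a⁻¹ * z⁻¹) by group]
      exact mul_mem ha (Coprime.conj_mem (hQM (hSM (hH hz))) (inv_mem ha))
    have h2 : y * z⁻¹ ∈ Q ⊓ D' := ⟨h1, hHD (mul_mem hy (inv_mem hz))⟩
    rw [hD'.2.2.1, mem_bot, mul_inv_eq_one] at h2
    exact h2.symm

end Cfsg.Agent.OddOrder.BG15
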