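import Cfsg.Agent.OddOrder.BG15.Facts
import Cfsg.Agent.S1351
import Cfsg.Agent.S1352
import Cfsg.Agent.S1353
import Cfsg.Agent.S1354
import Cfsg.Agent.S1366
import Cfsg.Agent.S1368
import Cfsg.Agent.S1369
import Cfsg.Agent.S1374
import Cfsg.Agent.S1375
import Cfsg.Agent.S1412
import Cfsg.Agent.S1414
import Cfsg.Agent.S1417
import Cfsg.Agent.S1418
import Cfsg.Agent.S1419
import Cfsg.Agent.S1420
import Cfsg.Agent.S1421
import Cfsg.Agent.S1422
import Cfsg.Agent.S1423
import Cfsg.Agent.S1426
import Cfsg.Agent.S1429
import Cfsg.Agent.S1430
import Cfsg.Agent.S1431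
import Cfsg.Agent.S1432
import Cfsg.Agent.S1433
import Cfsg.Agent.S1435
import Cfsg.Agent.S1436
import Cfsg.Agent.S1445
import Cfsg.Agent.S1446

/-!
# The package of facts used in section 15 holds
-/

set_option autoImplicit false

universe u

namespace Cfsg.Agent.OddOrder.BG15

theorem facts {G : Type u} [Group G] [Finite G] (hG : Cfsg.IsMinSimpleOddOrder G) : Facts G where
  minSimple := hG
  kappaHall := S1351.result hG
  decompExists := S1352.result hG
  kActsFpf := S1353.result hG
  kCentralizer := S1354.result hG
  starExists := S1366.result hG
  starInf := S1368.result hG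
  starClasses := S1369.result hG
  supportTrans := S1374.result hG
  supportMax := S1375.result hG
  sylowRankTwo := S1412.result hG
  betaCore := S1414.result hG
  tau2Abelian := S1417.result hG
  tau2Compl := S1418.result hG
  tau2Nonabelian := S1419.result hG
  complAbelian := S1420.result hG
  complExponent := S1421.result hG
  nonabelianUnique := S1422.result hG
  betaUnique := S1423.result hG
  sigmaCoreAction := S1426.result hG
  notPOne := S1429.result hG
  primeAction := S1430.result hG
  starSylow := S1431.result hG
  sigmaHatCases := S1432.result hG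
  supportDisjoint := S1433.result hG
  pTwoPartner := S1435.result hG
  supportKappa := S1436.result hG
  primeActionFitting := S1445.result
  frobeniusSections := S1446.result

end Cfsg.Agent.OddOrder.BG15
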