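import Cfsg.Agent.OddOrder.BG15.NonTITools
import Cfsg.Agent.OddOrder.BG15.CubeAction

/-!
# BG 15.7: the structure of `M` when `F(M)` is not TI (S1440 with an inclusion for `[M, M]`)
-/

set_option autoImplicit false
set_option linter.style.haveILetI false
set_option linter.unusedVariables false

universe u

namespace Cfsg.Agent.OddOrder.BG15

open Subgroup H40
open scoped commutatorElement

variable {G : Type u} [Group G] [Finite G] {M K U : Subgroup G}

theorem rankLE_of_parts (hnil : Group.IsNilpotent (sigmaCore M)) {k : ℕ}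
    (h : ∀ r : ℕ, r.Prime → PRankLE r k (piCoreOf {r} (sigmaCore M))) :
    RankLE k (sigmaCore M) := by
  intro r hr A hA hAp
  haveI := Fact.mk hr
  haveI := hA
  have he : IsElementaryAbelian r (A.map (sigmaCore M).subtype) := by
    refine ⟨map_isMulCommutative A _, ?_⟩
    rintro _ ⟨a, ha, rfl⟩
    rw [← map_pow, hAp a ha, map_one]
  have hp : IsPGroup r (A.map (sigmaCore M).subtype) := fun a =>
    ⟨1, Subtype.ext (by simpa using he.2 a a.2)⟩
  rw [← card_map_of_injective (sigmaCore M).subtype_injective]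
  exact BG11.card_le_of_pRankLE (h r hr) (le_primePart hnil (map_subtype_le A) hp) he

theorem sigmaCore_commutative (hnil : Group.IsNilpotent (sigmaCore M))
    (h : ∀ r : ℕ, r.Prime → IsMulCommutative (piCoreOf {r} (sigmaCore M))) :
    IsMulCommutative (sigmaCore M) := by
  have key : ∀ (r : ℕ), r.Prime → ∀ P : Subgroup G, P ≤ sigmaCore M → IsPGroup r P →
      sigmaCore M ≤ centralizer (P : Set G) := by
    intro r hr P hP hPp
    refine Coprime.le_of_forall_sylow_le fun s hs Q hQ hQp => ?_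
    haveI := Fact.mk hr
    haveI := Fact.mk hs
    by_cases hsr : s = r
    · subst hsr
      exact fun a ha => mem_centralizer_iff.mpr fun b hb =>
        PGroups.comm_of_isMulCommutative (h s hs) (le_primePart hnil hP hPp hb)
          (le_primePart hnil hQ hQp ha)
    · exact (le_primePart hnil hQ hQp).trans (le_centralizer_other hnil hsr hP hPp)
  have h1 : sigmaCore M ≤ centralizer (sigmaCore M : Set G) :=
    Coprime.le_of_forall_sylow_le fun r hr P hP hPp => le_centralizer_iff.mp (key r hr P hP hPp)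
  exact PGroups.isMulCommutative_of_comm fun a ha b hb => mem_centralizer_iff.mp (h1 hb) a ha

theorem pCore_equiv {p : ℕ} (hp : p.Prime) (H : Subgroup G) :
    (pCore p ↥H).map H.subtype = piCoreOf {p} H := by
  rw [← Cores.piCore_singleton hp]
  rfl

theorem isCyclic_pPrimeCore {p : ℕ} [hp : Fact p.Prime] {H : Subgroup G}
    (hH : Group.IsNilpotent H) (hc : IsCyclic (piCoreOf {q | q ∉ ({p} : Set ℕ)} H)) :
    IsCyclic (pPrimeCore p ↥H) := by
  haveI := hc
  refine ((pPrimeCore p ↥H).equivMapOfInjective H.subtype H.subtype_injective).isCyclic.mpr ?_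
  refine (subgroupOfEquivOfLe (fun x hx => mem_piCoreOf_of_nilpotent hH (map_subtype_le _ hx)
    (piNumber_orderOf (π := {q | q ∉ ({p} : Set ℕ)}) (H := (pPrimeCore p ↥H).map H.subtype) (fun q hq hd e => ?_) hx))).isCyclic.mp
    (Subgroup.isCyclic _)
  rw [card_map_of_injective H.subtype_injective] at hd
  rw [Set.mem_singleton_iff] at e
  exact hq.ne_one (Nat.eq_one_of_dvd_coprimes (Cores.coprime_card_pPrimeCore (p := p)) hd e.dvd)

theorem isMulCommutative_congr {A B : Type*} [Group A] [Group B] (e : A ≃* B)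
    (h : IsMulCommutative A) : IsMulCommutative B :=
  ⟨⟨fun a b => e.symm.injective (by rw [map_mul, map_mul]; exact h.is_comm.comm _ _)⟩⟩

theorem pCore_facts {p : ℕ} (hp : p.Prime) {H : Subgroup G} :
    Nat.card (pCore p ↥H) = Nat.card (piCoreOf {p} H) ∧
      (¬ IsMulCommutative (piCoreOf {p} H) → ¬ IsMulCommutative (pCore p ↥H)) := by
  refine ⟨by rw [← pCore_equiv hp, card_map_of_injective H.subtype_injective], fun h h' => h ?_⟩
  rw [← pCore_equiv hp]
  exact isMulCommutative_congr ((pCore p ↥H).equivMapOfInjective H.subtype H.subtype_injective) h'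

theorem exponent_quotient_dvd {M : Subgroup G} {S E : Subgroup G} (hS : fittingHallOf M = S)
    (hE : IsComplIn E S M) {n : ℕ} (h : ∀ e ∈ E, orderOf e ∣ n) :
    Monoid.exponent (↥M ⧸ fittingHall ↥M) ∣ n := by
  rw [Monoid.exponent_dvd_iff_forall_pow_eq_one]
  intro y
  obtain ⟨m, rfl⟩ := QuotientGroup.mk'_surjective (fittingHall ↥M) y
  obtain ⟨e, he, s, hs, hm⟩ := hE.2.2.2 m m.2
  have h1 : (⟨s, hE.2.1 hs⟩ : M) ∈ fittingHall ↥M := by
    rw [← hS] at hs
    obtain ⟨s', hs', e'⟩ := hs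
    rwa [show (⟨s, hE.2.1 (hS ▸ ⟨s', hs', e'⟩)⟩ : M) = s' from Subtype.ext e'.symm]
  rw [show m = ⟨e, hE.1 he⟩ * ⟨s, hE.2.1 hs⟩ from Subtype.ext hm, map_mul,
    show QuotientGroup.mk' (fittingHall ↥M) ⟨s, hE.2.1 hs⟩ = 1 from
      (QuotientGroup.eq_one_iff _).mpr h1, mul_one, ← map_pow]
  refine (congrArg _ (Subtype.ext ?_ : (⟨e, hE.1 he⟩ : M) ^ n = 1)).trans (map_one _)
  rw [SubgroupClass.coe_pow]
  exact orderOf_dvd_iff_pow_eq_one.mp (h e he)

section

variable {x : G} {p : ℕ} [hp : Fact p.Prime]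

/-- For every prime of `M_σ` a subgroup of that order normal in `M`, when `O_p(M_σ)` is not abelian. -/
theorem Outside.normal_line (O : Outside M x p) (h : Facts G) (hM : IsCoatom M)
    (hP : ¬ IsMulCommutative (piCoreOf {p} (sigmaCore M))) {q : ℕ} (hq : q.Prime)
    (hd : q ∣ Nat.card (sigmaCore M)) :
    ∃ y ∈ sigmaCore M, orderOf y = q ∧ M ≤ normalizer (zpowers y : Set G) := by
  haveI := Fact.mk hq
  set S := sigmaCore M
  by_cases hqp : q = p
  · subst hqp
    obtain ⟨z, hz, hzo, hzc, hzu⟩ := O.exists_center_line h hM hP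
    refine ⟨z, piCoreOf_le _ _ hz, hzo, fun m hm => Coprime.mem_normalizer_of_map_conj ?_⟩
    have hn := le_normalizer_piCoreOf' (π := {q}) (le_normalizer_sigmaCore M) hm
    refine eq_of_le_of_card_ge ?_ (Coprime.card_map_conj m (zpowers z)).ge
    rw [MonoidHom.map_zpowers]
    refine zpowers_le.mpr (hzu _ (Coprime.conj_mem hn hz) ?_ fun w hw => ?_)
    · show (m * z * m⁻¹) ^ q = 1
      rw [conj_pow, show z ^ q = 1 from hzo ▸ pow_orderOf_eq_one z, mul_one, mul_inv_cancel]
    · show w * (m * z * m⁻¹) = m * z * m⁻¹ * w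
      have e := hzc _ (Coprime.conj_mem' hn hw)
      calc w * (m * z * m⁻¹) = m * (m⁻¹ * w * m * z) * m⁻¹ := by group
        _ = m * (z * (m⁻¹ * w * m)) * m⁻¹ := by rw [e]
        _ = m * z * m⁻¹ * w := by group
  · set C := piCoreOf {r | r ∉ ({p} : Set ℕ)} S
    haveI : IsCyclic C := O.pPrime_cyclic h hM hP
    obtain ⟨y, hy⟩ := exists_prime_orderOf_dvd_card' q hd
    rw [← orderOf_coe] at hy
    have hyC : (y : G) ∈ C := mem_piCoreOf_of_nilpotent O.nil y.2 fun r hr hrd e => by
      rw [hy] at hrd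
      exact hqp (((Nat.prime_dvd_prime_iff_eq hr hq).mp hrd).symm.trans e)
    refine ⟨y, y.2, hy, fun m hm => Coprime.mem_normalizer_of_map_conj ?_⟩
    have hn : M ≤ normalizer (C : Set G) := le_normalizer_piCoreOf' (le_normalizer_sigmaCore M)
    exact eq_of_card_eq_of_isCyclic
      ((map_mono (zpowers_le.mpr hyC)).trans (Coprime.map_conj_eq (hn hm)).le)
      (zpowers_le.mpr hyC) (Coprime.card_map_conj m _)

/-- The second alternative when `κ(M)` is empty. -/
theorem Outside.exponent_kappa_empty (O : Outside M x p) (h : Facts G) (hM : IsCoatom M)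
    (hP : ¬ IsMulCommutative (piCoreOf {p} (sigmaCore M))) (hκ : kappa M = ∅) {q : ℕ} (hq : q.Prime)
    (hd : q ∣ Nat.card (sigmaCore M)) :
    Monoid.exponent (↥M ⧸ fittingHall ↥M) ∣ q - 1 := by
  have hG := h.minSimple
  obtain ⟨E, hE⟩ := exists_compl hG hM
  refine exponent_quotient_dvd (fittingHallOf_eq_sigmaCore hG hM O.nil) hE fun e he => ?_
  obtain ⟨y, hy, hyo, hyn⟩ := O.normal_line h hM hP hq hd
  refine (Nat.dvd_iff_prime_pow_dvd_dvd _ _).mpr fun t k ht htk => ?_
  rcases Nat.eq_zero_or_pos k with rfl | hk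
  · simp
  haveI := Fact.mk ht
  have hte : t ∣ orderOf e := (dvd_pow_self t hk.ne').trans htk
  have hts : t ∉ sigma M := not_sigma_of_mem_compl hG hM hE he t ht hte
  have htM : t ∣ Nat.card M := hte.trans (orderOf_dvd_card (hE.1 he))
  obtain ⟨T, hT, -⟩ := BG11.exists_sylowOf_ge' (IsPGroup.of_bot (p := t)) (bot_le (a := M))
  obtain ⟨w, hw, hwo, hwf⟩ := exists_fpf_max h hM hts (by rw [hκ]; exact Set.notMem_empty t) hT htM
  have hwd : orderOf w ∣ q - 1 := by
    rw [← Nat.card_zpowers]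
    refine dvd_pred_of_fpf_prime hq ((Nat.card_zpowers y).trans hyo)
      ((zpowers_le.mpr (hT.1 hw)).trans hyn) fun a ha c hc hac => ?_
    by_contra hne
    push Not at hne
    exact hne.2 (hwf a ha hne.1 c ((zpowers_le.mpr hy) hc) hac)
  set u := e ^ (orderOf e / t ^ k)
  have huo : orderOf u = t ^ k := by
    rw [orderOf_pow_of_dvd (Nat.div_pos (Nat.le_of_dvd (orderOf_pos e) htk) (pow_pos ht.pos k)).ne'
      (Nat.div_dvd_of_dvd htk), Nat.div_div_self htk (orderOf_pos e).ne']
  obtain ⟨m, hm, hmT⟩ := BG11.exists_conj_le hT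
    (IsPGroup.of_card (n := k) ((Nat.card_zpowers u).trans huo))
    (zpowers_le.mpr (pow_mem (hE.1 he) _))
  have h1 : m * u * m⁻¹ ∈ T := hmT ⟨u, mem_zpowers u, rfl⟩
  have h2 : orderOf (m * u * m⁻¹) ∣ orderOf w := by
    rw [hwo]
    exact orderOf_dvd_of_pow_eq_one (pow_exponent_eq_one h1)
  rw [show orderOf (m * u * m⁻¹) = orderOf u from (MulAut.conj m).orderOf_eq u, huo] at h2
  exact h2.trans hwd

/-- The alternatives when `κ(M)` is not empty and `U = 1`. -/
theorem Outside.kappa_alternatives (O : Outside M x p) (h : Facts G) (hM : IsCoatom M)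
    (D : IsSigmaDecomposition M K U) (hK1 : K ≠ ⊥) (hU : U = ⊥) (hβ : p ∉ beta M)
    (hP : ¬ IsMulCommutative (piCoreOf {p} (sigmaCore M))) :
    (∀ q : ℕ, q.Prime → q ∣ Nat.card (sigmaCore M) →
        Monoid.exponent (↥M ⧸ fittingHall ↥M) ∣ q - 1) ∨
      (Nat.card (piCoreOf {p} (sigmaCore M)) = p ^ 3 ∧ Nat.card K ∣ p + 1) := by
  have hG := h.minSimple
  set S := sigmaCore M
  set P := piCoreOf {p} S
  set C := piCoreOf {r | r ∉ ({p} : Set ℕ)} S
  have hPS : P ≤ S := piCoreOf_le _ _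
  have hCS : C ≤ S := piCoreOf_le _ _
  have hPp : IsPGroup p P := isPGroup_piCoreOf hp.out _
  haveI hCc : IsCyclic C := O.pPrime_cyclic h hM hP
  have hKM : K ≤ M := (decomp_le D).1
  have hcopKS := coprime_K_sigmaCore D
  have hq := kStar_prime h hM D hK1 hU
  obtain ⟨hder, hKs⟩ := derived_structure h hM D hK1
  rw [hder, hU, bot_sup_eq] at hKs
  have hSd : ⁅S, S⁆ ≤ P := by
    have hCn : S ≤ normalizer (P : Set G) := le_normalizer_piCoreOf' le_normalizer
    refine commutator_le_of_comm hPS hCn hPS hCS (fun m hm => ?_)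
      (fun w hw v hv => mul_mem (mul_mem (mul_mem hw hv) (inv_mem hw)) (inv_mem hv))
      (fun w hw a ha => ?_) (fun a ha b hb => ?_)
    · obtain ⟨w, hw, a, ha, e⟩ :=
        (Coprime.mem_sup_iff (hCS.trans hCn)).mp (le_sup_piCoreOf O.nil {p} hm)
      exact ⟨w, hw, a, ha, e.symm⟩
    · rw [show w * a * w⁻¹ * a⁻¹ = w * (a * w⁻¹ * a⁻¹) by group]
      exact mul_mem hw (Coprime.conj_mem (hCn (hCS ha)) (inv_mem hw))
    · letI := IsCyclic.commGroup (α := C)
      rw [show a * b = b * a from congrArg Subtype.val (mul_comm (⟨a, ha⟩ : C) ⟨b, hb⟩),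
        mul_inv_cancel_right, mul_inv_cancel]
      exact one_mem _
  have hKsP : kStar M K ≤ P := hKs.trans hSd
  have hqp : Nat.card (kStar M K) = p := by
    obtain ⟨n, hn⟩ := IsPGroup.iff_card.mp (hPp.to_le hKsP)
    exact (Nat.prime_dvd_prime_iff_eq hq hp.out).mp (hq.dvd_of_dvd_pow (dvd_of_eq hn))
  have hPr := (h.primeAction M hM K D.hall hK1).1
  have hexp : ∀ n, Nat.card K ∣ n → Monoid.exponent (↥M ⧸ fittingHall ↥M) ∣ n := fun n hn =>
    exponent_quotient_dvd (fittingHallOf_eq_sigmaCore hG hM O.nil) (isComplIn_K D hU)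
      fun e he => (orderOf_dvd_card he).trans hn
  have hline : ∀ q : ℕ, q.Prime → ∀ y ∈ S, orderOf y = q → M ≤ normalizer (zpowers y : Set G) →
      y ∉ kStar M K → Nat.card K ∣ q - 1 := by
    intro q hq y hy hyo hyn hyK
    refine dvd_pred_of_fpf_prime hq ((Nat.card_zpowers y).trans hyo) (hKM.trans hyn)
      fun a ha c hc hac => ?_
    by_contra hne
    push Not at hne
    have hcK : c ∈ kStar M K :=
      (hPr a ha hne.1).le ⟨(zpowers_le.mpr hy) hc, mem_centralizer_singleton.mpr hac.symm⟩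
    refine hyK ((zpowers_le.mpr hcK) ?_)
    have hco : orderOf c = q := (hq.eq_one_or_self_of_dvd _ (hyo ▸
      (orderOf_dvd_card hc).trans (Nat.card_zpowers y).dvd)).resolve_left
        fun e => hne.2 (orderOf_eq_one_iff.mp e)
    rw [eq_of_le_of_card_ge (zpowers_le.mpr hc : zpowers c ≤ zpowers y)
      (by rw [Nat.card_zpowers, Nat.card_zpowers, hyo, hco])]
    exact mem_zpowers y
  have hother : ∀ q : ℕ, q.Prime → q ∣ Nat.card S → q ≠ p → Nat.card K ∣ q - 1 := by
    intro q hq hd hne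
    haveI := Fact.mk hq
    obtain ⟨y, hy, hyo, hyn⟩ := O.normal_line h hM hP hq hd
    refine hline q hq y hy hyo hyn fun hyK => hne ?_
    have h1 : q ∣ p := by rw [← hyo, ← hqp]; exact orderOf_dvd_card hyK
    exact (Nat.prime_dvd_prime_iff_eq hq hp.out).mp h1
  have hB : Nat.card K ∣ p - 1 → ∀ q : ℕ, q.Prime → q ∣ Nat.card S →
      Monoid.exponent (↥M ⧸ fittingHall ↥M) ∣ q - 1 := by
    intro hKp q hq hd
    refine hexp _ ?_
    by_cases hqp' : q = p
    · rwa [hqp']
    · exact hother q hq hd hqp'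
  obtain ⟨z, hz, hzo, hzc, hzu⟩ := O.exists_center_line h hM hP
  by_cases hzK : z ∈ kStar M K
  swap
  · refine Or.inl (hB (hline p hp.out z (hPS hz) hzo (fun m hm => ?_) hzK))
    obtain ⟨y, hy, hyo, hyn⟩ := O.normal_line h hM hP hp.out O.card_dvd
    -- the same line
    have hn := le_normalizer_piCoreOf' (π := {p}) (le_normalizer_sigmaCore M) hm
    refine Coprime.mem_normalizer_of_map_conj ?_
    refine eq_of_le_of_card_ge ?_ (Coprime.card_map_conj m (zpowers z)).ge
    rw [MonoidHom.map_zpowers]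
    refine zpowers_le.mpr (hzu _ (Coprime.conj_mem hn hz) ?_ fun w hw => ?_)
    · show (m * z * m⁻¹) ^ p = 1
      rw [conj_pow, show z ^ p = 1 from hzo ▸ pow_orderOf_eq_one z, mul_one, mul_inv_cancel]
    · show w * (m * z * m⁻¹) = m * z * m⁻¹ * w
      have e := hzc _ (Coprime.conj_mem' hn hw)
      calc w * (m * z * m⁻¹) = m * (m⁻¹ * w * m * z) * m⁻¹ := by group
        _ = m * (z * (m⁻¹ * w * m)) * m⁻¹ := by rw [e]
        _ = m * z * m⁻¹ * w := by group
  have hKsz : zpowers z = kStar M K :=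
    eq_of_le_of_card_ge (zpowers_le.mpr hzK) (by rw [Nat.card_zpowers, hzo, hqp])
  have hKn : K ≤ normalizer (P : Set G) :=
    hKM.trans (le_normalizer_piCoreOf' (le_normalizer_sigmaCore M))
  have hKp : (Nat.card K).Coprime p := hcopKS.coprime_dvd_right O.card_dvd
  have hKodd : Odd (Nat.card K) := BG11.odd_card hG K
  have hp2 : p ≠ 2 := OddOrder.ne_two_of_dvd hG O.card_dvd
  by_cases hr : PRankLE p 2 P
  swap
  · refine Or.inl (hB ?_)
    obtain ⟨S₀, hS₀⟩ := BG11.exists_sylow_eq (isSylowOf_primePart hG hM O.nil O.card_dvd)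
    have hn : IsNarrow p ↥((S₀ : Subgroup M).map M.subtype) :=
      BG5.isNarrow_of_equiv ((S₀ : Subgroup M).equivMapOfInjective M.subtype M.subtype_injective)
        (BG11.isNarrow_of_not_beta hG (BG10.alpha_subset_sigma hG hM)
          (O.card_dvd.trans (card_dvd_of_le (sigmaCore_le M))) hβ S₀)
    rw [hS₀] at hn
    have hfaith : K ⊓ centralizer (P : Set G) = ⊥ := by
      refine (eq_bot_iff_forall _).mpr fun k hk => ?_
      by_contra hk1
      refine O.not_central h hM hP fun w hw => ?_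
      have hle : ∀ v ∈ P, v ∈ kStar M K := fun v hv => (hPr k hk.1 hk1).le
        ⟨hPS hv, mem_centralizer_singleton.mpr (mem_centralizer_iff.mp hk.2 v hv)⟩
      have hmemz : ∀ v ∈ P, v ∈ zpowers z := fun v hv => hKsz.symm ▸ hle v hv
      obtain ⟨i, rfl⟩ := mem_zpowers_iff.mp (hmemz x O.mem_part)
      exact ((show Commute w z from hzc w hw).zpow_right i).eq
    obtain ⟨-, h2, -⟩ := BG5.narrow_action hp2 hPp hn hKn
      (Coprime.isSolvable_of_le hKM (solvable hG hM)) hKodd hfaith
    haveI := D.cyclic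
    obtain ⟨g, hg⟩ := IsCyclic.exists_generator (α := K)
    rw [← orderOf_eq_card_of_forall_mem_zpowers hg, ← orderOf_coe]
    exact h2 hr g g.2 (hKp.coprime_dvd_left (orderOf_dvd_card g.2))
  · -- the centre of `P` is `K*`
    obtain ⟨S₀, hS₀⟩ := BG11.exists_sylow_eq (isSylowOf_primePart hG hM O.nil O.card_dvd)
    obtain ⟨T, hT⟩ := OddOrder.exists_sylow_of_mem_sigma
      ((hallσ hG hM).2.1 p hp.out O.card_dvd) S₀
    rw [hS₀] at hT
    change (T : Subgroup G) = P at hT
    rcases h.sylowRankTwo p T (by rw [hT]; exact hr) with hab |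
        ⟨P₁, P₂, hsup, hc, hnc, hP₁, hexp₁, hcyc, -⟩
    · exact absurd (by rw [← hT]; exact hab) hP
    rw [hT] at hsup
    have h12 : P₂ ≤ centralizer (P₁ : Set G) := fun b hb =>
      mem_centralizer_iff.mpr fun a ha => hc a ha b hb
    set Zc := P ⊓ centralizer (P : Set G)
    haveI : IsMulCommutative Zc := PGroups.isMulCommutative_of_comm fun a ha b hb =>
      mem_centralizer_iff.mp hb.2 a ha.1
    have hKZc : K ≤ normalizer (Zc : Set G) := by
      intro k hk
      have key : ∀ g ∈ K, ∀ v ∈ Zc, g * v * g⁻¹ ∈ Zc := by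
        rintro g hg v ⟨hv, hvc⟩
        refine ⟨Coprime.conj_mem (hKn hg) hv, mem_centralizer_iff.mpr fun w hw => ?_⟩
        have e := mem_centralizer_iff.mp hvc _ (Coprime.conj_mem' (hKn hg) hw)
        calc w * (g * v * g⁻¹) = g * (g⁻¹ * w * g * v) * g⁻¹ := by group
          _ = g * (v * (g⁻¹ * w * g)) * g⁻¹ := by rw [e]
          _ = g * v * g⁻¹ * w := by group
      exact mem_normalizer_iff.mpr fun v => ⟨key k hk v, fun hv => by
        simpa [mul_assoc] using key k⁻¹ (inv_mem hk) _ hv⟩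
    have hKcZ : K ≤ centralizer (Zc : Set G) := by
      refine Coprime.le_centralizer_of_prime_order hKZc
        (hcopKS.coprime_dvd_right (card_dvd_of_le (inf_le_left.trans hPS))) fun v hv hvp a ha => ?_
      have hvo : orderOf v = p := by
        obtain ⟨j, hj⟩ := IsPGroup.iff_card.mp hPp
        exact (Nat.prime_dvd_prime_iff_eq hvp hp.out).mp
          (hvp.dvd_of_dvd_pow (hj ▸ orderOf_dvd_card hv.1))
      have h1 : v ∈ kStar M K :=
        hKsz ▸ hzu v hv.1 (hvo ▸ pow_orderOf_eq_one v) fun w hw => mem_centralizer_iff.mp hv.2 w hw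
      exact mem_centralizer_iff.mp h1.2 a ha
    have hZcKs : Zc ≤ kStar M K := le_inf (inf_le_left.trans hPS) (le_centralizer_iff.mp hKcZ)
    have hP₂ : P₂ ≤ P₁ := by
      have hP1p : IsPGroup p P₁ := hPp.to_le (hsup ▸ le_sup_left)
      have hP₁1 : P₁ ≠ ⊥ := fun e => hnc (by rw [e]; exact inferInstance)
      obtain ⟨t, ht, hto, htc⟩ := Components.exists_central_orderOf hP1p hP₁1
      have hin : ∀ v ∈ P₁ ⊔ P₂, (∀ a ∈ P₁, a * v = v * a) → (∀ b ∈ P₂, b * v = v * b) →
          v ∈ kStar M K := fun v hv h1 h2 => by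
        refine hZcKs ⟨hsup ▸ hv, ?_⟩
        have hle : P ≤ centralizer ({v} : Set G) := by
          rw [← hsup]
          exact sup_le (fun a ha => mem_centralizer_singleton.mpr (h1 a ha))
            (fun b hb => mem_centralizer_singleton.mpr (h2 b hb))
        exact mem_centralizer_iff.mpr fun w hw => mem_centralizer_singleton.mp (hle hw)
      have ht' : t ∈ kStar M K := hin t (mem_sup_left ht)
        (fun a ha => mem_centralizer_singleton.mp (htc ha)) (fun b hb => (hc t ht b hb).symm)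
      have hte : zpowers t = kStar M K :=
        eq_of_le_of_card_ge (zpowers_le.mpr ht') (by rw [Nat.card_zpowers, hto, hqp])
      intro b hb
      refine (zpowers_le.mpr ht) (hte.symm ▸ hin b (mem_sup_right hb) (fun a ha => hc a ha b hb)
        fun b' hb' => ?_)
      haveI := hcyc
      letI := IsCyclic.commGroup (α := P₂)
      exact congrArg Subtype.val (mul_comm (⟨b', hb'⟩ : P₂) ⟨b, hb⟩)
    have hP1 : P₁ = P := by rw [← hsup, sup_eq_left.mpr hP₂]
    subst hP1
    rcases cube_dichotomy (Z := zpowers z) hP₁ hnc (zpowers_le.mpr hz)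
        ((Nat.card_zpowers z).trans hzo)
        (fun w hw => by rw [centralizer_zpowers]; exact mem_centralizer_singleton.mpr (hzc w hw))
        (fun w hw => by rw [← hexp₁, pow_exponent_eq_one hw]; exact one_mem _)
        hKn (K_comm D) hKodd hKp (hKsz ▸ le_centralizer_iff.mp inf_le_right)
        (fun k hk hk1 v hv => hKsz ▸ (hPr k hk hk1).le ⟨hPS hv.1, hv.2⟩) with h1 | h1
    · exact Or.inl (hB h1)
    · exact Or.inr ⟨hP₁, h1⟩

end

/-- An element of prime order of `F(M) ∩ F(M)^g`, `g ∉ M`, is a `σ`-element. -/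
theorem sigma_of_inter (h : Facts G) (hM : IsCoatom M) {g a : G} (hg : g ∉ M)
    (ha : a ∈ fittingOf M) (ha' : g⁻¹ * a * g ∈ fittingOf M) {r : ℕ} (hr : r.Prime)
    (hao : orderOf a = r) : r ∈ sigma M := by
  have hG := h.minSimple
  by_contra hs
  set Y := piCoreOf (sigma' M) (fittingOf M)
  have hY : ∀ w ∈ fittingOf M, orderOf w = r → w ∈ Y := fun w hw hwo =>
    mem_piCoreOf_of_nilpotent (isNilpotent_fittingOf M) hw fun q hq hd => by
      rw [hwo] at hd
      exact ⟨hq, (Nat.prime_dvd_prime_iff_eq hq hr).mp hd ▸ hs⟩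
  obtain ⟨hYc, -, -⟩ := sigma'_fitting h hM
  haveI := hYc
  have haY := hY a ha hao
  have e : g⁻¹ * a * g = MulAut.conj g⁻¹ a := by simp
  have ho : orderOf (g⁻¹ * a * g) = r := by rw [e, (MulAut.conj g⁻¹).orderOf_eq, hao]
  have e1 : (zpowers a).map (MulAut.conj g⁻¹).toMonoidHom = zpowers a := by
    rw [MonoidHom.map_zpowers]
    refine eq_of_card_eq_of_isCyclic (zpowers_le.mpr ?_) (zpowers_le.mpr haY) ?_
    · exact e ▸ hY _ ha' ho
    · rw [Nat.card_zpowers, Nat.card_zpowers, hao]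
      exact e ▸ ho
  have hn : M ≤ normalizer (zpowers a : Set G) := fun m hm =>
    Coprime.mem_normalizer_of_map_conj (eq_of_card_eq_of_isCyclic
      ((map_mono (zpowers_le.mpr haY)).trans
        (Coprime.map_conj_eq (le_normalizer_fitting_sigma' M hm)).le)
      (zpowers_le.mpr haY) (Coprime.card_map_conj m _))
  refine hg (M.inv_mem_iff.mp ?_)
  rw [← OddOrder.normalizer_eq_max hG hM (zpowers_le.mpr (fittingOf_le M ha))
    (fun e' => hr.ne_one (by rw [← hao, ← Nat.card_zpowers, e', card_bot])) hn]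
  exact Coprime.mem_normalizer_of_map_conj e1

/-- S1440 with `⁅M, M⁆ ≤ F(M)` for the equality. -/
theorem nonTI_structure (h : Facts G) (hM : IsCoatom M) (D : IsSigmaDecomposition M K U) {g : G}
    (hg : g ∉ M) (hX : fittingOf M ⊓ (fittingOf M).map (MulAut.conj g).toMonoidHom ≠ ⊥) :
    (fittingOf M ⊓ (fittingOf M).map (MulAut.conj g).toMonoidHom ≤ fittingHallOf M ∧
      IsCyclic ↥(fittingOf M ⊓ (fittingOf M).map (MulAut.conj g).toMonoidHom)) ∧
    (⁅M, M⁆ ≤ fittingOf M ∧ fittingOf M = sigmaCore M ⊔ piCoreOf (sigma' M) (fittingOf M)) ∧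
    ((K = ⊥ ∧ IsMulCommutative (fittingHallOf M) ∧ RankLE 2 (fittingHallOf M) ∧
        ¬ RankLE 1 (fittingHallOf M)) ∨
     (∃ p : ℕ, p.Prime ∧
        Nat.card ↥(fittingOf M ⊓ (fittingOf M).map (MulAut.conj g).toMonoidHom) = p ∧
        p ∈ sigma M ∧ p ∉ beta M ∧ ¬ IsMulCommutative (pCore p ↥(fittingHallOf M)) ∧
        IsCyclic (pPrimeCore p ↥(fittingHallOf M)) ∧
        ∀ q : ℕ, q.Prime → q ∣ Nat.card (fittingHallOf M) →
          Monoid.exponent (↥M ⧸ fittingHall ↥M) ∣ q - 1) ∨
     (∃ p : ℕ, p.Prime ∧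
        Nat.card ↥(fittingOf M ⊓ (fittingOf M).map (MulAut.conj g).toMonoidHom) = p ∧
        p ∈ sigma M ∧ p ∉ beta M ∧ IsCyclic (pPrimeCore p ↥(fittingHallOf M)) ∧
        Nat.card (pCore p ↥(fittingHallOf M)) = p ^ 3 ∧
        ¬ IsMulCommutative (pCore p ↥(fittingHallOf M)) ∧ K ≠ ⊥ ∧ U = ⊥ ∧
        (fittingHallOf M).relIndex M ∣ p + 1)) := by
  have hG := h.minSimple
  set X := fittingOf M ⊓ (fittingOf M).map (MulAut.conj g).toMonoidHom with hXdef
  have hXF : ∀ v ∈ X, v ∈ fittingOf M ∧ g⁻¹ * v * g ∈ fittingOf M := by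
    rintro v ⟨hv, w, hw, rfl⟩
    refine ⟨hv, ?_⟩
    convert hw using 1
    simp [mul_assoc]
  have hXS : X ≤ sigmaCore M := fun v hv => by
    refine mem_sigmaCore hG hM (fittingOf_le M (hXF v hv).1) fun r hr hrd => ?_
    obtain ⟨a, ha, hao⟩ := exists_pow_prime hr hrd
    have haX := (zpowers_le.mpr hv) ha
    exact sigma_of_inter h hM hg (hXF a haX).1 (hXF a haX).2 hr hao
  obtain ⟨v₀, hv₀, hv₀1⟩ := H41.exists_ne_one hX
  have hnotTI : ¬ IsTISubset (fittingOf M : Set G) := fun hTI => by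
    have hgN : g ∉ normalizer (fittingOf M : Set G) := by rwa [normalizer_fittingOf h hM]
    have h1 := hTI g hgN _ (hXF v₀ hv₀).2
      (by simpa [mul_assoc] using (hXF v₀ hv₀).1)
    exact hv₀1 (by
      rw [show v₀ = g * (g⁻¹ * v₀ * g) * g⁻¹ by group, h1, mul_one, mul_inv_cancel])
  have hMF : fittingHallOf M = sigmaCore M := by
    by_contra hne
    exact hnotTI (fitting_ti h hM D hne).2.1
  have hnil : Group.IsNilpotent (sigmaCore M) := hMF ▸ isNilpotent_fittingHallOf M
  have hout : ∀ v ∈ X, ∀ r : ℕ, r.Prime → orderOf v = r → Outside M v r := by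
    intro v hv r hr hvo
    refine ⟨hnil, hXS hv, hvo, ?_⟩
    refine not_centralizer_le_of_conj hG hM (hXS hv) (hvo ▸ hr)
      (fun hg' => hg (M.inv_mem_iff.mp hg')) ?_
    rw [inv_inv]
    exact fittingOf_le M (hXF v hv).2
  obtain ⟨p, hp, hpd⟩ := prime_dvd_of_orderOf hv₀1
  obtain ⟨x, hx, hxo⟩ := exists_pow_prime hp hpd
  have hxX : x ∈ X := (zpowers_le.mpr hv₀) hx
  haveI := Fact.mk hp
  have O := hout x hxX p hp hxo
  have hβ : beta M = ∅ := beta_eq_empty_of_centralizer h hM hnil O.mem O.ne_one O.out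
  have hder : ⁅M, M⁆ ≤ fittingOf M :=
    derived_le_fittingOf (isNilpotent_derived_of_centralizer h hM hnil O.mem O.ne_one O.out)
  obtain ⟨hYc, -, hFdec⟩ := sigma'_fitting h hM
  have hFS : fittingOf (sigmaCore M) = sigmaCore M :=
    le_antisymm (fittingOf_le _) (le_fittingOf le_rfl le_normalizer hnil)
  rw [hFS] at hFdec
  have hXc : IsCyclic X := by
    obtain ⟨E, hE⟩ := exists_compl hG hM
    haveI := ((h.sigmaCoreAction M hM E hE).2.2 g hg).1
    exact (subgroupOfEquivOfLe (le_inf hXS (inf_le_right.trans (map_mono (fittingOf_le M))))).isCyclic.mp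
      (Subgroup.isCyclic _)
  refine ⟨⟨hMF ▸ hXS, hXc⟩, ⟨hder, hFdec⟩, ?_⟩
  have hpS : p ∈ sigma M := (hallσ hG hM).2.1 p hp O.card_dvd
  by_cases hab : IsMulCommutative (piCoreOf {p} (sigmaCore M))
  · -- the abelian case
    left
    have hall : ∀ r : ℕ, r.Prime → IsMulCommutative (piCoreOf {r} (sigmaCore M)) := fun r hr => by
      haveI := Fact.mk hr
      by_cases hrp : r = p
      · rwa [hrp]
      · exact O.other_abelian h hM hrp
    have hSc := sigmaCore_commutative hnil hall
    have hK : K = ⊥ := by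
      by_contra hK1
      obtain ⟨-, hKs⟩ := derived_structure h hM D hK1
      refine (h.kCentralizer M hM K D.cyclic D.hall).1 (le_bot_iff.mp (hKs.trans ?_))
      refine (commutator_mono hder hder).trans ?_
      rw [le_bot_iff, commutator_eq_bot_iff_le_centralizer, hFdec]
      have hYX : piCoreOf (sigma' M) (fittingOf M) ≤ centralizer (sigmaCore M : Set G) := by
        refine le_centralizer_of_nilpotent (isNilpotent_fittingOf M) (piCoreOf_le _ _)
          (hFdec ▸ le_sup_left) ?_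
        exact Nat.coprime_of_dvd fun r hr hd hd' =>
          (piCoreOf_isPiNumber (sigma' M) (fittingOf M) r hr hd).2 ((hallσ hG hM).2.1 r hr hd')
      refine sup_le_centralizer_sup (fun a ha => mem_centralizer_iff.mpr fun b hb =>
        PGroups.comm_of_isMulCommutative hSc hb ha) (fun a ha => mem_centralizer_iff.mpr fun b hb => ?_)
        hYX
      haveI := hYc
      letI := IsCyclic.commGroup (α := ↥(piCoreOf (sigma' M) (fittingOf M)))
      exact congrArg Subtype.val (mul_comm (⟨b, hb⟩ : ↥(piCoreOf (sigma' M) (fittingOf M))) ⟨a, ha⟩)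
    rw [hMF]
    refine ⟨hK, hSc, rankLE_of_parts hnil fun r hr => ?_, fun h1 => ?_⟩
    · haveI := Fact.mk hr
      by_cases hrp : r = p
      · subst hrp
        exact O.rankLE_two hG hM (piCoreOf_le _ _) (fun a ha => mem_centralizer_singleton.mpr
          (PGroups.comm_of_isMulCommutative hab ha O.mem_part)) r hr
      · exact O.rankLE_two hG hM (piCoreOf_le _ _) (O.other_le hrp) r hr
    · haveI : IsZGroup (sigmaCore M) := ⟨fun r hr S => by
        haveI := Fact.mk hr
        refine ((S : Subgroup (sigmaCore M)).equivMapOfInjective (sigmaCore M).subtype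
          (sigmaCore M).subtype_injective).isCyclic.mpr ?_
        refine isCyclic_of_rankLE_one hG (S.isPGroup'.map _) fun s hs => ?_
        exact BG11.pRankLE_of_le (map_subtype_le _) (h1 s hs)⟩
      haveI := hnil
      haveI : IsCyclic (sigmaCore M) := inferInstance
      refine O.out ?_
      exfalso
      have hgx := (hXF x hxX).2
      have e : g⁻¹ * x * g = MulAut.conj g⁻¹ x := by simp
      have hgxS : g⁻¹ * x * g ∈ sigmaCore M :=
        mem_sigmaCore hG hM (fittingOf_le M hgx) fun r hr hd => by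
          rw [e, (MulAut.conj g⁻¹).orderOf_eq, hxo] at hd
          exact (Nat.prime_dvd_prime_iff_eq hr hp).mp hd ▸ hpS
      have e1 : (zpowers x).map (MulAut.conj g⁻¹).toMonoidHom = zpowers x :=
        eq_of_card_eq_of_isCyclic (by rw [MonoidHom.map_zpowers]; exact zpowers_le.mpr (e ▸ hgxS))
          (zpowers_le.mpr O.mem) (Coprime.card_map_conj g⁻¹ _)
      have hn : M ≤ normalizer (zpowers x : Set G) := fun m hm =>
        Coprime.mem_normalizer_of_map_conj (eq_of_card_eq_of_isCyclic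
          ((map_mono (zpowers_le.mpr O.mem)).trans
            (Coprime.map_conj_eq (le_normalizer_sigmaCore M hm)).le)
          (zpowers_le.mpr O.mem) (Coprime.card_map_conj m _))
      refine hg (M.inv_mem_iff.mp ?_)
      rw [← OddOrder.normalizer_eq_max hG hM (zpowers_le.mpr (sigmaCore_le M O.mem))
        (zpowers_ne_bot.mpr O.ne_one) hn]
      exact Coprime.mem_normalizer_of_map_conj e1
  · -- the non-abelian case
    right
    have hPU := h.nonabelianUnique p _ (isPGroup_piCoreOf hp (sigmaCore M)) hab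
    have hXp : ∀ v ∈ X, v ^ p = 1 := by
      intro v hv
      have honly : ∀ r : ℕ, r.Prime → r ∣ orderOf v → r = p := by
        intro r hr hd
        by_contra hne
        obtain ⟨a, ha, hao⟩ := exists_pow_prime hr hd
        haveI := Fact.mk hr
        exact (hout a ((zpowers_le.mpr hv) ha) r hr hao).not_unique hG hM (piCoreOf_le _ _)
          ((hout a ((zpowers_le.mpr hv) ha) r hr hao).other_le (Ne.symm hne)) hPU
      obtain ⟨k, hk⟩ : ∃ k, orderOf v = p ^ k :=
        ⟨_, Nat.eq_prime_pow_of_unique_prime_dvd (orderOf_pos v).ne' fun {r} hr hd => honly r hr hd⟩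
      rcases Nat.lt_or_ge k 2 with hk2 | hk2
      · refine orderOf_dvd_iff_pow_eq_one.mp ?_
        rw [hk]
        exact (pow_dvd_pow p (show k ≤ 1 by omega)).trans (pow_one p).dvd
      exfalso
      set y := v ^ p ^ (k - 2)
      have hyo : orderOf y = p ^ 2 := by
        rw [orderOf_pow_of_dvd (pow_ne_zero _ hp.ne_zero) (hk ▸ pow_dvd_pow p (by omega)), hk,
          Nat.pow_div (by omega) hp.pos]
        congr 1
        omega
      have hyP : y ∈ piCoreOf {p} (sigmaCore M) :=
        mem_piCoreOf_of_nilpotent hnil (hXS (pow_mem hv _)) fun r hr hd => by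
          rw [hyo] at hd
          exact (Nat.prime_dvd_prime_iff_eq hr hp).mp (hr.dvd_of_dvd_pow hd)
      have hyp : orderOf (y ^ p) = p := by
        rw [orderOf_pow_of_dvd hp.ne_zero (hyo ▸ dvd_pow_self p two_ne_zero), hyo, pow_two,
          Nat.mul_div_cancel _ hp.pos]
      exact (hout (y ^ p) (pow_mem (pow_mem hv _) p) p hp hyp).no_root h hM hab y hyP rfl
    have hXcard : Nat.card X = p := by
      haveI := hXc
      obtain ⟨a, ha⟩ := IsCyclic.exists_generator (α := X)
      have h1 := orderOf_eq_card_of_forall_mem_zpowers ha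
      have h2 : Nat.card X ∣ p := by
        rw [← h1]
        exact orderOf_dvd_of_pow_eq_one (Subtype.ext (by rw [SubgroupClass.coe_pow]; exact hXp a a.2))
      exact (hp.eq_one_or_self_of_dvd _ h2).resolve_left fun e => hX (card_eq_one.mp e)
    have hpb : p ∉ beta M := by rw [hβ]; exact Set.notMem_empty p
    rw [hMF]
    obtain ⟨hc1, hc2⟩ := pCore_facts (p := p) hp (H := sigmaCore M)
    have hcy := isCyclic_pPrimeCore (p := p) hnil (O.pPrime_cyclic h hM hab)
    by_cases hK1 : K = ⊥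
    · exact Or.inl ⟨p, hp, hXcard, hpS, hpb, hc2 hab, hcy,
        fun q hq hd => O.exponent_kappa_empty h hM hab (kappa_eq_empty D hK1) hq hd⟩
    have hU : U = ⊥ := by
      by_contra hU1
      exact hnotTI (fittingOf_ti h hM D hK1 hU1)
    rcases O.kappa_alternatives h hM D hK1 hU hpb hab with h1 | ⟨h1, h2⟩
    · exact Or.inl ⟨p, hp, hXcard, hpS, hpb, hc2 hab, hcy, h1⟩
    · refine Or.inr ⟨p, hp, hXcard, hpS, hpb, hcy, hc1.trans h1, hc2 hab, hK1, hU, ?_⟩
      rwa [(H41.IsComplIn.relIndex_eq (isComplIn_K D hU)).1]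

end Cfsg.Agent.OddOrder.BG15
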