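import Cfsg.Agent.OddOrder.BG15.FcoreBasic
import Cfsg.Agent.OddOrder.BG15.CentralizerOut

/-!
# Theorem C: `K*` lies in `M_F`, which is not cyclic; `F(M)` is TI when `U ≠ 1`
-/

set_option autoImplicit false
set_option linter.style.haveILetI false
set_option linter.unusedVariables false

universe u

namespace Cfsg.Agent.OddOrder.BG15

open Subgroup H40

variable {G : Type u} [Group G] [Finite G] {M K U : Subgroup G}

omit [Finite G] in
theorem eq_of_card_eq_of_isCyclic [Finite G] {C A B : Subgroup G} [IsCyclic C] (hA : A ≤ C)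
    (hB : B ≤ C) (h : Nat.card A = Nat.card B) : A = B := by
  classical
  letI := Fintype.ofFinite C
  have key : ∀ X : Subgroup G, X ≤ C → ∀ x ∈ X.subgroupOf C, x ^ Nat.card X = 1 := fun X hX x hx => by
    refine Subtype.ext ?_
    exact congrArg (Subtype.val : ↥X → G) (pow_card_eq_one' (x := (⟨x, hx⟩ : X)))
  set n := Nat.card A
  set s : Finset C := Finset.univ.filter fun x => x ^ n = 1
  have hs : s.card ≤ n := IsCyclic.card_pow_eq_one_le Nat.card_pos
  have sub : ∀ X : Subgroup G, X ≤ C → Nat.card X = n → ∀ x : C, (x : G) ∈ X ↔ x ∈ s := by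
    intro X hX hn x
    have h1 : Finset.univ.filter (fun x : C => (x : G) ∈ X) = s := by
      refine Finset.eq_of_subset_of_card_le (fun y hy => ?_) (hs.trans ?_)
      · simp only [Finset.mem_filter, Finset.mem_univ, true_and] at hy
        simpa [s, hn] using key X hX y hy
      · rw [← hn, ← Nat.card_congr (subgroupOfEquivOfLe hX).toEquiv, Nat.card_eq_fintype_card]
        exact le_of_eq (Fintype.card_subtype _)
    rw [← h1]; simp
  ext g
  exact ⟨fun hg => (sub B hB h.symm ⟨g, hA hg⟩).mpr ((sub A hA rfl _).mp hg),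
    fun hg => (sub A hA rfl ⟨g, hB hg⟩).mpr ((sub B hB h.symm _).mp hg)⟩

theorem isCyclic_kStar (h : Facts G) (hM : IsCoatom M) (D : IsSigmaDecomposition M K U)
    (hK1 : K ≠ ⊥) : IsCyclic (kStar M K) := by
  obtain ⟨Ms, ⟨hMs, hK, hKH⟩, -⟩ := h.starExists M hM K U D hK1
  haveI := (h.starInf M hM K U D hK1 Ms hMs hK hKH).2
  exact (subgroupOfEquivOfLe (le_sup_right : kStar M K ≤ K ⊔ kStar M K)).isCyclic.mp
    (Subgroup.isCyclic _)

theorem kStar_le_fittingHallOf (h : Facts G) (hM : IsCoatom M) (D : IsSigmaDecomposition M K U) :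
    kStar M K ≤ fittingHallOf M := by
  by_cases hne : fittingHallOf M = sigmaCore M
  · exact hne ▸ inf_le_left
  · obtain ⟨Q, -, -, -, -, hKQ, hQF, -⟩ := exists_normal_sylow h hM D hne
    exact hKQ.trans hQF

/-- A prime `q` dividing `|K*|` such that the Sylow `q`-subgroup of `M_σ` is normal in `M` and lies
in `M_F`. -/
theorem exists_sylow_kStar (h : Facts G) (hM : IsCoatom M) (D : IsSigmaDecomposition M K U)
    (hK1 : K ≠ ⊥) : ∃ q : ℕ, q.Prime ∧ q ∣ Nat.card (kStar M K) ∧
      ∃ S : Sylow q ↥(sigmaCore M),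
        (S : Subgroup ↥(sigmaCore M)).map (sigmaCore M).subtype ≤ fittingHallOf M := by
  have hKs := (h.kCentralizer M hM K D.cyclic D.hall).1
  by_cases hne : fittingHallOf M = sigmaCore M
  · obtain ⟨q, hq, hd⟩ := Nat.exists_prime_and_dvd (show Nat.card (kStar M K) ≠ 1 from
      fun e => hKs (card_eq_one.mp e))
    haveI := Fact.mk hq
    obtain ⟨S⟩ : Nonempty (Sylow q ↥(sigmaCore M)) := inferInstance
    exact ⟨q, hq, hd, S, (map_subtype_le _).trans hne.ge⟩
  · obtain ⟨Q, hQS, -, hQp, hQh, -, hQF, -⟩ := exists_normal_sylow h hM D hne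
    have hq := kStar_prime_of_ne h hM D hne
    haveI := Fact.mk hq
    obtain ⟨S, hS⟩ := (hQp.comap_subtype (K := sigmaCore M)).exists_le_sylow
    refine ⟨_, hq, dvd_rfl, S, ?_⟩
    have e : Q = (S : Subgroup ↥(sigmaCore M)).map (sigmaCore M).subtype := by
      refine eq_of_le_of_card_ge (fun x hx => ⟨⟨x, hQS hx⟩, hS hx, rfl⟩) ?_
      obtain ⟨n, hn⟩ := IsPGroup.iff_card.mp (S.isPGroup'.map (sigmaCore M).subtype)
      obtain ⟨m, hm⟩ := IsPGroup.iff_card.mp hQp
      have h1 := relIndex_mul_relIndex (⊥ : Subgroup G) Q (sigmaCore M) bot_le hQS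
      rw [relIndex_bot_left, relIndex_bot_left] at h1
      have h2 := card_dvd_of_le (map_subtype_le (S : Subgroup ↥(sigmaCore M)))
      rw [← h1, hn] at h2
      exact Nat.le_of_dvd Nat.card_pos (hn ▸
        ((Nat.Prime.coprime_iff_not_dvd hq).mpr hQh |>.pow_left n).dvd_of_dvd_mul_right h2)
    exact e ▸ hQF

theorem not_isCyclic_fittingHallOf (h : Facts G) (hM : IsCoatom M)
    (D : IsSigmaDecomposition M K U) (hK1 : K ≠ ⊥) : ¬ IsCyclic (fittingHallOf M) := by
  intro hc
  haveI := hc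
  obtain ⟨q, hq, hd, S, hSF⟩ := exists_sylow_kStar h hM D hK1
  haveI := Fact.mk hq
  set Q := (S : Subgroup ↥(sigmaCore M)).map (sigmaCore M).subtype with hQ
  have hQσ : Q ≤ sigmaCore M := map_subtype_le _
  have hKM : K ≤ M := D.hall.1
  haveI : IsCyclic Q := (subgroupOfEquivOfLe hSF).isCyclic.mp (Subgroup.isCyclic _)
  haveI : IsMulCommutative Q := by
    letI := IsCyclic.commGroup (α := Q)
    exact ⟨⟨mul_comm⟩⟩
  obtain ⟨z, hz⟩ := exists_prime_orderOf_dvd_card' (G := kStar M K) q hd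
  obtain ⟨n, hn, hzQ⟩ := BG11.exists_conj_le (isSylowOf_map S)
    (isPGroup_zpowers (x := (z : G)) (by rw [Subgroup.orderOf_coe, hz]))
    (zpowers_le.mpr (inf_le_left (b := centralizer (K : Set G)) z.2))
  have hzo : orderOf (z : G) = q := by rw [Subgroup.orderOf_coe, hz]
  have hzle : zpowers (z : G) ≤ fittingHallOf M :=
    zpowers_le.mpr (kStar_le_fittingHallOf h hM D z.2)
  have hzQ' : zpowers (z : G) ≤ Q := (eq_of_card_eq_of_isCyclic hzle (hzQ.trans hSF)
    (card_cj n (zpowers (z : G))).symm).le.trans hzQ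
  have hKQ : K ≤ normalizer (Q : Set G) := by
    intro k hk
    refine Coprime.mem_normalizer_of_map_conj (eq_of_card_eq_of_isCyclic ?_ hSF
      (Coprime.card_map_conj k Q))
    exact (map_mono hSF).trans
      (Coprime.map_conj_eq (le_normalizer_fittingHallOf M (hKM hk))).le
  have hle : K ≤ centralizer (Q : Set G) := by
    refine Coprime.le_centralizer_of_prime_order hKQ
      ((coprime_K_sigmaCore D).coprime_dvd_right (card_dvd_of_le hQσ)) fun v hv hvp a ha => ?_
    have hvq : orderOf v = q :=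
      (Nat.prime_dvd_prime_iff_eq hvp hq).mp
        (by
          obtain ⟨e, he⟩ := IsPGroup.iff_card.mp (S.isPGroup'.map (sigmaCore M).subtype)
          exact hvp.dvd_of_dvd_pow (he ▸ orderOf_dvd_card hv))
    have e : zpowers v = zpowers (z : G) := eq_of_card_eq_of_isCyclic (zpowers_le.mpr (hSF hv)) hzle
      (by rw [Nat.card_zpowers, Nat.card_zpowers, hvq, hzo])
    obtain ⟨i, hi⟩ := mem_zpowers_iff.mp (e ▸ mem_zpowers v : v ∈ zpowers (z : G))
    have hcomm : Commute a (z : G) := mem_centralizer_iff.mp z.2.2 a ha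
    rw [← hi]
    exact (hcomm.zpow_right i).eq
  exact (((h.starSylow M hM K D.hall hK1).2.2.1 q hq hd S).2.2)
    (le_inf hQσ (le_centralizer_iff.mp hle))

/-- S1372, the TI property. -/
theorem fittingOf_ti (h : Facts G) (hM : IsCoatom M) (D : IsSigmaDecomposition M K U)
    (hK1 : K ≠ ⊥) (hU1 : U ≠ ⊥) : IsTISubset (fittingOf M : Set G) := by
  have hG := h.minSimple
  obtain ⟨-, hnil, hCU, -⟩ := P2_structure h hM D hK1 hU1
  intro g hg x hx hgx
  by_contra hx1
  have hgM : g ∉ M := fun hgM => hg (le_normalizer_fittingOf M hgM)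
  obtain ⟨y, hy, hyp, -⟩ := exists_prime_part hx1
  have hyF : y ∈ fittingOf M := (zpowers_le.mpr hx) hy
  have hgyF : g * y * g⁻¹ ∈ fittingOf M := by
    obtain ⟨i, rfl⟩ := mem_zpowers_iff.mp hy
    rw [← conj_zpow]
    exact zpow_mem hgx i
  haveI := Fact.mk hyp
  by_cases hσ : orderOf y ∈ sigma M
  · have hyσ : y ∈ sigmaCore M :=
      mem_sigmaCore hG hM (fittingOf_le M hyF) fun p hp hd =>
        (Nat.prime_dvd_prime_iff_eq hp hyp).mp hd ▸ hσ
    have hd := isNilpotent_derived_of_centralizer h hM hnil hyσ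
      (ne_one_of_prime_orderOf hyp rfl)
      (not_centralizer_le_of_conj hG hM hyσ hyp hgM (fittingOf_le M hgyF))
    obtain ⟨h1, -⟩ := derived_structure h hM D hK1
    have hle : sigmaCore M ≤ centralizer (U : Set G) :=
      le_centralizer_of_nilpotent hd (h1 ▸ le_sup_right) (h1 ▸ le_sup_left)
        ((Nat.Coprime.coprime_mul_left_right
          ((mul_comm (Nat.card U) (Nat.card K)) ▸ coprime_UK_sigmaCore hG hM D).symm))
    exact BG10.sigmaCore_ne_bot hG hM (le_bot_iff.mp (hCU ▸ le_inf le_rfl hle))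
  · have hY : ∀ w ∈ fittingOf M, orderOf w = orderOf y → w ∈ piCoreOf (sigma' M) (fittingOf M) :=
      fun w hw hwo => mem_piCoreOf_of_nilpotent (isNilpotent_fittingOf M) hw fun p hp hd => by
        rw [hwo] at hd
        exact ⟨hp, (Nat.prime_dvd_prime_iff_eq hp hyp).mp hd ▸ hσ⟩
    obtain ⟨hYc, -, -⟩ := sigma'_fitting h hM
    haveI := hYc
    have ho : orderOf (g * y * g⁻¹) = orderOf y := (MulAut.conj g).orderOf_eq y
    have hyY := hY y hyF rfl
    have e : (zpowers y).map (MulAut.conj g).toMonoidHom = zpowers y := by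
      rw [MonoidHom.map_zpowers]
      refine eq_of_card_eq_of_isCyclic (zpowers_le.mpr (hY _ hgyF ho)) (zpowers_le.mpr hyY) ?_
      rw [Nat.card_zpowers, Nat.card_zpowers]
      exact ho
    have hn : M ≤ normalizer (zpowers y : Set G) := by
      intro m hm
      refine Coprime.mem_normalizer_of_map_conj (eq_of_card_eq_of_isCyclic ?_ (zpowers_le.mpr hyY)
        (Coprime.card_map_conj m _))
      exact (map_mono (zpowers_le.mpr hyY)).trans
        (Coprime.map_conj_eq (le_normalizer_fitting_sigma' M hm)).le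
    refine hgM ?_
    rw [← OddOrder.normalizer_eq_max hG hM (zpowers_le.mpr (fittingOf_le M hyF))
      (fun e' => hyp.ne_one (by rw [← Nat.card_zpowers, e', card_bot])) hn]
    exact Coprime.mem_normalizer_of_map_conj e

end Cfsg.Agent.OddOrder.BG15
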