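import Cfsg.Agent.OddOrder.BG15.NonTI
import Cfsg.Agent.OddOrder.BG15.Instance
import Cfsg.Agent.OddOrder.BG16.FromSections

/-!
# The weak S1440 holds
-/

set_option autoImplicit false

universe u

namespace Cfsg.Agent.OddOrder.BG15

theorem fittingNonTI {G : Type u} [Group G] [Finite G] (hG : Cfsg.IsMinSimpleOddOrder G) :
    BG16.FittingNonTI G := fun M hM K U D g hg hX => nonTI_structure (facts hG) hM D hg hX

end Cfsg.Agent.OddOrder.BG15
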