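import Cfsg.Agent.OddOrder.BG15.Fti
import Cfsg.Agent.OddOrder.BG15.ThmC
import Cfsg.Agent.OddOrder.BG5.Action
import Cfsg.Agent.OddOrder.BG11.BetaCore
import Cfsg.Agent.S1399
import Cfsg.Agent.S1403

/-!
# BG 15.7: what an element `x` of prime order of `M_σ` with `C(x) ≰ M` implies for a nilpotent `M_σ`
-/

set_option autoImplicit false
set_option linter.style.haveILetI false
set_option linter.unusedVariables false

universe u

namespace Cfsg.Agent.OddOrder.BG15

open Subgroup H40
open scoped commutatorElement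

variable {G : Type u} [Group G] [Finite G] {M : Subgroup G}

/-- A proper inclusion of `p`-groups multiplies the order by at least `p`. -/
theorem mul_card_le_of_lt {p : ℕ} [hp : Fact p.Prime] {A B : Subgroup G} (hB : IsPGroup p B)
    (h : A < B) : p * Nat.card A ≤ Nat.card B := by
  have e := relIndex_mul_relIndex (⊥ : Subgroup G) A B bot_le h.le
  rw [relIndex_bot_left, relIndex_bot_left] at e
  obtain ⟨n, hn⟩ := IsPGroup.iff_card.mp hB
  obtain ⟨k, -, hk⟩ := (Nat.dvd_prime_pow hp.out).mp (hn ▸ Dvd.intro_left _ e)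
  have hk0 : k ≠ 0 := fun h0 => by
    rw [h0, pow_zero] at hk
    exact h.not_ge (relIndex_eq_one.mp hk)
  rw [← e, mul_comm, hk]
  exact Nat.mul_le_mul_left _ (Nat.le_self_pow hk0 p)

theorem pRankLE_mono {p k l : ℕ} {X : Type*} [Group X] (hp : p.Prime) (hkl : k ≤ l)
    (h : PRankLE p k X) : PRankLE p l X := fun A hA hAp =>
  (h A hA hAp).trans (Nat.pow_le_pow_right hp.pos hkl)

theorem isCyclic_of_rankLE_one (hG : IsMinSimpleOddOrder G) {p : ℕ} [hp : Fact p.Prime]
    {P : Subgroup G} (hP : IsPGroup p P) (h : RankLE 1 P) : IsCyclic P := by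
  rcases eq_or_ne P ⊥ with rfl | hne
  · infer_instance
  obtain ⟨n, hn⟩ := IsPGroup.iff_card.mp hP
  have h0 : n ≠ 0 := fun h0 => hne (card_eq_one.mp (by rw [hn, h0, pow_zero]))
  exact isCyclic_of_pRankLE_one (OddOrder.ne_two_of_dvd hG
    (hn ▸ dvd_pow_self p h0 : p ∣ Nat.card P)) hP le_rfl
    (h p hp.out)

/-- The hypotheses: `M_σ` nilpotent, `x ∈ M_σ` of order `p` and `C(x) ≰ M`. -/
structure Outside (M : Subgroup G) (x : G) (p : ℕ) : Prop where
  nil : Group.IsNilpotent (sigmaCore M)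
  mem : x ∈ sigmaCore M
  order : orderOf x = p
  out : ¬ centralizer ({x} : Set G) ≤ M

theorem le_primePart (hnil : Group.IsNilpotent (sigmaCore M)) {r : ℕ} [hr : Fact r.Prime]
    {A : Subgroup G} (hA : A ≤ sigmaCore M) (hAp : IsPGroup r A) :
    A ≤ piCoreOf {r} (sigmaCore M) := fun a ha =>
  mem_piCoreOf_of_nilpotent hnil (hA ha) fun q hq hd => by
    obtain ⟨n, hn⟩ := IsPGroup.iff_card.mp hAp
    exact (Nat.prime_dvd_prime_iff_eq hq hr.out).mp
      (hq.dvd_of_dvd_pow (hd.trans (hn ▸ orderOf_dvd_card ha)))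

theorem isSylowOf_primePart (hG : IsMinSimpleOddOrder G) (hM : IsCoatom M)
    (hnil : Group.IsNilpotent (sigmaCore M)) {r : ℕ} [hr : Fact r.Prime]
    (hd : r ∣ Nat.card (sigmaCore M)) :
    IsSylowOf r (piCoreOf {r} (sigmaCore M)) M := by
  set R := piCoreOf {r} (sigmaCore M)
  have hRS : R ≤ sigmaCore M := piCoreOf_le _ _
  obtain ⟨T, hT, hRT⟩ := BG11.exists_sylowOf_ge' (isPGroup_piCoreOf hr.out (sigmaCore M))
    (hRS.trans (sigmaCore_le M))
  have hTS : T ≤ sigmaCore M := by
    refine le_sigmaCore_of_piNumber hG hM hT.1 fun q hq hqd => ?_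
    obtain ⟨n, hn⟩ := IsPGroup.iff_card.mp hT.2.1
    exact (Nat.prime_dvd_prime_iff_eq hq hr.out).mp (hq.dvd_of_dvd_pow (hn ▸ hqd)) ▸
      (hallσ hG hM).2.1 r hr.out hd
  have e : R = T := le_antisymm hRT (le_primePart hnil hTS hT.2.1)
  rw [e]
  exact hT

theorem le_centralizer_other {p r : ℕ} [hp : Fact p.Prime] [hr : Fact r.Prime]
    (hnil : Group.IsNilpotent (sigmaCore M)) (hne : r ≠ p) {A : Subgroup G}
    (hA : A ≤ sigmaCore M) (hAp : IsPGroup p A) :
    piCoreOf {r} (sigmaCore M) ≤ centralizer (A : Set G) := by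
  refine le_centralizer_of_nilpotent hnil (piCoreOf_le _ _) hA ?_
  obtain ⟨a, ha⟩ := IsPGroup.iff_card.mp (isPGroup_piCoreOf hr.out (sigmaCore M))
  obtain ⟨b, hb⟩ := IsPGroup.iff_card.mp hAp
  rw [ha, hb]
  exact Nat.Coprime.pow _ _ ((Nat.coprime_primes hr.out hp.out).mpr hne)

section

variable {x : G} {p : ℕ} [hp : Fact p.Prime]

theorem Outside.ne_one (O : Outside M x p) : x ≠ 1 := ne_one_of_prime_orderOf hp.out O.order

theorem Outside.mem_part (O : Outside M x p) : x ∈ piCoreOf {p} (sigmaCore M) :=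
  le_primePart O.nil (zpowers_le.mpr O.mem) (isPGroup_zpowers O.order) (mem_zpowers x)

theorem Outside.card_dvd (O : Outside M x p) : p ∣ Nat.card (sigmaCore M) :=
  O.order ▸ orderOf_dvd_card O.mem

/-- No uniqueness subgroup of `M_σ` centralises `x`. -/
theorem Outside.not_unique (O : Outside M x p) (hG : IsMinSimpleOddOrder G) (hM : IsCoatom M)
    {X : Subgroup G} (hX : X ≤ sigmaCore M) (hXc : X ≤ centralizer ({x} : Set G))
    (hU : InUniqueMaximal X) : False :=
  O.out (BG11.le_of_inUniqueMaximal hU hM (hX.trans (sigmaCore_le M))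
    (centralizer_singleton_ne_top hG O.ne_one) hXc)

theorem Outside.rankLE_two (O : Outside M x p) (hG : IsMinSimpleOddOrder G) (hM : IsCoatom M)
    {X : Subgroup G} (hX : X ≤ sigmaCore M) (hXc : X ≤ centralizer ({x} : Set G)) :
    RankLE 2 X := by
  by_contra h
  exact O.not_unique hG hM hX hXc (Cfsg.Agent.S1403.result hG X
    (BG11.ne_top_of_le_coatom hM (hX.trans (sigmaCore_le M)))
    (fun h1 => h fun q hq => pRankLE_mono hq one_le_two (h1 q hq)) (Or.inl h))

theorem Outside.other_le (O : Outside M x p) {r : ℕ} [hr : Fact r.Prime] (hne : r ≠ p) :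
    piCoreOf {r} (sigmaCore M) ≤ centralizer ({x} : Set G) := by
  rw [← centralizer_zpowers]
  exact le_centralizer_other O.nil hne (zpowers_le.mpr O.mem) (isPGroup_zpowers O.order)

theorem Outside.other_abelian (O : Outside M x p) (h : Facts G) (hM : IsCoatom M) {r : ℕ}
    [hr : Fact r.Prime] (hne : r ≠ p) : IsMulCommutative (piCoreOf {r} (sigmaCore M)) := by
  by_contra hc
  exact O.not_unique h.minSimple hM (piCoreOf_le _ _) (O.other_le hne)
    (h.nonabelianUnique r _ (isPGroup_piCoreOf hr.out _) hc)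

theorem Outside.other_cyclic (O : Outside M x p) (h : Facts G) (hM : IsCoatom M)
    (hP : ¬ IsMulCommutative (piCoreOf {p} (sigmaCore M))) {r : ℕ} [hr : Fact r.Prime]
    (hne : r ≠ p) : IsCyclic (piCoreOf {r} (sigmaCore M)) := by
  refine isCyclic_of_rankLE_one h.minSimple (isPGroup_piCoreOf hr.out _) ?_
  by_contra hr1
  have hPU := h.nonabelianUnique p _ (isPGroup_piCoreOf hp.out (sigmaCore M)) hP
  refine O.not_unique h.minSimple hM (piCoreOf_le _ _) (O.other_le hne) ?_
  exact Cfsg.Agent.S1399.result h.minSimple _ _ hPU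
    (le_centralizer_other O.nil hne (piCoreOf_le _ _) (isPGroup_piCoreOf hp.out _)) hr1

/-- `O_p'(M_σ)` is cyclic when `O_p(M_σ)` is not abelian. -/
theorem Outside.pPrime_cyclic (O : Outside M x p) (h : Facts G) (hM : IsCoatom M)
    (hP : ¬ IsMulCommutative (piCoreOf {p} (sigmaCore M))) :
    IsCyclic (piCoreOf {q | q ∉ ({p} : Set ℕ)} (sigmaCore M)) := by
  set C := piCoreOf {q | q ∉ ({p} : Set ℕ)} (sigmaCore M)
  have hCS : C ≤ sigmaCore M := piCoreOf_le _ _
  haveI : IsZGroup C := ⟨fun r hr S => by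
    haveI := Fact.mk hr
    have hSp : IsPGroup r ((S : Subgroup C).map C.subtype) := S.isPGroup'.map _
    refine ((S : Subgroup C).equivMapOfInjective C.subtype C.subtype_injective).isCyclic.mpr ?_
    by_cases hrp : r = p
    · have h1 : (S : Subgroup C).map C.subtype = ⊥ := by
        refine card_eq_one.mp ?_
        obtain ⟨n, hn⟩ := IsPGroup.iff_card.mp hSp
        by_contra h1
        have hrd : r ∣ Nat.card C := by
          refine (dvd_trans ?_ (card_dvd_of_le (map_subtype_le (S : Subgroup C))))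
          rw [hn]
          exact dvd_pow_self r fun e => h1 (by rw [hn, e, pow_zero])
        exact piCoreOf_isPiNumber _ (sigmaCore M) r hr hrd hrp
      rw [h1]
      infer_instance
    · haveI := O.other_cyclic h hM hP (r := r) hrp
      exact (subgroupOfEquivOfLe (le_primePart O.nil ((map_subtype_le _).trans hCS) hSp)).isCyclic.mp
        (Subgroup.isCyclic _)⟩
  haveI : Group.IsNilpotent C := isNilpotent_of_le hCS O.nil
  infer_instance

theorem Outside.not_central (O : Outside M x p) (h : Facts G) (hM : IsCoatom M)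
    (hP : ¬ IsMulCommutative (piCoreOf {p} (sigmaCore M))) :
    ¬ ∀ w ∈ piCoreOf {p} (sigmaCore M), w * x = x * w := fun hc =>
  O.not_unique h.minSimple hM (piCoreOf_le _ _)
    (fun w hw => mem_centralizer_singleton.mpr (hc w hw))
    (h.nonabelianUnique p _ (isPGroup_piCoreOf hp.out (sigmaCore M)) hP)

/-- `Ω₁(Z(O_p(M_σ)))` has order `p`. -/
theorem Outside.exists_center_line (O : Outside M x p) (h : Facts G) (hM : IsCoatom M)
    (hP : ¬ IsMulCommutative (piCoreOf {p} (sigmaCore M))) :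
    ∃ z ∈ piCoreOf {p} (sigmaCore M), orderOf z = p ∧
      (∀ w ∈ piCoreOf {p} (sigmaCore M), w * z = z * w) ∧
      ∀ v ∈ piCoreOf {p} (sigmaCore M), v ^ p = 1 →
        (∀ w ∈ piCoreOf {p} (sigmaCore M), w * v = v * w) → v ∈ zpowers z := by
  have hG := h.minSimple
  set P := piCoreOf {p} (sigmaCore M)
  have hPp : IsPGroup p P := isPGroup_piCoreOf hp.out _
  have hP1 : P ≠ ⊥ := fun e => O.ne_one (mem_bot.mp (e ▸ O.mem_part))
  obtain ⟨z, hzP, hzo, hzc⟩ := Components.exists_central_orderOf hPp hP1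
  have hzc' : ∀ w ∈ P, w * z = z * w := fun w hw => mem_centralizer_singleton.mp (hzc hw)
  refine ⟨z, hzP, hzo, hzc', fun v hv hvp hvc => ?_⟩
  by_contra hvz
  set A := zpowers z ⊔ zpowers v
  have hA : IsElementaryAbelian p A := BG5.elementary_sup
    (BG5.elementary_zpowers (hzo ▸ pow_orderOf_eq_one z)) (BG5.elementary_zpowers hvp)
    (zpowers_le.mpr (by
      rw [centralizer_zpowers]
      exact mem_centralizer_singleton.mpr (hzc' v hv)))
  have hAP : A ≤ P := sup_le (zpowers_le.mpr hzP) (zpowers_le.mpr hv)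
  have hAc : P ≤ centralizer (A : Set G) := by
    rw [le_centralizer_iff]
    exact sup_le (zpowers_le.mpr (mem_centralizer_iff.mpr fun w hw => hzc' w hw))
      (zpowers_le.mpr (mem_centralizer_iff.mpr fun w hw => hvc w hw))
  set B := A ⊔ zpowers x
  have hB : IsElementaryAbelian p B := BG5.elementary_sup hA
    (BG5.elementary_zpowers (O.order ▸ pow_orderOf_eq_one x))
    (zpowers_le.mpr (hAc O.mem_part))
  have hBP : B ≤ P := sup_le hAP (zpowers_le.mpr O.mem_part)
  have h1 : zpowers z < A := left_lt_sup.mpr fun hle => hvz (hle (mem_zpowers v))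
  have h2 : A < B := left_lt_sup.mpr fun hle => O.not_central h hM hP fun w hw =>
    (mem_centralizer_iff.mp (hAc hw) x (hle (mem_zpowers x))).symm
  have h3 := mul_card_le_of_lt (hPp.to_le hAP) h1
  have h4 := mul_card_le_of_lt (hPp.to_le hBP) h2
  rw [Nat.card_zpowers, hzo] at h3
  have hBx : B ≤ centralizer ({x} : Set G) := fun b hb => mem_centralizer_singleton.mpr
    (PGroups.comm_of_isMulCommutative hB.1 hb (mem_sup_right (mem_zpowers x)))
  have h5 := BG11.card_le_of_pRankLE
    (O.rankLE_two hG hM (hBP.trans (piCoreOf_le _ _)) hBx p hp.out) le_rfl hB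
  have : p * (p * p) ≤ p ^ 2 := ((Nat.mul_le_mul_left p h3).trans h4).trans h5
  nlinarith [hp.out.one_lt]

/-- `x` is not a `p`-th power in a non-abelian `O_p(M_σ)`. -/
theorem Outside.no_root (O : Outside M x p) (h : Facts G) (hM : IsCoatom M)
    (hP : ¬ IsMulCommutative (piCoreOf {p} (sigmaCore M))) :
    ∀ y ∈ piCoreOf {p} (sigmaCore M), y ^ p ≠ x := by
  have hG := h.minSimple
  intro y hy hyx
  set P := piCoreOf {p} (sigmaCore M)
  have hPp : IsPGroup p P := isPGroup_piCoreOf hp.out _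
  have hPS := isSylowOf_primePart hG hM O.nil O.card_dvd
  have hp2 : p ≠ 2 :=
    OddOrder.ne_two_of_dvd hG O.card_dvd
  by_cases hr : PRankLE p 2 P
  · obtain ⟨S₀, hS₀⟩ := BG11.exists_sylow_eq hPS
    obtain ⟨T, hT⟩ := OddOrder.exists_sylow_of_mem_sigma
      ((hallσ hG hM).2.1 p hp.out O.card_dvd) S₀
    rw [hS₀] at hT
    change (T : Subgroup G) = P at hT
    rcases h.sylowRankTwo p T (by rw [hT]; exact hr) with hab |
        ⟨P₁, P₂, hsup, hc, -, -, hexp, hcyc, -⟩
    · exact hP (by rw [← hT]; exact hab)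
    rw [hT] at hsup
    have h12 : P₂ ≤ centralizer (P₁ : Set G) := fun b hb =>
      mem_centralizer_iff.mpr fun a ha => hc a ha b hb
    obtain ⟨a, ha, b, hb, rfl⟩ :=
      (Coprime.mem_sup_iff (h12.trans (centralizer_le_normalizer _))).mp
        (show y ∈ P₁ ⊔ P₂ by rw [hsup]; exact hy)
    have hap : a ^ p = 1 := hexp ▸ pow_exponent_eq_one ha
    rw [(show Commute a b from hc a ha b hb).mul_pow, hap, one_mul] at hyx
    refine O.not_central h hM hP fun w hw => ?_
    have hxP₂ : x ∈ P₂ := hyx ▸ pow_mem hb p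
    have hP₂ : ∀ u ∈ P₂, ∀ v ∈ P₂, u * v = v * u := fun u hu v hv => by
      haveI := hcyc
      letI := IsCyclic.commGroup (α := P₂)
      exact congrArg Subtype.val (mul_comm (⟨u, hu⟩ : P₂) ⟨v, hv⟩)
    replace hw : w ∈ P₁ ⊔ P₂ := hsup ▸ (show w ∈ P from hw)
    obtain ⟨a', ha', b', hb', rfl⟩ :=
      (Coprime.mem_sup_iff (h12.trans (centralizer_le_normalizer _))).mp hw
    exact ((Commute.mul_left (hc a' ha' x hxP₂) (hP₂ b' hb' x hxP₂)) : Commute (a' * b') x).eq
  · obtain ⟨z, hzP, hzo, hzc, -⟩ := O.exists_center_line h hM hP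
    set x' : P := ⟨x, O.mem_part⟩
    set z' : P := ⟨z, hzP⟩
    set E : Subgroup P := zpowers x' ⊔ zpowers z'
    have hxo' : orderOf x' = p := (Subgroup.orderOf_mk x O.mem_part).trans O.order
    have hzo' : orderOf z' = p := (Subgroup.orderOf_mk z hzP).trans hzo
    have hzcen : z' ∈ center P := Subgroup.mem_center_iff.mpr fun w => Subtype.ext (hzc w w.2)
    have hE : IsElementaryAbelian p E := BG5.elementary_sup
      (BG5.elementary_zpowers (hxo' ▸ pow_orderOf_eq_one x'))
      (BG5.elementary_zpowers (hzo' ▸ pow_orderOf_eq_one z'))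
      (zpowers_le.mpr (mem_centralizer_iff.mpr fun w _ => Subgroup.mem_center_iff.mp hzcen w))
    have hbound : ∀ B : Subgroup P, IsElementaryAbelian p B → x' ∈ B → Nat.card B ≤ p ^ 2 := by
      intro B hB hxB
      rw [← card_map_of_injective P.subtype_injective]
      have hBe : IsElementaryAbelian p (B.map P.subtype) := by
        haveI := hB.1
        refine ⟨map_isMulCommutative B _, ?_⟩
        rintro _ ⟨b, hb, rfl⟩
        rw [← map_pow, hB.2 b hb, map_one]
      refine BG11.card_le_of_pRankLE (O.rankLE_two hG hM ((map_subtype_le B).trans (piCoreOf_le _ _))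
        ?_ p hp.out) le_rfl hBe
      rintro _ ⟨b, hb, rfl⟩
      exact mem_centralizer_singleton.mpr
        (congrArg Subtype.val (PGroups.comm_of_isMulCommutative hB.1 hb hxB))
    have hlt : zpowers z' < E := right_lt_sup.mpr fun hle => O.not_central h hM hP fun w hw => by
      have h1 : x' ∈ center P := (zpowers_le.mpr hzcen) (hle (mem_zpowers x'))
      exact congrArg Subtype.val (Subgroup.mem_center_iff.mp h1 ⟨w, hw⟩)
    have hEc : Nat.card E = p ^ 2 := by
      refine le_antisymm (hbound E hE (mem_sup_left (mem_zpowers x'))) ?_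
      have h3 := mul_card_le_of_lt (G := ↥P) (hPp.to_subgroup E) hlt
      rwa [Nat.card_zpowers, hzo', ← pow_two] at h3
    have hN : BG5.NarrowData p P E := ⟨hr, hE, hEc, fun B hB hEB =>
      (eq_of_le_of_card_ge hEB (hEc ▸ hbound B hB (hEB (mem_sup_left (mem_zpowers x'))))).symm⟩
    obtain ⟨-, -, hnot, hidx⟩ := hN.main hp2 hPp
    obtain ⟨-, -, -, hchar, -⟩ := BG5.narrow_conclusion hp2 hPp hN
    refine hnot (sup_le (zpowers_le.mpr ?_) (zpowers_le.mpr ?_))
    · haveI : (centralizer (BG5.omegaSecond p P : Set P)).Normal :=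
        normal_of_characteristic (h := hchar) _
      have := Subgroup.pow_index_mem (centralizer (BG5.omegaSecond p P : Set P)) (⟨y, hy⟩ : P)
      rw [hidx] at this
      rwa [show x' = (⟨y, hy⟩ : P) ^ p from Subtype.ext (by rw [SubgroupClass.coe_pow]; exact hyx.symm)]
    · exact mem_centralizer_iff.mpr fun w _ => Subgroup.mem_center_iff.mp hzcen w

end

end Cfsg.Agent.OddOrder.BG15
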