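import Cfsg.Agent.OddOrder.BG15.Decomp
import Cfsg.Agent.OddOrder.BG11.SylowOf
import Cfsg.Agent.PGroups.MaxAbelian
import Cfsg.Agent.H41.UTheorem
import Mathlib.GroupTheory.SpecificGroups.ZGroup

/-!
# Elements of `M` outside `M_σ` centralizing elements of `M_σ`
-/

set_option autoImplicit false
set_option linter.style.haveILetI false
set_option linter.unusedVariables false

universe u

namespace Cfsg.Agent.OddOrder.BG15

open Subgroup H40

variable {G : Type u} [Group G] [Finite G]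

theorem prime_dvd_of_orderOf {x : G} (hx : x ≠ 1) : ∃ p : ℕ, p.Prime ∧ p ∣ orderOf x :=
  Nat.exists_prime_and_dvd fun h => hx (orderOf_eq_one_iff.mp h)

/-- A non-identity element has a power of prime order, for any prime dividing its order. -/
theorem exists_pow_prime {x : G} {p : ℕ} (hp : p.Prime) (hd : p ∣ orderOf x) :
    ∃ y ∈ zpowers x, orderOf y = p :=
  ⟨x ^ (orderOf x / p), pow_mem (mem_zpowers x) _, orderOf_pow_orderOf_div (orderOf_pos x).ne' hd⟩

theorem commute_of_mem_zpowers {x y s : G} (hy : y ∈ zpowers x) (h : x * s = s * x) :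
    y * s = s * y := by
  obtain ⟨i, rfl⟩ := mem_zpowers_iff.mp hy
  exact (Commute.zpow_left h i)

theorem ne_one_of_prime_orderOf {x : G} {p : ℕ} (hp : p.Prime) (h : orderOf x = p) : x ≠ 1 :=
  fun e => hp.ne_one (by rw [← h, e, orderOf_one])

theorem isPGroup_zpowers {x : G} {p : ℕ} (h : orderOf x = p) : IsPGroup p (zpowers x) :=
  IsPGroup.of_card (n := 1) (by rw [Nat.card_zpowers, h, pow_one])

theorem centralizer_zpowers (x : G) :
    centralizer ((zpowers x : Subgroup G) : Set G) = centralizer ({x} : Set G) := by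
  rw [zpowers_eq_closure, centralizer_closure]

theorem mem_centralizer_singleton {x y : G} : y ∈ centralizer ({x} : Set G) ↔ y * x = x * y := by
  rw [mem_centralizer_iff]
  exact ⟨fun h => (h x rfl).symm, fun h z hz => by rw [Set.mem_singleton_iff.mp hz, h]⟩

theorem inf_centralizer_ne_bot_iff {X Y : Subgroup G} :
    Y ⊓ centralizer (X : Set G) ≠ ⊥ ↔ ∃ s ∈ Y, s ≠ 1 ∧ ∀ x ∈ X, x * s = s * x := by
  constructor
  · intro h
    obtain ⟨s, hs, hs1⟩ := H41.exists_ne_one h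
    exact ⟨s, hs.1, hs1, fun x hx => mem_centralizer_iff.mp hs.2 x hx⟩
  · rintro ⟨s, hs, hs1, hc⟩ h
    exact hs1 (mem_bot.mp (h ▸ mem_inf.mpr ⟨hs, mem_centralizer_iff.mpr hc⟩))

theorem isCyclic_of_pRankLE_one {p : ℕ} [hp : Fact p.Prime] (hp2 : p ≠ 2) {P M : Subgroup G}
    (hP : IsPGroup p P) (hPM : P ≤ M) (h : PRankLE p 1 M) : IsCyclic P := by
  by_contra hc
  obtain ⟨E, hEP, hEc, hEe, hE⟩ := H41.exists_elementary_sq_of_not_isCyclic hp2 hP hc
  exact H41.not_pRankLE hp.out.one_lt (hEP.trans hPM) hEc hEe hE.ge h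

/-- An element of prime order outside `σ ∪ κ` of rank one is fixed-point-free on `M_σ`. -/
theorem kappa_fpf (hG : IsMinSimpleOddOrder G) {M : Subgroup G} (hM : IsCoatom M) {p : ℕ}
    (hp : p.Prime) (hs : p ∉ sigma M) (hk : p ∉ kappa M) (hr : PRankLE p 1 M) {x : G}
    (hx : x ∈ M) (hxo : orderOf x = p) {s : G} (hsσ : s ∈ sigmaCore M) (hc : x * s = s * x) :
    s = 1 := by
  by_contra hs1
  haveI := Fact.mk hp
  have hd : p ∣ Nat.card M := hxo ▸ orderOf_dvd_card hx
  refine hk ⟨hp, hd, hs, fun P => ?_⟩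
  have hPp : IsPGroup p ((P : Subgroup M).map M.subtype) := P.isPGroup'.map _
  haveI := isCyclic_of_pRankLE_one (OddOrder.ne_two_of_dvd hG hd) hPp (map_subtype_le _) hr
  have e := (P : Subgroup M).equivMapOfInjective M.subtype M.subtype_injective
  refine ⟨isCyclic_of_surjective e.symm e.symm.surjective, ?_⟩
  obtain ⟨m, hm, hle⟩ := BG11.exists_conj_le (S := (P : Subgroup M).map M.subtype) (M := M)
    (isSylowOf_map P) (isPGroup_zpowers hxo) (zpowers_le.mpr hx)
  obtain ⟨z, hz, hzx⟩ := hle (conj_mem_cj m (mem_zpowers x))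
  refine ⟨z, hz, ?_, m * s * m⁻¹,
    Coprime.conj_mem ((le_normalizer_sigmaCore M) hm) hsσ, fun h => hs1 ?_, ?_⟩
  · intro h
    refine ne_one_of_prime_orderOf hp hxo ?_
    rw [h, map_one] at hzx
    exact conj_eq_one_iff.mp hzx.symm
  · exact conj_eq_one_iff.mp h
  · rw [show (z : G) = m * x * m⁻¹ from hzx]
    calc m * x * m⁻¹ * (m * s * m⁻¹) = m * (x * s) * m⁻¹ := by group
      _ = m * (s * x) * m⁻¹ := by rw [hc]
      _ = m * s * m⁻¹ * (m * x * m⁻¹) := by group

/-- BG 14.3 for one element. -/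
theorem sigma'_cases (h : Facts G) {M : Subgroup G} (hM : IsCoatom M) {x : G} (hx : x ∈ M)
    (hx1 : x ≠ 1) (hσ : ∀ p : ℕ, p.Prime → p ∣ orderOf x → p ∉ sigma M) {s : G}
    (hs : s ∈ sigmaCore M) (hs1 : s ≠ 1) (hc : x * s = s * x) :
    ((∀ p : ℕ, p.Prime → p ∣ orderOf x → p ∈ kappa M) ∧ centralizer ({s} : Set G) ≤ M) ∨
      ((∀ p : ℕ, p.Prime → p ∣ orderOf x → p ∈ tau2 M) ∧
        (∃ L : Subgroup G, IsCoatom L ∧ ∀ p : ℕ, p.Prime → p ∣ orderOf x → p ∈ sigma L) ∧
        (centralizer ({x} : Set G) ≤ M ∧ ∀ L : Subgroup G, IsCoatom L →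
          centralizer ({x} : Set G) ≤ L → L = M)) :=
  h.sigmaHatCases M hM s hs hs1 x ⟨hx, mem_centralizer_singleton.mpr hc⟩ hx1 hσ

/-- A `σ'`-element with no `κ`-prime centralizing an element of `M_σ` is a `τ₂`-element with
centralizer in `M` only. -/
theorem tau2_of_hat (h : Facts G) {M : Subgroup G} (hM : IsCoatom M) {x : G} (hx : x ∈ M)
    (hx1 : x ≠ 1) (hσ : ∀ p : ℕ, p.Prime → p ∣ orderOf x → p ∉ sigma M ∧ p ∉ kappa M) {s : G}
    (hs : s ∈ sigmaCore M) (hs1 : s ≠ 1) (hc : x * s = s * x) :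
    (∀ p : ℕ, p.Prime → p ∣ orderOf x → p ∈ tau2 M) ∧
      centralizer ({x} : Set G) ≤ M ∧ ∀ L : Subgroup G, IsCoatom L →
        centralizer ({x} : Set G) ≤ L → L = M := by
  rcases sigma'_cases h hM hx hx1 (fun p hp hd => (hσ p hp hd).1) hs hs1 hc with h1 | ⟨h1, -, h3⟩
  · obtain ⟨p, hp, hd⟩ := prime_dvd_of_orderOf hx1
    exact absurd (h1.1 p hp hd) (hσ p hp hd).2
  · exact ⟨h1, h3⟩

theorem tau2_unique (h : Facts G) {M : Subgroup G} (hM : IsCoatom M) {x : G} (hx : x ∈ M)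
    (hx1 : x ≠ 1) (hτ : ∀ p : ℕ, p.Prime → p ∣ orderOf x → p ∈ tau2 M) {s : G}
    (hs : s ∈ sigmaCore M) (hs1 : s ≠ 1) (hc : x * s = s * x) :
    centralizer ({x} : Set G) ≤ M ∧ ∀ L : Subgroup G, IsCoatom L →
      centralizer ({x} : Set G) ≤ L → L = M :=
  (tau2_of_hat h hM hx hx1 (fun p hp hd => ⟨(hτ p hp hd).2.1,
    fun hk => kappa_disjoint_tau2 hk (hτ p hp hd)⟩) hs hs1 hc).2

/-- An abelian `τ₂`-subgroup centralizing an element of `M_σ` is cyclic. -/
theorem isCyclic_tau2 (h : Facts G) {M : Subgroup G} (hM : IsCoatom M) {X : Subgroup G}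
    (hXM : X ≤ M) (hXc : IsMulCommutative X)
    (hτ : ∀ p : ℕ, p.Prime → p ∣ Nat.card X → p ∈ tau2 M)
    (hne : sigmaCore M ⊓ centralizer (X : Set G) ≠ ⊥) : IsCyclic X := by
  haveI := hXc
  haveI : IsZGroup X := ⟨fun p hp P => by
    haveI := Fact.mk hp
    by_contra hc
    have hPp : IsPGroup p ((P : Subgroup X).map X.subtype) := P.isPGroup'.map _
    have hc' : ¬ IsCyclic ((P : Subgroup X).map X.subtype) := fun h' => hc
      (((P : Subgroup X).equivMapOfInjective X.subtype X.subtype_injective).isCyclic.mpr h')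
    have hdX : p ∣ Nat.card X := by
      obtain ⟨n, hn⟩ := IsPGroup.iff_card.mp P.isPGroup'
      rcases Nat.eq_zero_or_pos n with h0 | h0
      · haveI : Subsingleton (P : Subgroup X) := (Nat.card_eq_one_iff_unique.mp (by rw [hn, h0, pow_zero])).1
        exact absurd isCyclic_of_subsingleton hc
      · exact (hn ▸ dvd_pow_self p h0.ne').trans (card_subgroup_dvd_card _)
    have hp2 : p ≠ 2 := OddOrder.ne_two_of_dvd h.minSimple hdX
    obtain ⟨A, hAP, hAc, hAe, hA⟩ := H41.exists_elementary_sq_of_not_isCyclic hp2 hPp hc'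
    have hAX : A ≤ X := hAP.trans (map_subtype_le _)
    refine hne (le_bot_iff.mp (((h.tau2Abelian M hM p (hτ p hp hdX) A
      ⟨hAX.trans hXM, ⟨hAc, hAe⟩, hA⟩).2.2.2.1) ▸ ?_))
    exact inf_le_inf_left _ (centralizer_le hAX)⟩
  letI : CommGroup X := { (inferInstance : Group X) with mul_comm := hXc.is_comm.comm }
  haveI : Group.IsNilpotent X := CommGroup.isNilpotent
  infer_instance

end Cfsg.Agent.OddOrder.BG15
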