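import Cfsg.Agent.OddOrder.BG15.ThmC
import Cfsg.Agent.OddOrder.BG15.ActionTools

/-!
# BG 15.9: the partner of a maximal subgroup with a supporting subgroup of type P has no `τ₂`
-/

set_option autoImplicit false
set_option linter.style.haveILetI false
set_option linter.unusedVariables false

universe u

namespace Cfsg.Agent.OddOrder.BG15

open Subgroup H40

variable {G : Type u} [Group G] [Finite G]

/-- `M` has a complement `E = M ∩ N*` of `M_σ` which is abelian and contains the fixed points `K` of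
the Hall `κ(N*)`-subgroup `L`; if `F(M) ≤ M_σ`, then `τ₂(M)` is empty. -/
theorem tau2_eq_empty_of_partner (h : Facts G) {M Ns K L : Subgroup G} (hM : IsCoatom M)
    (hNs : IsCoatom Ns) (hκ : kappa M = ∅) (hKL : K = sigmaCore Ns ⊓ centralizer (L : Set G))
    (hL : IsPiHallOf (kappa Ns) L Ns) (hq : (Nat.card K).Prime) (hL1 : L ≠ ⊥)
    (hE : IsComplIn (M ⊓ Ns) (sigmaCore M) M) (hEc : IsMulCommutative ↥(M ⊓ Ns))
    (hKE : K ≤ M ⊓ Ns) (hF : fittingOf M ≤ sigmaCore M) : tau2 M = ∅ := by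
  have hG := h.minSimple
  refine Set.eq_empty_iff_forall_notMem.mpr fun p hp => ?_
  haveI := Fact.mk hp.1
  set E := M ⊓ Ns with hEdef
  set q := Nat.card K with hqdef
  haveI := Fact.mk hq
  have hNsM : M ≠ Ns := fun e => by
    obtain ⟨t, ht, htd⟩ := Nat.exists_prime_and_dvd (show Nat.card L ≠ 1 from
      fun e' => hL1 (card_eq_one.mp e'))
    have := hL.2.1 t ht htd
    rw [← e, hκ] at this
    exact this
  -- a subgroup of type (p, p) in `E`
  obtain ⟨A₀, hA₀M, hA₀c, hA₀e, hA₀⟩ := H41.exists_elementary_of_not_pRankLE hp.2.2.2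
  obtain ⟨S, hS⟩ := BG11.exists_sylowOf p E
  have hSM : IsSylowOf p S M := isSylowOf_of_hall (sigma'_of_compl hG hM hE) hp.1 ⟨hp.1, hp.2.1⟩ hS
  obtain ⟨m, hm, hmA⟩ := BG11.exists_conj_le hSM (IsPGroup.of_card hA₀) hA₀M
  set A := cj m A₀
  have hAe : IsElementaryAbelian p A := BG11.elemAb_cj ⟨hA₀c, hA₀e⟩ m
  have hA2 : Nat.card A = p ^ 2 := (card_cj m A₀).trans hA₀
  have hAE : A ≤ E := hmA.trans hS.1
  -- a Sylow subgroup of `G` containing `A` is abelian
  have hab : ∃ S₀ : Sylow p G, IsMulCommutative (S₀ : Subgroup G) := by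
    by_contra hno
    obtain ⟨-, ⟨hc, hFeq⟩, -⟩ :=
      h.tau2Nonabelian M hM E hE p hp (not_exists.mp hno) A ⟨hAE, hAe, hA2⟩
    have h1 : A ⊓ centralizer (sigmaCore M : Set G) = ⊥ := le_bot_iff.mp (hE.2.2.1 ▸
      le_inf (inf_le_left.trans hAE) ((le_sup_right.trans hFeq.ge).trans hF))
    rw [h1, card_bot] at hc
    exact hp.1.ne_one hc.symm
  obtain ⟨S₀, hS₀⟩ := hab
  obtain ⟨S₁, hS₁⟩ := (IsPGroup.of_card hA2).exists_le_sylow
  set P := (S₁ : Subgroup G) with hPdef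
  haveI hPc : IsMulCommutative P := by
    haveI := hS₀
    obtain ⟨g, hg⟩ := MulAction.exists_smul_eq G S₀ S₁
    rw [hPdef, ← hg, Sylow.coe_subgroup_smul]
    exact Subgroup.map_isMulCommutative _ _
  obtain ⟨hCA, hNA, -⟩ := (h.tau2Compl M hM E hE p hp A ⟨hAE, hAe, hA2⟩).2.1
  have hPCA : P ≤ centralizer (A : Set G) := fun a ha => mem_centralizer_iff.mpr fun b hb =>
    congrArg (Subtype.val : ↥P → G) (mul_comm' (⟨b, hS₁ hb⟩ : P) ⟨a, ha⟩)
  have hPE : P ≤ E := hPCA.trans (hCA.trans hNA.le)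
  have hPp : IsPGroup p P := S₁.isPGroup'
  have hPsyl : ∀ X : Subgroup G, P ≤ X → IsSylowOf p P X :=
    fun X hX => BG11.isSylowOf_mono (BG11.isSylowOf_top S₁) hX le_top
  have hPM : P ≤ M := hPE.trans inf_le_left
  have hPN : P ≤ Ns := hPE.trans inf_le_right
  have hKP : K ≤ centralizer (P : Set G) := fun a ha => mem_centralizer_iff.mpr fun b hb =>
    congrArg (Subtype.val : ↥E → G) (mul_comm' (⟨b, hPE hb⟩ : E) ⟨a, hKE ha⟩)
  have hK1 : K ≠ ⊥ := fun e => hq.ne_one (by rw [hqdef, e, card_bot])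
  have hpN : p ∣ Nat.card Ns :=
    ((hA2 ▸ dvd_pow_self p two_ne_zero : p ∣ Nat.card A)).trans
      (card_dvd_of_le (hAE.trans inf_le_right))
  -- `p ∈ σ(N*)`
  have hpσ : p ∈ sigma Ns := by
    by_contra hs
    have hk : p ∉ kappa Ns := fun hk => by
      have h1 := BG11.card_le_of_pRankLE (kappa_pRankLE_one hk) (hAE.trans inf_le_right) hAe
      rw [hA2, pow_one] at h1
      nlinarith [hp.1.two_le]
    obtain ⟨S', hS'⟩ := BG11.exists_sylow_eq (hPsyl Ns hPN)
    obtain ⟨-, h2, -⟩ := h.notPOne Ns hNs (fun hall => hk (hall p hp.1 hpN hs)) p hpN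
      (fun hu => hu.elim hs hk) S'
    rw [hS'] at h2
    refine hK1 (le_bot_iff.mp (h2 ▸ le_inf (hKL.le.trans inf_le_left) (le_centralizer_iff.mp ?_)))
    exact (closure_le _).mpr fun a ha => le_centralizer_iff.mp hKP ha.1
  have hPσ : P ≤ sigmaCore Ns := fun a ha => mem_sigmaCore hG hNs (hPN ha) fun r hr hrd => by
    rwa [(Cores.isPGroup_iff_isPiNumber hp.1).mp hPp r hr (hrd.trans (orderOf_dvd_card ha))]
  -- `p` does not divide `|K|`
  have hstar := (h.starSylow Ns hNs L hL hL1).2.2.1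
  have hKeq : sigmaCore Ns ⊓ centralizer (L : Set G) = K := hKL.symm
  have hpq : p ≠ q := by
    intro e
    obtain ⟨S', hS'⟩ := BG11.exists_sylow_eq (hPsyl _ hPσ)
    obtain ⟨hU, -, -⟩ := hstar p hp.1 (by rw [hKeq, e]) S'
    rw [hS'] at hU
    exact hNsM (BG11.eq_of_inUniqueMaximal hU hNs hPN hM hPM)
  -- the normal `p`-complement of `N*_σ`
  have hpβ : p ∉ beta Ns := fun hb => hb.1.2 (by
    obtain ⟨S', hS'⟩ := BG11.exists_sylow_eq (hPsyl Ns hPN)
    refine OddOrder.pRankLE_of_sylow S' (OddOrder.pRankLE_congr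
      ((S' : Subgroup Ns).equivMapOfInjective Ns.subtype Ns.subtype_injective).symm ?_)
    rw [hS']
    exact OddOrder.pRankLE_mono_le hPM hp.2.2.1)
  set Sσ := sigmaCore Ns with hSσ
  obtain ⟨-, ⟨P₀, B₀, hB₀n, hB₀c⟩, -⟩ := (h.betaCore Ns hNs).2.2.2.2 p hp.1 hpN hpβ
  set B := piCoreOf {r | r ≠ p} Sσ with hBdef
  have hBle : B₀.map Sσ.subtype ≤ B := by
    refine le_piCoreOf (map_subtype_le _) ?_ fun r hr hrd => ?_
    · rw [le_normalizer_iff]
      rintro a ha _ ⟨z, hz, rfl⟩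
      exact ⟨⟨a, ha⟩ * z * ⟨a, ha⟩⁻¹, hB₀n.conj_mem z hz _, rfl⟩
    · rintro rfl
      rw [card_map_of_injective Sσ.subtype_injective, ← hB₀c.index_eq_card] at hrd
      exact P₀.not_dvd_index hrd
  have hBS : B ≤ Sσ := OddOrder.piCoreOf_le _ _
  have hBindex : ∀ r : ℕ, r.Prime → r ≠ p → ¬ r ∣ B.relIndex Sσ := fun r hr hrp hrd => by
    have h1 := relIndex_dvd_of_le_left Sσ hBle
    rw [relIndex_map_subtype, hB₀c.symm.index_eq_card] at h1
    obtain ⟨k, hk⟩ := IsPGroup.iff_card.mp P₀.isPGroup'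
    exact hrp ((Nat.prime_dvd_prime_iff_eq hr hp.1).mp (hr.dvd_of_dvd_pow (hk ▸ hrd.trans h1)))
  -- an `L`-invariant Sylow `p`-subgroup centralizing `K`
  set K₀ := Sσ ⊓ centralizer (K : Set G) with hK₀
  have hLσ : L ≤ normalizer (Sσ : Set G) := hL.1.trans (le_normalizer_sigmaCore Ns)
  have hLK : L ≤ centralizer (K : Set G) := le_centralizer_iff.mp (hKL.le.trans inf_le_right)
  have hLK₀ : L ≤ normalizer (K₀ : Set G) := by
    refine le_normalizer_iff.mpr fun a ha c hc =>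
      ⟨Coprime.conj_mem (hLσ ha) hc.1, mem_centralizer_iff.mpr fun k hk => ?_⟩
    have h1 := mem_centralizer_iff.mp (hLK ha) k hk
    have h2 := mem_centralizer_iff.mp hc.2 k hk
    calc k * (a * c * a⁻¹) = (k * a) * c * a⁻¹ := by group
      _ = a * (k * c) * a⁻¹ := by rw [h1]; group
      _ = a * c * (k * a⁻¹) := by rw [h2]; group
      _ = a * c * (a⁻¹ * k) := by
        rw [show k * a⁻¹ = a⁻¹ * k by
          rw [eq_inv_mul_iff_mul_eq, ← mul_assoc, ← h1, mul_inv_cancel_right]]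
      _ = (a * c * a⁻¹) * k := by group
  have hLcop : (Nat.card L).Coprime (Nat.card Sσ) := Nat.coprime_of_dvd fun r hr h1 h2 =>
    kappa_disjoint_sigma (hL.2.1 r hr h1) (sigmaCore_isPiNumber Ns r hr h2)
  have hK₀S : K₀ ≤ Sσ := inf_le_left
  obtain ⟨P', hP'⟩ := Coprime.exists_invariant_sylow hLK₀ (Coprime.coprime_of_le hK₀S hLcop)
    (Or.inr (Coprime.isSolvable_of_le (hK₀S.trans (sigmaCore_le Ns)) (solvable hG hNs))) p
  set P₁ := (P' : Subgroup K₀).map K₀.subtype with hP₁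
  obtain ⟨c, hc, hcP⟩ := BG11.exists_conj_eq (isSylowOf_map P')
    (hPsyl K₀ (le_inf hPσ (le_centralizer_iff.mp hKP)))
  rw [← hP₁] at hcP
  haveI hP₁c : IsMulCommutative P₁ := by
    rw [← hcP]; exact Subgroup.map_isMulCommutative _ _
  have hfree : ∀ k ∈ L, k ≠ 1 → P₁ ⊓ centralizer ({k} : Set G) = ⊥ := by
    intro k hk hk1
    refine le_bot_iff.mp fun z hz => ?_
    have h1 : z ∈ K := hKL ▸
      (((h.primeAction Ns hNs L hL hL1).1 k hk hk1).le ⟨hK₀S (map_subtype_le _ hz.1), hz.2⟩)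
    refine (Coprime.inf_eq_bot ?_).le (⟨hz.1, h1⟩ : z ∈ P₁ ⊓ K)
    obtain ⟨n, hn⟩ := IsPGroup.iff_card.mp (P'.isPGroup'.map K₀.subtype)
    rw [hn, ← hqdef]
    exact ((Nat.coprime_primes hp.1 hq).mpr hpq).pow_left n
  have hP₁C : P₁ ≤ centralizer (K : Set G) := (map_subtype_le _).trans inf_le_right
  have hPBn : P₁ ≤ normalizer (B : Set G) :=
    ((map_subtype_le _).trans hK₀S).trans (OddOrder.le_normalizer_piCoreOf _ _)
  have hcent : P₁ ≤ centralizer (B : Set G) :=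
    le_centralizer_of_frobenius (Nat.card B) rfl
      (Coprime.isSolvable_of_le (hBS.trans (sigmaCore_le Ns)) (solvable hG hNs)) hPBn
      (le_normalizer_piCoreOf' hLσ) hP' hfree
      (by
        obtain ⟨n, hn⟩ := IsPGroup.iff_card.mp (P'.isPGroup'.map K₀.subtype)
        rw [hn]
        exact ((hp.1.coprime_iff_not_dvd).mpr fun hd =>
          piCoreOf_isPiNumber {r | r ≠ p} Sσ p hp.1 hd rfl).pow_left n)
      (Coprime.coprime_of_le hBS hLcop)
      ((inf_le_inf_right _ hBS).trans (hKeq.le.trans (le_centralizer_iff.mp hP₁C)))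
  -- a Sylow `q`-subgroup of `N*_σ` centralizes a conjugate of `A`
  obtain ⟨T⟩ : Nonempty (Sylow q ↥Sσ) := inferInstance
  obtain ⟨hTU, hTN, -⟩ := hstar q hq (by rw [hKeq]) T
  set Q := (T : Subgroup ↥Sσ).map Sσ.subtype
  have hQB : Q ≤ B := fun z hz => mem_of_normal_hall (OddOrder.le_normalizer_piCoreOf _ _)
    (map_subtype_le _ hz) (Nat.coprime_of_dvd fun r hr h1 h2 => hBindex r hr (by
      have := (Cores.isPGroup_iff_isPiNumber hq).mp (T.isPGroup'.map Sσ.subtype) r hr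
        (h1.trans (orderOf_dvd_card hz))
      rw [this]; exact fun e => hpq e.symm) h2)
  have hcN : c ∈ Ns := sigmaCore_le Ns (hK₀S hc)
  have hcQ : cj c⁻¹ Q ≤ M := by
    refine le_trans ?_ ((centralizer_le hS₁).trans (hCA.trans inf_le_left))
    refine (BG11.cj_mono c⁻¹ (hQB.trans (le_centralizer_iff.mp hcent))).trans ?_
    rw [BG11.cj_centralizer, ← hcP, BG11.cj_inv_cj]
  refine hNsM (BG11.eq_of_inUniqueMaximal (H41.inUniqueMaximal_map_equiv (MulAut.conj c⁻¹) hTU)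
    hNs ?_ hM hcQ)
  exact (BG11.cj_mono c⁻¹ hTN).trans (BG11.cj_eq_of_mem (inv_mem hcN)).le

end Cfsg.Agent.OddOrder.BG15
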