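import Cfsg.Agent.OddOrder.BG15.ThmB
import Cfsg.Agent.Coprime.Action
import Mathlib.GroupTheory.Abelianization.Defs

/-!
# Maximal subgroups with `κ(M) ≠ ∅`: the derived group, `|K|` and `|K*|`
-/

set_option autoImplicit false
set_option linter.style.haveILetI false
set_option linter.unusedVariables false

universe u

namespace Cfsg.Agent.OddOrder.BG15

open Subgroup H40
open scoped commutatorElement

variable {G : Type u} [Group G] [Finite G]

/-- `K* = C_{M_σ}(K)`. -/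
abbrev kStar (M K : Subgroup G) : Subgroup G := sigmaCore M ⊓ centralizer (K : Set G)

/-- A quotient of `M` in which the images of `W` and `A` commute is abelian. -/
theorem commutator_le_of_comm {M N W A : Subgroup G} (hN : N ≤ M) (hn : M ≤ normalizer (N : Set G))
    (hWM : W ≤ M) (hAM : A ≤ M) (hmem : ∀ m ∈ M, ∃ w ∈ W, ∃ a ∈ A, m = w * a)
    (hWW : ∀ w ∈ W, ∀ v ∈ W, w * v * w⁻¹ * v⁻¹ ∈ N)
    (hWA : ∀ w ∈ W, ∀ a ∈ A, w * a * w⁻¹ * a⁻¹ ∈ N)
    (hAA : ∀ a ∈ A, ∀ b ∈ A, a * b * a⁻¹ * b⁻¹ ∈ N) : ⁅M, M⁆ ≤ N := by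
  haveI := normal_subgroupOf_of_le_normalizer hn
  set f := QuotientGroup.mk' (N.subgroupOf M)
  have key : ∀ (x y : G) (hx : x ∈ M) (hy : y ∈ M), x * y * x⁻¹ * y⁻¹ ∈ N →
      Commute (f ⟨x, hx⟩) (f ⟨y, hy⟩) := by
    intro x y hx hy h
    refine commutatorElement_eq_one_iff_mul_comm.mp ?_
    rw [← map_commutatorElement]
    refine (QuotientGroup.eq_one_iff _).mpr (mem_subgroupOf.mpr ?_)
    simpa [commutatorElement_def] using h
  refine commutator_le.mpr fun x hx y hy => ?_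
  obtain ⟨w, hw, a, ha, rfl⟩ := hmem x hx
  obtain ⟨v, hv, b, hb, rfl⟩ := hmem y hy
  have h1 := key w v (hWM hw) (hWM hv) (hWW w hw v hv)
  have h2 := key w b (hWM hw) (hAM hb) (hWA w hw b hb)
  have h3 := key v a (hWM hv) (hAM ha) (hWA v hv a ha)
  have h4 := key a b (hAM ha) (hAM hb) (hAA a ha b hb)
  have h5 : Commute (f (⟨w, hWM hw⟩ * ⟨a, hAM ha⟩)) (f (⟨v, hWM hv⟩ * ⟨b, hAM hb⟩)) := by
    rw [map_mul, map_mul]
    exact (h1.mul_right h2).mul_left (h3.symm.mul_right h4)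
  have h6 : f ⁅(⟨w * a, hx⟩ : M), ⟨v * b, hy⟩⁆ = 1 := by
    rw [map_commutatorElement]
    exact commutatorElement_eq_one_iff_mul_comm.mpr h5
  exact mem_subgroupOf.mp ((QuotientGroup.eq_one_iff _).mp h6)

/-- If an abelian group of operators `A` of coprime order leaves no non-trivial central quotient of
`W`, its fixed points lie in `W'`. -/
theorem inf_centralizer_le_derived {W A : Subgroup G} (hA : A ≤ normalizer (W : Set G))
    (hcop : (Nat.card A).Coprime (Nat.card W))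
    (hgen : W ≤ ⁅W, W⁆ ⊔ ⁅W, A⁆) :
    W ⊓ centralizer (A : Set G) ≤ ⁅W, W⁆ := by
  classical
  haveI : Fintype A := Fintype.ofFinite A
  let θ : A → W → W := fun a w => ⟨(a : G) * w * (a : G)⁻¹, Coprime.conj_mem (hA a.2) w.2⟩
  let φ := Abelianization.of (G := W)
  have hθ : ∀ a w v, θ a (w * v) = θ a w * θ a v := fun a w v => Subtype.ext (by simp [θ, mul_assoc])
  let ν : W →* Abelianization W := MonoidHom.mk' (fun w => ∏ a : A, φ (θ a w)) fun w v => by
    simp only [hθ, map_mul, Finset.prod_mul_distrib]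
  have hcomm : ∀ (w : W) (b : A), ν (θ b w) = ν w := by
    intro w b
    show ∏ a : A, φ (θ a (θ b w)) = ∏ a : A, φ (θ a w)
    rw [← Equiv.prod_comp (Equiv.mulRight b) (fun a => φ (θ a w))]
    refine Finset.prod_congr rfl fun a _ => congrArg φ (Subtype.ext ?_)
    simp [θ, mul_assoc]
  have hker : ∀ w : W, ν w = 1 := by
    intro w
    have h1 : ⁅W, W⁆ ⊔ ⁅W, A⁆ ≤ ν.ker.map W.subtype := by
      refine sup_le (commutator_le.mpr fun x hx y hy => ?_) (commutator_le.mpr fun x hx a ha => ?_)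
      · refine ⟨⁅(⟨x, hx⟩ : W), ⟨y, hy⟩⁆, ?_, rfl⟩
        rw [SetLike.mem_coe, MonoidHom.mem_ker, map_commutatorElement]
        exact commutatorElement_eq_one_iff_mul_comm.mpr (mul_comm _ _)
      · refine ⟨(⟨x, hx⟩ : W) * θ ⟨a, ha⟩ (⟨x, hx⟩⁻¹), ?_, ?_⟩
        · rw [SetLike.mem_coe, MonoidHom.mem_ker, map_mul, hcomm, ← map_mul, mul_inv_cancel, map_one]
        · simp [θ, commutatorElement_def, mul_assoc]
    obtain ⟨v, hv, hvw⟩ := h1 (hgen w.2)
    exact (Subtype.ext hvw : v = w) ▸ hv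
  rintro c ⟨hcW, hcA⟩
  have hc1 : φ ⟨c, hcW⟩ ^ Nat.card A = 1 := by
    have e : ν ⟨c, hcW⟩ = φ ⟨c, hcW⟩ ^ Nat.card A := by
      show ∏ a : A, φ (θ a ⟨c, hcW⟩) = _
      rw [Nat.card_eq_fintype_card, ← Finset.card_univ, ← Finset.prod_const]
      refine Finset.prod_congr rfl fun a _ => congrArg φ (Subtype.ext ?_)
      exact Coprime.conj_eq_of_mem_centralizer hcA a.2
    rw [← e, hker]
  have hd : orderOf (φ ⟨c, hcW⟩) ∣ Nat.card W := by
    refine (orderOf_map_dvd φ _).trans ?_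
    exact orderOf_dvd_natCard _
  have h1 : φ ⟨c, hcW⟩ = 1 := orderOf_eq_one_iff.mp
    (Nat.eq_one_of_dvd_coprimes hcop (orderOf_dvd_of_pow_eq_one hc1) hd)
  have h2 : (⟨c, hcW⟩ : W) ∈ commutator W := by
    rw [← Abelianization.ker_of]
    exact h1
  rw [← map_subtype_commutator]
  exact ⟨_, h2, rfl⟩

section

variable {M K U : Subgroup G}

theorem K_comm (D : IsSigmaDecomposition M K U) : ∀ a ∈ K, ∀ b ∈ K, a * b = b * a := by
  intro a ha b hb
  haveI := D.cyclic
  letI := IsCyclic.commGroup (α := K)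
  exact congrArg Subtype.val (mul_comm (⟨a, ha⟩ : K) ⟨b, hb⟩)

theorem U_inf_centralizer (h : Facts G) (hM : IsCoatom M) (D : IsSigmaDecomposition M K U)
    (hK1 : K ≠ ⊥) : U ⊓ centralizer (K : Set G) = ⊥ := by
  obtain ⟨k, hk, hk1⟩ := H41.exists_ne_one hK1
  refine le_bot_iff.mp ((inf_le_inf_left U ?_).trans (h.kActsFpf M hM K U D k hk hk1).le)
  exact centralizer_le (Set.singleton_subset_iff.mpr hk)

/-- The first part of S1365. -/
theorem derived_eq (h : Facts G) (hM : IsCoatom M) (D : IsSigmaDecomposition M K U)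
    (hK1 : K ≠ ⊥) : ⁅M, M⁆ = U ⊔ sigmaCore M := by
  have hG := h.minSimple
  have hUM := (decomp_le D).2
  have hW : U ⊔ sigmaCore M ≤ M := sup_le hUM (sigmaCore_le M)
  refine le_antisymm ?_ (sup_le ?_ (BG10.sigmaCore_le_derived hG hM))
  · refine commutator_le_of_comm hW ((h.decompExists M hM K D.cyclic D.hall).2 U D) hW D.hall.1
      (fun m hm => ?_) (fun w hw v hv => ?_) (fun w hw a ha => ?_) fun a ha b hb => ?_
    · obtain ⟨u, hu, b, hb, rfl⟩ := D.compl.2.2.2 m hm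
      obtain ⟨k, hk, s, hs, rfl⟩ := exists_of_mem_sup (le_normalizer_sigmaCore_of_le D.hall.1) hb
      refine ⟨u * (k * s * k⁻¹), mul_mem_sup hu
        (Coprime.conj_mem (le_normalizer_sigmaCore_of_le D.hall.1 hk) hs), k, hk, by group⟩
    · exact mul_mem (mul_mem (mul_mem hw hv) (inv_mem hw)) (inv_mem hv)
    · have : a * w⁻¹ * a⁻¹ ∈ U ⊔ sigmaCore M := Coprime.conj_mem
        ((h.decompExists M hM K D.cyclic D.hall).2 U D (D.hall.1 ha)) (inv_mem hw)
      rw [show w * a * w⁻¹ * a⁻¹ = w * (a * w⁻¹ * a⁻¹) by group]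
      exact mul_mem hw this
    · rw [K_comm D a ha b hb, mul_inv_cancel_right, mul_inv_cancel]
      exact one_mem _
  · calc U = ⁅U, K⁆ ⊔ (U ⊓ centralizer (K : Set G)) :=
          (Coprime.commutator_sup_centralizer D.normal (coprime_U_K hG hM D).symm
            (Or.inr (Coprime.isSolvable_of_le hUM (solvable hG hM)))).symm
      _ = ⁅U, K⁆ := by rw [U_inf_centralizer h hM D hK1, sup_bot_eq]
      _ ≤ ⁅M, M⁆ := commutator_mono hUM D.hall.1

/-- S1365. -/
theorem derived_structure (h : Facts G) (hM : IsCoatom M) (D : IsSigmaDecomposition M K U)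
    (hK1 : K ≠ ⊥) : ⁅M, M⁆ = U ⊔ sigmaCore M ∧ kStar M K ≤ ⁅⁅M, M⁆, ⁅M, M⁆⁆ := by
  have hG := h.minSimple
  have e := derived_eq h hM D hK1
  refine ⟨e, ?_⟩
  set W := ⁅M, M⁆ with hWdef
  have hWM : W ≤ M := commutator_le_self M
  have hWn : M ≤ normalizer (W : Set G) := by
    rw [e]; exact (h.decompExists M hM K D.cyclic D.hall).2 U D
  clear_value W
  have hKW : (Nat.card K).Coprime (Nat.card W) := by
    rw [e, card_sup_of_normalizes (le_normalizer_sigmaCore_of_le (decomp_le D).2)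
      ((coprime_UK_sigmaCore hG hM D).coprime_dvd_left (Dvd.intro _ rfl))]
    exact Nat.Coprime.mul_right (coprime_U_K hG hM D).symm (coprime_K_sigmaCore D)
  refine le_trans ?_ (inf_centralizer_le_derived (D.hall.1.trans hWn) hKW ?_)
  · exact inf_le_inf_right _ (le_sup_right.trans e.ge)
  set N := ⁅W, W⁆ ⊔ ⁅W, K⁆ with hN
  have hKn : K ≤ normalizer (W : Set G) := D.hall.1.trans hWn
  have hNW : N ≤ W := sup_le (commutator_le_self W) (Coprime.commutator_le_left_of_normalizer hKn)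
  have hmemM : ∀ m ∈ M, ∃ w ∈ W, ∃ a ∈ K, m = w * a := by
    intro m hm
    obtain ⟨u, hu, b, hb, rfl⟩ := D.compl.2.2.2 m hm
    obtain ⟨k, hk, s, hs, rfl⟩ := exists_of_mem_sup (le_normalizer_sigmaCore_of_le D.hall.1) hb
    refine ⟨u * (k * s * k⁻¹), e ▸ mul_mem_sup hu
      (Coprime.conj_mem (le_normalizer_sigmaCore_of_le D.hall.1 hk) hs), k, hk, by group⟩
  have hWNn : W ≤ normalizer (N : Set G) := by
    intro w hw
    refine mem_normalizer_iff.mpr fun x => ?_
    have h1 : ∀ w ∈ W, ∀ x ∈ N, w * x * w⁻¹ ∈ N := by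
      intro w hw x hx
      rw [show w * x * w⁻¹ = ⁅w, x⁆ * x by simp [commutatorElement_def, mul_assoc]]
      exact mul_mem (mem_sup_left (commutator_mem_commutator hw (hNW hx))) hx
    exact ⟨h1 w hw x, fun hx => by simpa [mul_assoc] using h1 w⁻¹ (inv_mem hw) _ hx⟩
  have hKNn : K ≤ normalizer (N : Set G) := fun k hk =>
    Coprime.mem_normalizer_of_map_conj (by
      rw [hN, Subgroup.map_sup, Subgroup.map_commutator, Subgroup.map_commutator,
        Coprime.map_conj_eq (hKn hk), Coprime.map_conj_eq (le_normalizer hk)])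
  have hMNn : M ≤ normalizer (N : Set G) := fun m hm => by
    obtain ⟨w, hw, a, ha, rfl⟩ := hmemM m hm
    exact mul_mem (hWNn hw) (hKNn ha)
  refine hWdef.le.trans (commutator_le_of_comm (hNW.trans hWM) hMNn hWM D.hall.1 hmemM
    (fun w hw v hv => mem_sup_left (commutator_mem_commutator hw hv))
    (fun w hw a ha => mem_sup_right (commutator_mem_commutator hw ha)) fun a ha b hb => ?_)
  rw [K_comm D a ha b hb, mul_inv_cancel_right, mul_inv_cancel]
  exact one_mem _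

/-- The consequences of `U ≠ 1` and `K ≠ 1` other than the TI property. -/
theorem P2_structure (h : Facts G) (hM : IsCoatom M) (D : IsSigmaDecomposition M K U)
    (hK1 : K ≠ ⊥) (hU1 : U ≠ ⊥) :
    (Nat.card K).Prime ∧ Group.IsNilpotent (sigmaCore M) ∧
      sigmaCore M ⊓ centralizer (U : Set G) = ⊥ ∧
      Nat.card (sigmaCore M) = Nat.card (kStar M K) ^ Nat.card K := by
  have hG := h.minSimple
  obtain ⟨r, hr, hrd⟩ := Nat.exists_prime_and_dvd (show Nat.card U ≠ 1 from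
    fun e => hU1 (card_eq_one.mp e))
  haveI := Fact.mk hr
  obtain ⟨hs, hk⟩ := not_dvd_U_of_sigma hG hM D hr hrd
  obtain ⟨R, hR⟩ := BG11.exists_sylowOf r U
  obtain ⟨S, hS⟩ := BG11.exists_sylow_eq (isSylowOf_of_hall (U_hall hG hM D) hr ⟨hr, hk, hs⟩ hR)
  obtain ⟨-, hC, hnil⟩ := h.notPOne M hM (not_P_one hG hM D hU1) r
    (hrd.trans (card_dvd_of_le (decomp_le D).2)) (fun h' => h'.elim hs hk) S
  rw [hS] at hC
  have hCU : sigmaCore M ⊓ centralizer (U : Set G) = ⊥ := le_bot_iff.mp (hC ▸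
    inf_le_inf_left _ (centralizer_le ((closure_le U).mpr fun x hx => hR.1 hx.1)))
  have hUK : U ⊔ K ≤ M := sup_le (decomp_le D).2 D.hall.1
  obtain ⟨h1, h2, -⟩ := h.frobeniusSections U K (sigmaCore M) hU1 hK1
    (Coprime.inf_eq_bot (coprime_U_K hG hM D)) D.normal (h.kActsFpf M hM K U D)
    (Coprime.isSolvable_of_le hUK (solvable hG hM)) (OddOrder.odd_card hG _)
    (BG10.sigmaCore_ne_bot hG hM) hnil (le_normalizer_sigmaCore_of_le (decomp_le D).2)
    (le_normalizer_sigmaCore_of_le D.hall.1)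
    (by rw [card_U_sup_K hG hM D]; exact coprime_UK_sigmaCore hG hM D) hCU
    (h.primeAction M hM K D.hall hK1).1
  exact ⟨h1, hnil, hCU, h2⟩

/-- S1373. -/
theorem kStar_prime (h : Facts G) (hM : IsCoatom M) (D : IsSigmaDecomposition M K U)
    (hK1 : K ≠ ⊥) (hU : U = ⊥) : (Nat.card (kStar M K)).Prime := by
  obtain ⟨Ms, ⟨hMs, hKs, hKsH⟩, -⟩ := h.starExists M hM K U D hK1
  have hcyc := (h.kappaHall Ms hMs).2 _ hKsH
  obtain ⟨U', hU'⟩ := (h.decompExists Ms hMs _ hcyc hKsH).1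
  have hU'1 : U' ≠ ⊥ :=
    ((h.starClasses M hM K U D hK1 Ms hMs hKs hKsH).1.resolve_left (fun hne => hne hU)) U' hU'
  exact (P2_structure h hMs hU' (h.kCentralizer M hM K D.cyclic D.hall).1 hU'1).1

end

end Cfsg.Agent.OddOrder.BG15
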